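import Mathlib
import Cfsg.Agent.S5513
import Cfsg.Agent.Lib.Involutions.StronglyEmbedded

/-!
A subgroup of order 3265920 without elements of order 35 that contains the centralizer of an involution and
fuses all involutions of that centralizer is the whole group.
-/

set_option autoImplicit false
set_option linter.all false

namespace Cfsg.Agent.U43

open Subgroup hiding inv

universe u v

section odd

variable {D : Type u} [Group D] [Finite D]

/-- An element normalizing a group of prime order centralizes it if its order is prime to `p - 1`. -/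
theorem commute_of_normalize {p : ℕ} [hp : Fact p.Prime] {x y : D} (hx : orderOf x = p)
    (hy : y * x * y⁻¹ ∈ zpowers x) (hq : (orderOf y).Coprime (p - 1)) : Commute y x := by
  obtain ⟨k, hk⟩ : y * x * y⁻¹ ∈ Submonoid.powers x :=
    (isOfFinOrder_of_finite x).mem_powers_iff_mem_zpowers.2 hy
  have hit : ∀ n : ℕ, y ^ n * x * (y ^ n)⁻¹ = x ^ (k ^ n) := by
    intro n
    induction n with
    | zero => simp
    | succ n ih =>
      calc y ^ (n + 1) * x * (y ^ (n + 1))⁻¹ = y * (y ^ n * x * (y ^ n)⁻¹) * y⁻¹ := by rw [pow_succ']; group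
        _ = (y * x * y⁻¹) ^ (k ^ n) := by rw [ih, conj_pow]
        _ = x ^ (k ^ (n + 1)) := by rw [← hk, ← pow_mul, pow_succ']
  have h1 := hit (orderOf y)
  rw [pow_orderOf_eq_one, one_mul, inv_one, mul_one] at h1
  have h2 : k ^ orderOf y ≡ 1 [MOD p] := by
    rw [← hx, ← pow_eq_pow_iff_modEq, pow_one]
    exact h1.symm
  have h3 : ((k : ZMod p)) ^ orderOf y = 1 := by
    have := (ZMod.natCast_eq_natCast_iff _ _ _).2 h2
    push_cast at this
    exact this
  have hk0 : (k : ZMod p) ≠ 0 := fun e => by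
    rw [e, zero_pow (orderOf_pos y).ne'] at h3
    exact zero_ne_one h3
  have h4 : orderOf (k : ZMod p) = 1 := Nat.eq_one_of_dvd_coprimes hq (orderOf_dvd_of_pow_eq_one h3)
    (orderOf_dvd_of_pow_eq_one (ZMod.pow_card_sub_one_eq_one hk0))
  have h5 : k ≡ 1 [MOD p] := (ZMod.natCast_eq_natCast_iff _ _ _).1 (by rw [orderOf_eq_one_iff.1 h4, Nat.cast_one])
  have : y * x * y⁻¹ = x := by
    rw [← hk]
    conv_rhs => rw [← pow_one x]
    rw [pow_eq_pow_iff_modEq, hx]
    exact h5
  exact mul_inv_eq_iff_eq_mul.1 this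

/-- A group of odd order divisible exactly by 5 and exactly by 7 has an element of order 35. -/
theorem exists_35 (hodd : Odd (Nat.card D)) (h5 : 5 ∣ Nat.card D) (h5' : ¬ 5 ^ 2 ∣ Nat.card D)
    (h7 : 7 ∣ Nat.card D) (h7' : ¬ 7 ^ 2 ∣ Nat.card D) : ∃ g : D, orderOf g = 35 := by
  classical
  haveI : Fact (Nat.Prime 5) := ⟨by norm_num⟩
  haveI : Fact (Nat.Prime 7) := ⟨by norm_num⟩
  obtain ⟨P⟩ : Nonempty (Sylow 5 D) := inferInstance
  have hP : Nat.card P = 5 := by
    rw [P.card_eq_multiplicity]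
    have : (Nat.card D).factorization 5 = 1 := by
      refine le_antisymm ?_ (Nat.Prime.factorization_pos_of_dvd (by norm_num) Nat.card_pos.ne' h5)
      by_contra hlt
      exact h5' ((pow_dvd_pow 5 (by omega : 2 ≤ (Nat.card D).factorization 5)).trans (Nat.ordProj_dvd _ _))
    rw [this, pow_one]
  obtain ⟨⟨x, hxP⟩, hx⟩ := (isCyclic_of_prime_card hP).exists_generator
  have hxo : orderOf x = 5 := by
    rw [← hP, ← Subgroup.orderOf_mk x hxP]
    exact orderOf_eq_card_of_forall_mem_zpowers hx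
  have hPz : (P : Subgroup D) = zpowers x := (eq_of_le_of_card_ge (zpowers_le.2 hxP)
    (by rw [Nat.card_zpowers, hxo]; exact hP.le)).symm
  have hcen : Subgroup.normalizer ((P : Subgroup D) : Set D) ≤ centralizer ((P : Subgroup D) : Set D) := by
    intro y hy
    rw [hPz] at hy ⊢
    have hcop : (orderOf y).Coprime (5 - 1) := by
      have ho : Odd (orderOf y) := Odd.of_dvd_nat hodd (orderOf_dvd_natCard y)
      exact (Nat.Coprime.pow_right 2 (Nat.coprime_two_right.2 ho) : (orderOf y).Coprime (2 ^ 2))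
    have hc := commute_of_normalize hxo ((Subgroup.mem_normalizer_iff.1 hy x).1 (mem_zpowers x)) hcop
    refine mem_centralizer_iff.2 fun c hc' => ?_
    obtain ⟨n, rfl⟩ := hc'
    exact ((hc.zpow_right n).eq).symm
  have hM := MonoidHom.ker_transferSylow_isComplement' P hcen
  set M := (MonoidHom.transferSylow P hcen).ker
  have hMP := hM.card_mul
  rw [hP] at hMP
  have h7M : 7 ∣ Nat.card M := by
    rw [← hMP] at h7
    exact ((Nat.Coprime.dvd_of_dvd_mul_right (by norm_num) h7))
  obtain ⟨Q⟩ : Nonempty (Sylow 7 M) := inferInstance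
  have hQ : Nat.card Q = 7 := by
    rw [Q.card_eq_multiplicity]
    have : (Nat.card M).factorization 7 = 1 := by
      refine le_antisymm ?_ (Nat.Prime.factorization_pos_of_dvd (by norm_num) Nat.card_pos.ne' h7M)
      by_contra hlt
      exact h7' (((pow_dvd_pow 7 (by omega : 2 ≤ (Nat.card M).factorization 7)).trans (Nat.ordProj_dvd _ _)).trans
        (card_subgroup_dvd_card M))
    rw [this, pow_one]
  have hfr := Sylow.normalizer_sup_eq_top Q
  set Q' := (Q : Subgroup M).map M.subtype
  set N := Subgroup.normalizer (Q' : Set D)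
  have h5N : 5 ∣ Nat.card N := by
    have hs : Function.Surjective ((QuotientGroup.mk' M).comp N.subtype) := by
      intro q
      obtain ⟨g, rfl⟩ := QuotientGroup.mk'_surjective M q
      obtain ⟨n, hn, m, hm, rfl⟩ := Subgroup.mem_sup_of_normal_right.1 (hfr ▸ mem_top g : g ∈ N ⊔ M)
      refine ⟨⟨n, hn⟩, ?_⟩
      show QuotientGroup.mk' M n = QuotientGroup.mk' M (n * m)
      rw [map_mul, show QuotientGroup.mk' M m = 1 from (QuotientGroup.eq_one_iff m).2 hm, mul_one]
    have hd := Subgroup.card_dvd_of_surjective _ hs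
    have hi : Nat.card (D ⧸ M) = 5 := by
      rw [← index_eq_card]
      have := M.card_mul_index
      rw [← hMP] at this
      exact Nat.eq_of_mul_eq_mul_left Nat.card_pos this
    rwa [hi] at hd
  obtain ⟨⟨y, hyN⟩, hy⟩ := exists_prime_orderOf_dvd_card' (G := N) 5 h5N
  rw [Subgroup.orderOf_mk] at hy
  have hQ' : Nat.card Q' = 7 := by rw [card_map_of_injective M.subtype_injective]; exact hQ
  obtain ⟨⟨w, hwQ⟩, hw⟩ := exists_prime_orderOf_dvd_card' (G := Q') 7 hQ'.symm.dvd
  rw [Subgroup.orderOf_mk] at hw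
  have hQz : Q' = zpowers w := (eq_of_le_of_card_ge (zpowers_le.2 hwQ)
    (by rw [Nat.card_zpowers, hw]; exact hQ'.le)).symm
  have hmem : y * w * y⁻¹ ∈ zpowers w := by
    rw [← hQz]; exact (Subgroup.mem_normalizer_iff.1 hyN w).1 hwQ
  have hc := commute_of_normalize hw hmem (by rw [hy]; norm_num)
  exact ⟨y * w, by rw [hc.orderOf_mul_eq_mul_orderOf_of_coprime (by rw [hy, hw]; norm_num), hy, hw]⟩

end odd

variable {G : Type v} [Group G] [Finite G] {z : G} {M : Subgroup G}

/-- All involutions of such a subgroup are conjugate in it. -/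
theorem conj_in (hz : orderOf z = 2) (hzM : z ∈ M)
    (hconj : ∀ i : G, orderOf i = 2 → i * z = z * i → ∃ h ∈ M, h * z * h⁻¹ = i)
    {i : G} (hiM : i ∈ M) (hi : orderOf i = 2) : ∃ h ∈ M, h * z * h⁻¹ = i := by
  rcases Nat.even_or_odd (orderOf (z * i)) with he | ho
  · obtain ⟨hw, hwz, hwi⟩ := Involutions.Basic.middle_involution hz hi he
    set w := (z * i) ^ (orderOf (z * i) / 2)
    obtain ⟨h, hh, hhw⟩ := hconj w hw hwz.eq
    have hc : h⁻¹ * i * h * z = z * (h⁻¹ * i * h) := by
      calc h⁻¹ * i * h * z = h⁻¹ * (i * (h * z * h⁻¹)) * h := by group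
        _ = h⁻¹ * ((h * z * h⁻¹) * i) * h := by rw [hhw, hwi.symm.eq]
        _ = _ := by group
    obtain ⟨k, hk, hkz⟩ := hconj (h⁻¹ * i * h)
      (by rw [show h⁻¹ * i * h = h⁻¹ * i * h⁻¹⁻¹ by group, Involutions.Basic.orderOf_conj, hi]) hc
    refine ⟨h * k, mul_mem hh hk, ?_⟩
    rw [show h * k * z * (h * k)⁻¹ = h * (k * z * k⁻¹) * h⁻¹ by group, hkz]
    group
  · obtain ⟨k, hk⟩ := ho
    have hzz : z * z = 1 := by rw [← pow_two, ← hz, pow_orderOf_eq_one]
    have hii : i * i = 1 := by rw [← pow_two, ← hi, pow_orderOf_eq_one]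
    have hzi : z⁻¹ = z := inv_eq_of_mul_eq_one_right hzz
    have hiI : i⁻¹ = i := inv_eq_of_mul_eq_one_right hii
    have hone : (z * i) ^ (2 * k + 1) = 1 := hk ▸ pow_orderOf_eq_one _
    refine ⟨(z * i) ^ k, pow_mem (mul_mem hzM hiM) k, ?_⟩
    have hinv : z * ((z * i) ^ k)⁻¹ = (z * i) ^ k * z := by
      have h1 : z * (z * i)⁻¹ * z⁻¹ = z * i := by
        rw [mul_inv_rev, hiI, hzi, mul_assoc z, mul_assoc i z z, hzz, mul_one]
      calc z * ((z * i) ^ k)⁻¹ = z * ((z * i)⁻¹) ^ k * z⁻¹ * z := by rw [inv_pow]; group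
        _ = _ := by rw [← conj_pow, h1]
    rw [mul_assoc, hinv, ← mul_assoc, ← pow_add]
    calc (z * i) ^ (k + k) * z = (z * i) ^ (2 * k + 1) * (z * i)⁻¹ * z := by rw [two_mul, pow_succ]; group
      _ = i * (z * z) := by rw [hone, one_mul, mul_inv_rev, hiI, hzi, mul_assoc]
      _ = i := by rw [hzz, mul_one]

/-- Such a subgroup is strongly embedded unless it is everything. -/
theorem strongly_embedded (hz : orderOf z = 2) (hC : centralizer ({z} : Set G) ≤ M)
    (hconj : ∀ i : G, orderOf i = 2 → i * z = z * i → ∃ h ∈ M, h * z * h⁻¹ = i) (hne : M ≠ ⊤) :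
    Cfsg.IsStronglyEmbedded M := by
  have hzM : z ∈ M := hC (mem_centralizer_singleton_iff.2 rfl)
  refine Involutions.StronglyEmbedded.of_conj hne (even_iff_two_dvd.2 (hz ▸ M.orderOf_dvd_natCard hzM))
    fun t htM ht g hg => ?_
  obtain ⟨h, hh, rfl⟩ := conj_in hz hzM hconj htM ht
  obtain ⟨k, hk, hkz⟩ := conj_in hz hzM hconj hg (by rw [Involutions.Basic.orderOf_conj, ht])
  have hc : k⁻¹ * g * h ∈ centralizer ({z} : Set G) := by
    refine mem_centralizer_singleton_iff.2 ?_
    calc k⁻¹ * g * h * z = k⁻¹ * (g * (h * z * h⁻¹) * g⁻¹) * (g * h) := by group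
      _ = k⁻¹ * (k * z * k⁻¹) * (g * h) := by rw [hkz]
      _ = _ := by group
  rw [show g = k * (k⁻¹ * g * h) * h⁻¹ by group]
  exact mul_mem (mul_mem hk (hC hc)) (inv_mem hh)

/-- A subgroup with the order and the elements of `U₄(3)` over the centralizer of `z` is the whole group. -/
theorem eq_top (hz : orderOf z = 2) (hC : centralizer ({z} : Set G) ≤ M)
    (hCcard : Nat.card (centralizer ({z} : Set G)) = 1152)
    (hconj : ∀ i : G, orderOf i = 2 → i * z = z * i → ∃ h ∈ M, h * z * h⁻¹ = i)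
    (hcard : Nat.card M = 3265920) (h35 : ∀ g ∈ M, orderOf g ≠ 35) : M = ⊤ := by
  classical
  by_contra hne
  have hzM : z ∈ M := hC (mem_centralizer_singleton_iff.2 rfl)
  have hSE := strongly_embedded hz hC hconj hne
  obtain ⟨u, huM, hu⟩ := Involutions.StronglyEmbedded.exists_involution_notMem hSE
  set D0 := M ⊓ M.map (MulAut.conj u).toMonoidHom with hD0
  have hodd : Odd (Nat.card D0) := hSE.2.2 u huM
  set Cz := (centralizer ({z} : Set G)).subgroupOf M
  have hCz : Nat.card Cz = 1152 := by rw [Nat.card_congr (subgroupOfEquivOfLe hC).toEquiv, hCcard]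
  have hidx : Cz.index = 2835 := by
    have := Cz.card_mul_index
    rw [hCz, hcard] at this
    omega
  set S0 := (centralizer ({z} : Set G)).subgroupOf D0
  have hle : Cz.index ∣ Nat.card D0 := by
    have hbij : Cz.index = S0.index := by
      rw [index_eq_card, index_eq_card]
      symm
      refine Nat.card_eq_of_bijective (Quotient.lift (fun d : D0 => ((⟨d, d.2.1⟩ : M) : M ⧸ Cz)) fun a b hab =>
        QuotientGroup.eq.2 (QuotientGroup.leftRel_apply.1 hab : a⁻¹ * b ∈ S0)) ⟨?_, ?_⟩
      · intro a b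
        induction a using QuotientGroup.induction_on with
        | H a =>
          induction b using QuotientGroup.induction_on with
          | H b =>
            intro e
            exact QuotientGroup.eq.2 (QuotientGroup.eq.1 e : (⟨a, a.2.1⟩ : M)⁻¹ * ⟨b, b.2.1⟩ ∈ Cz)
      · intro q
        induction q using QuotientGroup.induction_on with
        | H g =>
          obtain ⟨d, hd, hdz⟩ := Involutions.StronglyEmbedded.exists_conj_in_inter hSE hu huM hz hzM
            (t := (g : G) * z * (g : G)⁻¹) (by rw [Involutions.Basic.orderOf_conj, hz])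
            (mul_mem (mul_mem g.2 hzM) (inv_mem g.2))
          refine ⟨QuotientGroup.mk (⟨d, hd⟩ : D0), QuotientGroup.eq.2 ?_⟩
          refine mem_centralizer_singleton_iff.2 ?_
          show (d⁻¹ * (g : G)) * z = z * (d⁻¹ * (g : G))
          calc d⁻¹ * (g : G) * z = d⁻¹ * ((g : G) * z * (g : G)⁻¹) * g := by group
            _ = d⁻¹ * (d * z * d⁻¹) * g := by rw [hdz]
            _ = _ := by group
    rw [hbij]
    exact ⟨_, (mul_comm _ _).trans S0.card_mul_index |>.symm⟩
  rw [hidx] at hle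
  have hdvd : Nat.card D0 ∣ 3265920 := hcard ▸ Subgroup.card_dvd_of_le inf_le_left
  obtain ⟨g, hg⟩ := exists_35 hodd ((show 5 ∣ 2835 by norm_num).trans hle)
    (fun hh => absurd (hh.trans hdvd) (by norm_num)) ((show 7 ∣ 2835 by norm_num).trans hle)
    (fun hh => absurd (hh.trans hdvd) (by norm_num))
  exact h35 g g.2.1 (by rw [Subgroup.orderOf_coe, hg])

/-- There is no element of order 35 in `U₄(3)`. -/
theorem psu_no_35 {K : Type} [Field K] [Fintype K] (hK : Fintype.card K = 9) (g : Cfsg.PSU 4 K 3) :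
    orderOf g ≠ 35 := by
  intro hg
  set x := g ^ 5 with hxdef
  have hx : orderOf x = 7 := by rw [hxdef, orderOf_pow' g (by norm_num), hg]; norm_num
  have hX : Nat.card (zpowers x) = 7 := by rw [Nat.card_zpowers, hx]
  obtain ⟨-, hcen⟩ := S5513.result K hK (zpowers x) hX
  have hmem : g ∈ Subgroup.centralizer ((zpowers x : Subgroup (Cfsg.PSU 4 K 3)) : Set (Cfsg.PSU 4 K 3)) :=
    mem_centralizer_iff.2 fun c hc => by
      obtain ⟨n, rfl⟩ := hc
      exact (((Commute.refl g).pow_left 5).zpow_left n).eq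
  rw [hcen] at hmem
  have := (zpowers x).orderOf_dvd_natCard hmem
  rw [hg, hX] at this
  norm_num at this

/-- A subgroup isomorphic to `U₄(3)` over the centralizer of `z` is the whole group. -/
theorem eq_top_of_equiv {K : Type} [Field K] [Fintype K] (hK : Fintype.card K = 9)
    (hz : orderOf z = 2) (hC : centralizer ({z} : Set G) ≤ M)
    (hCcard : Nat.card (centralizer ({z} : Set G)) = 1152)
    (hconj : ∀ i : G, orderOf i = 2 → i * z = z * i → ∃ h ∈ M, h * z * h⁻¹ = i)
    (e : Cfsg.PSU 4 K 3 ≃* M) : M = ⊤ := by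
  refine eq_top hz hC hCcard hconj ?_ fun g hg => ?_
  · rw [← Nat.card_congr e.toEquiv]
    exact S5513.card_PSU_four (by rw [hK]; norm_num)
  · have := psu_no_35 hK (e.symm ⟨g, hg⟩)
    rwa [MulEquiv.orderOf_eq, Subgroup.orderOf_mk] at this

end Cfsg.Agent.U43
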