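import Cfsg.Agent.Lib.U43.Words

/-!
Relators on the normalizer of the first elementary group of order sixteen: the letters `0, ..., 3` are the
involutions with codes `Words.naGens`, the letter `4` is as before.
-/

set_option autoImplicit false

namespace Cfsg.Agent.U43.Words

/-- The letters on the normalizer of the elementary group. -/
def naLetter {G : Type*} [Group G] (rho : ℕ → G) (s : G) (y : ℕ) : G :=
  if y < 4 then rho (naGens.getD y 0) else if y = 4 then rho rC * s else 1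

/-- Relators among the first four of these letters. -/
def naH : List (List ℕ) := [
  [1, 3, 1, 3],
  [1, 2, 1, 2, 1, 2],
  [0, 2, 3, 2, 3, 2, 0, 3],
  [0, 1, 0, 1, 2, 0, 3, 2, 0, 2, 3, 2]]

/-- Relators saying how the fifth letter acts on the common centralizer of `z` and `v`. -/
def naConj : List (List ℕ) := [
  [4, 0, 4, 0],
  [4, 2, 0, 4, 2, 0],
  [4, 1, 3, 2, 1, 3, 2, 4, 1, 2, 3, 2, 1],
  [4, 1, 0, 1, 2, 0, 2, 4, 1, 0, 1],
  [4, 2, 4, 0, 2, 0],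
  [4, 0, 2, 4, 0, 2],
  [4, 1, 0, 1, 4, 2, 0, 2, 1, 0, 1],
  [4, 2, 0, 2, 4, 2, 0, 2],
  [4, 3, 0, 3, 4, 1, 2, 0, 2, 1],
  [4, 0, 2, 0, 4, 2],
  [4, 0, 3, 0, 3, 4, 1, 2, 0, 2, 1, 0],
  [4, 0, 2, 0, 2, 4, 2, 0, 2, 0],
  [4, 0, 1, 0, 1, 4, 2, 0, 2, 1, 0, 1, 0],
  [4, 1, 0, 1, 2, 4, 2, 1, 0, 1, 0]]

/-- An exponent and a word acting without fixed points on the elementary group, of that order there. -/
def naPow : List (ℕ × List ℕ) := [
  (5, [1, 4]),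
  (3, [1, 3, 4]),
  (5, [2, 1, 4]),
  (5, [1, 3, 4, 1, 4]),
  (5, [0, 3, 0, 1, 2, 1, 4, 1, 4]),
  (5, [1, 2, 4]),
  (5, [0, 1, 4]),
  (5, [1, 0, 4]),
  (3, [1, 0, 3, 4]),
  (3, [1, 3, 0, 4]),
  (3, [0, 1, 3, 4]),
  (3, [3, 0, 1, 4]),
  (3, [3, 4, 1, 4]),
  (3, [1, 4, 3, 4]),
  (5, [1, 4, 1, 4]),
  (3, [3, 0, 4, 1, 4]),
  (3, [0, 3, 4, 1, 4]),
  (3, [0, 1, 4, 3, 4]),
  (3, [1, 0, 4, 3, 4]),
  (3, [3, 4, 0, 1, 4]),
  (3, [3, 4, 1, 0, 4]),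
  (3, [1, 4, 3, 0, 4])]

/-- All of these relators. -/
def naWordsAll : List (List ℕ) := naH ++ naConj ++ naPow.map fun e => (List.replicate e.1 e.2).flatten

/-- A word for `x` in these letters. -/
def naX : List ℕ := [1, 0, 1, 2, 0, 1]

/-- A word conjugating `x` to `y` in these letters. -/
def naN : List ℕ := [1, 4, 1, 2, 1, 0, 3]

/-- The commutator of `x` and `y`, reduced freely and cyclically. -/
def naXY : List ℕ := [0, 1, 2, 0, 4, 1, 2, 1, 0, 3, 1, 0, 1, 2, 0, 1, 3, 0, 1, 2, 1, 4, 0, 2, 1, 0, 4, 1, 2, 1, 0, 3, 1, 0, 2, 1, 0, 1, 3, 0, 1, 2, 1, 4]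

end Cfsg.Agent.U43.Words
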