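import Cfsg.Agent.Lib.U43.Chart
import Cfsg.Agent.Lib.U43.Global
import Cfsg.Agent.Lib.U43.NaWords

/-!
From a chart and the relations to the isomorphism with the unitary group.
-/

set_option autoImplicit false
set_option maxRecDepth 100000

namespace Cfsg.Agent.U43

open Subgroup

/-- Generators of the factors of a code. -/
def codeWord (g : ℕ) : List ℕ :=
  ([2, 4, 8, 16].filter fun b => g % 32 / b % 2 == 1) ++ List.replicate (g / 32 % 3) 32 ++
    List.replicate (g / 32 / 3 % 3) 96 ++ List.replicate (g / 32 / 9 % 2) 288 ++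
    List.replicate (g / 32 / 18 % 2) 576

theorem codeWord_spec : ((List.range 1152).all fun g =>
    [[], [1]].any fun pre => (pre ++ codeWord g).foldl Model.mul 0 == g) = true := by
  decide +kernel

/-- Words in the first four letters for the generators of the factors. -/
def genWords : List (ℕ × List ℕ) :=
  [(1, [0, 1, 0, 2, 0, 1, 0, 2]), (2, [0, 1, 0, 3, 2, 3, 1, 2]), (4, [0, 1, 2, 1, 2, 3, 0, 3]),
    (8, [0, 1, 0, 2, 3, 2, 3, 1]), (16, [0, 3, 0, 3, 1, 2, 1, 2]), (32, [0, 2, 1, 0, 3, 0]),
    (96, [0, 3, 2, 1]), (288, [0, 2, 0, 1]), (576, [0, 1, 2, 1, 2, 0, 1])]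

theorem genWords_spec : (genWords.all fun p =>
    (p.2.map fun y => Words.hg.getD y 0).foldl Model.mul 0 == p.1) = true := by
  decide +kernel

theorem codeWord_mem : ((List.range 1152).all fun g =>
    (1 :: codeWord g).all fun c => genWords.any fun p => p.1 == c) = true := by
  decide +kernel

/-- Every code is a product of the four letters. -/
theorem code_induction (S : ℕ → Prop) (h0 : S 0) (hlt : ∀ y < 4, S (Words.hg.getD y 0))
    (hmul : ∀ a < 1152, ∀ b < 1152, S a → S b → S (Model.mul a b)) : ∀ g < 1152, S g := by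
  have hfold : ∀ (l : List ℕ), (∀ x ∈ l, x < 1152 ∧ S x) → S (l.foldl Model.mul 0) := by
    intro l hl
    suffices ∀ a, a < 1152 → S a → S (l.foldl Model.mul a) from this 0 (by norm_num) h0
    induction l with
    | nil => exact fun a _ ha => ha
    | cons x l ih =>
      intro a ha hS
      exact ih (fun y hy => hl y (List.mem_cons_of_mem _ hy)) _ (Model.mul_lt _ _)
        (hmul a ha x (hl x (List.mem_cons_self)).1 hS (hl x (List.mem_cons_self)).2)
  have hlt' : ∀ y < 4, Words.hg.getD y 0 < 1152 := by decide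
  have hgen : ∀ p ∈ genWords, S p.1 := by
    intro p hp
    have h := List.all_eq_true.1 genWords_spec p hp
    rw [beq_iff_eq] at h
    rw [← h]
    refine hfold _ fun x hx => ?_
    obtain ⟨y, hy, rfl⟩ := List.mem_map.1 hx
    have hy4 : y < 4 := (show ∀ p ∈ genWords, ∀ y ∈ p.2, y < 4 by decide) p hp y hy
    exact ⟨hlt' y hy4, hlt y hy4⟩
  have hgen' : ∀ p ∈ genWords, p.1 < 1152 := by decide
  intro g hg
  obtain ⟨pre, hpre, h⟩ := List.any_eq_true.1 (List.all_eq_true.1 codeWord_spec g (List.mem_range.2 hg))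
  rw [beq_iff_eq] at h
  rw [← h]
  refine hfold _ fun x hx => ?_
  have hx' : x ∈ 1 :: codeWord g := by
    rcases List.mem_append.1 hx with hx | hx
    · rcases List.mem_cons.1 hpre with rfl | hpre
      · simp at hx
      · rcases List.mem_cons.1 hpre with rfl | hpre
        · simp at hx; simp [hx]
        · simp at hpre
    · exact List.mem_cons_of_mem _ hx
  obtain ⟨p, hp, hpx⟩ := List.any_eq_true.1
    (List.all_eq_true.1 (List.all_eq_true.1 codeWord_mem g (List.mem_range.2 hg)) x hx')
  rw [beq_iff_eq] at hpx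
  exact hpx ▸ ⟨hgen' p hp, hgen p hp⟩

namespace Chart

variable {G : Type*} [Group G] {z : G} {rho : ℕ → G} {s : G} (T : Chart z rho s)
include T

theorem card_cent : Nat.card ↥(centralizer ({z} : Set G)) = 1152 := by
  refine (Nat.card_eq_of_bijective (fun a : Fin 1152 => (⟨rho a, (T.mem _).2 ⟨a, a.2, rfl⟩⟩ :
    ↥(centralizer ({z} : Set G)))) ⟨fun a b e => ?_, fun g => ?_⟩).symm.trans (Nat.card_fin _)
  · exact Fin.ext (T.inj a a.2 b b.2 (congrArg Subtype.val e))
  · obtain ⟨a, ha, e⟩ := (T.mem g).1 g.2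
    exact ⟨⟨a, ha⟩, Subtype.ext e⟩

/-- The group generated by the letters contains the centralizer and the swap. -/
theorem le_letters : centralizer ({z} : Set G) ≤ closure (Words.letter rho s '' {y | y < 5}) ∧
    s ∈ closure (Words.letter rho s '' {y | y < 5}) := by
  set M := closure (Words.letter rho s '' {y | y < 5}) with hM
  have hrho : ∀ a < 1152, rho a ∈ M := by
    refine code_induction (fun a => rho a ∈ M) ?_ (fun y hy => ?_) fun a ha b hb h1 h2 => ?_
    · show rho 0 ∈ M
      rw [T.one]; exact one_mem _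
    · refine subset_closure ⟨y, by show y < 5; omega, ?_⟩
      show Words.letter rho s y = _
      rw [Words.letter, if_pos hy]
    · show rho (Model.mul a b) ∈ M
      rw [T.mul a ha b hb]; exact mul_mem h1 h2
  refine ⟨fun g hg => ?_, ?_⟩
  · obtain ⟨a, ha, rfl⟩ := (T.mem g).1 hg
    exact hrho a ha
  · have h4 : rho Words.rC * s ∈ M := subset_closure ⟨4, by show 4 < 5; omega, rfl⟩
    have h22 : rho Words.rC ∈ M := hrho _ (by decide)
    simpa using mul_mem (inv_mem h22) h4

/-- The recognition from the relations and a presented group. -/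
theorem recognition [Finite G] (hz : orderOf z = 2) {K : Type} [Field K] [Fintype K] (hK : Fintype.card K = 9)
    {Γ : Type} [Group Γ]
    (e : Γ ≃* ↥(closure (Words.letter rho s '' {y | y < 5}))) (eK : Γ ≃* Cfsg.PSU 4 K 3) :
    Nonempty (G ≃* Cfsg.PSU 4 K 3) := by
  obtain ⟨hC, hs⟩ := T.le_letters
  have hM := eq_top_of_equiv hK hz hC T.card_cent
    (fun i hi hc => T.exists_conj_mem hC hs hi hc) (eK.symm.trans e)
  exact ⟨((MulEquiv.subgroupCongr hM).trans topEquiv).symm.trans (e.symm.trans eK)⟩

end Chart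

/-- A generated copy of a group of the order of the unitary group is the unitary group. -/
theorem model_equiv {K : Type} [Field K] [Fintype K] (hK : Fintype.card K = 9) {Γ : Type} [Group Γ]
    (hΓ : Nat.card Γ = 3265920) (f : ℕ → Cfsg.PSU 4 K 3)
    (e : Γ ≃* ↥(closure (f '' {y | y < 5}))) : Nonempty (Γ ≃* Cfsg.PSU 4 K 3) := by
  have hK' : Fintype.card K = 3 ^ 2 := by rw [hK]; norm_num
  have h : closure (f '' {y | y < 5}) = ⊤ := Subgroup.eq_top_of_card_eq _ (by
    rw [← Nat.card_congr e.toEquiv, hΓ, S5513.card_PSU_four hK'])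
  exact ⟨e.trans ((MulEquiv.subgroupCongr h).trans topEquiv)⟩

end Cfsg.Agent.U43
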