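import Cfsg.Agent.Lib.U43.Cert.HCheck
import Cfsg.Agent.Lib.U43.Cert.GCheck
import Cfsg.Agent.Lib.U43.Cert.DCheck
import Cfsg.Agent.Lib.U43.Cert.YCheck

/-!
The group `Cert.Gamma` presented by the relators `Words.words` on five involutions is simple of order `3265920`
(coset tables of the subgroup on the first four letters, of index `2835`, of the trivial subgroup in that
subgroup, of index `1152`, and of a maximal subgroup of index `540`), so five involutions satisfying the relators generate a copy of it as soon as the first
one is nontrivial.  Also, the relators on the normalizer of an elementary group of order sixteen make the two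
elements of order three commute.
-/

set_option autoImplicit false
set_option linter.all false

noncomputable section

namespace Cfsg.Agent.U43.Cert

open Cfsg.Agent.CosetCert

universe u

/-- The free generators, by number. -/
def freeGen (x : ℕ) : FreeGroup (Fin 5) := if h : x < 5 then FreeGroup.of ⟨x, h⟩ else 1

/-- The relators. -/
def rels : Set (FreeGroup (Fin 5)) := {r | ∃ w ∈ GTab.table.C.W, wprod freeGen w = r}

/-- The presented group. -/
abbrev Gamma : Type := PresentedGroup rels

/-- The generators, by number. -/
def gen (x : ℕ) : Gamma := PresentedGroup.mk rels (freeGen x)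

theorem gen_rel : ∀ w ∈ GTab.table.C.W, wprod gen w = 1 := fun w hw => by
  have h : PresentedGroup.mk rels (wprod freeGen w) = 1 := PresentedGroup.one_of_mem ⟨w, hw, rfl⟩
  rwa [map_wprod] at h

theorem sq_mem : ∀ x < 5, [x, x] ∈ GTab.table.C.W := by
  intro x hx
  show [x, x] ∈ Words.words ++ _
  interval_cases x <;> simp

theorem gen_sq (x : ℕ) : gen x * gen x = 1 := by
  by_cases hx : x < 5
  · have h := gen_rel _ (sq_mem x hx)
    simpa [wprod] using h
  · simp [gen, freeGen, hx]

theorem gen_top : Subgroup.closure (gen '' {x | x < GTab.table.C.K}) = ⊤ := by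
  rw [eq_top_iff, ← PresentedGroup.closure_range_of, Subgroup.closure_le]
  rintro _ ⟨i, rfl⟩
  refine Subgroup.subset_closure ⟨i, i.2, ?_⟩
  simp [gen, freeGen, PresentedGroup.of]

theorem lift_freeGen {X : Type u} [Group X] (f : ℕ → X) {x : ℕ} (hx : x < 5) :
    FreeGroup.lift (fun i : Fin 5 => f i) (freeGen x) = f x := by
  simp [freeGen, hx]

theorem lift_wprod {X : Type u} [Group X] (f : ℕ → X) : ∀ w : List ℕ, (∀ y ∈ w, y < 5) →
    FreeGroup.lift (fun i : Fin 5 => f i) (wprod freeGen w) = wprod f w
  | [], _ => map_one _
  | y :: w, hw => by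
    rw [wprod, wprod, map_mul, lift_freeGen f (hw y List.mem_cons_self),
      lift_wprod f w fun z hz => hw z (List.mem_cons_of_mem _ hz)]

/-- Five elements satisfying the relators give a homomorphism. -/
theorem lift_rels {X : Type u} [Group X] {f : ℕ → X} (hf : ∀ w ∈ GTab.table.C.W, wprod f w = 1) :
    ∀ r ∈ rels, FreeGroup.lift (fun i : Fin 5 => f i) r = 1 := by
  rintro r ⟨w, hw, rfl⟩
  rw [lift_wprod f w (allLettersOK_spec GTab.checked.lettersW w hw), hf w hw]

theorem tau_words : ∀ w ∈ GTab.table.C.W, wprod (tau DTab.checked) w = 1 := tau_rel DTab.checked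

/-- The action on the table. -/
def hom : Gamma →* Equiv.Perm (Fin DTab.table.n) := PresentedGroup.toGroup (lift_rels tau_words)

theorem hom_gen (x : ℕ) : hom (gen x) = tau DTab.checked x := by
  by_cases hx : x < 5
  · show hom (PresentedGroup.mk rels (freeGen x)) = _
    rw [show freeGen x = FreeGroup.of (⟨x, hx⟩ : Fin 5) from dif_pos hx]
    exact PresentedGroup.toGroup.of (lift_rels tau_words)
  · rw [tau, dif_neg (show ¬ x < DTab.table.C.K from hx)]
    simp [gen, freeGen, hx]

theorem hCheckedW : wordsIn [0, 1, 2, 3] GTab.table.C.W HTab.table.C.W = true := by decide +kernel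

theorem gCheckedW : wordsIn [0, 1, 2, 3, 4] GTab.table.C.W GTab.table.C.W = true := by decide +kernel

theorem bdd_top : Bdd (⊤ : Subgroup Gamma) (2835 * (1152 * 1)) := by
  have h0 : Bdd (subg gen ([].map (nthNat [0, 1, 2, 3]))) 1 := bdd_subg_nil gen
  have h1 := bdd_subg HTab.closed gen gen_sq GTab.table.C.W gen_rel [0, 1, 2, 3] [] rfl hCheckedW
    HTab.checked.lettersW HTab.checked.lettersS rfl h0
  have h2 := bdd_subg GTab.closed gen gen_sq GTab.table.C.W gen_rel [0, 1, 2, 3, 4] [0, 1, 2, 3] rfl gCheckedW
    GTab.checked.lettersW GTab.checked.lettersS rfl h1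
  exact Bdd.top_of_gen gen_top (fun x hx => by
    have hx' : x < 5 := hx
    interval_cases x <;> simp) h2

theorem label_lt : ∀ c < DTab.table.n, DTab.orbits.label c < DTab.orbits.roots.length := by decide +kernel

theorem root_lt : ∀ l < DTab.orbits.roots.length,
    rootAt DTab.orbits.roots l < DTab.table.n ∧ DTab.orbits.label (rootAt DTab.orbits.roots l) = l := by
  decide +kernel

theorem count_eq : ∀ l < DTab.orbits.roots.length,
    countLabel DTab.orbits l DTab.table.n = rootAt DTab.orbitCounts l := by
  decide +kernel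

theorem blocks_ok : ∀ T ∈ (Finset.range DTab.orbits.roots.length).powerset, 0 ∈ T →
    (∑ l ∈ T, rootAt DTab.orbitCounts l) ∣ DTab.table.n →
      (∑ l ∈ T, rootAt DTab.orbitCounts l) = 1 ∨ (∑ l ∈ T, rootAt DTab.orbitCounts l) = DTab.table.n := by
  decide +kernel

theorem prim : Prim DTab.table DTab.orbits :=
  Prim.mk' DTab.orbitsAll DTab.orbitCounts label_lt root_lt (by decide +kernel) count_eq blocks_ok

theorem levels_ok : levelsOK DTab.table.n DTab.table.P DTab.levels = true := by decide +kernel

theorem roots_ok : rootsOK DTab.table 5 DTab.witnesses = true := by decide +kernel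

theorem cover_ok : coverOK DTab.table (DTab.witnesses.map Prod.fst) [] = true := by decide +kernel

theorem gamma : IsSimpleGroup Gamma ∧ Nat.card Gamma = 3265920 := by
  have h := order_simple DTab.checked prim gen hom hom_gen gen_sq gen_rel gen_top
    (H := Subgroup.closure (wprod gen '' {w | w ∈ DTab.table.C.S})) rfl bdd_top DTab.levels rfl levels_ok
    (show prodM DTab.levels = 2835 * (1152 * 1) from rfl) (p := 5) (by norm_num)
    (by decide +kernel) (by decide +kernel) DTab.witnesses [] roots_ok cover_ok
  exact ⟨h.1, h.2.1.trans (by norm_num)⟩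

/-- The order of the presented group. -/
theorem gamma_card : Nat.card Gamma = 3265920 := gamma.2

theorem gamma_simple : IsSimpleGroup Gamma := gamma.1

/-- Five involutions satisfying the relators, the first one nontrivial, generate a copy of the presented group. -/
theorem equiv_closure {X : Type u} [Group X] (f : ℕ → X) (hf : ∀ y, f y * f y = 1)
    (h : ∀ w ∈ Words.words, Words.lprod f w = 1) (h0 : f 0 ≠ 1) :
    Nonempty (Gamma ≃* Subgroup.closure (f '' {y | y < 5})) := by
  have hW : ∀ w ∈ GTab.table.C.W, wprod f w = 1 := by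
    intro w hw
    rcases List.mem_append.mp (show w ∈ Words.words ++ [[0, 0], [1, 1], [2, 2], [3, 3], [4, 4]] from hw) with hw | hw
    · rw [Words.wprod_eq f hf, h w hw, inv_one]
    · simp only [List.mem_cons, List.not_mem_nil, or_false] at hw
      rcases hw with rfl | rfl | rfl | rfl | rfl <;> simp [wprod, hf]
  let ψ : Gamma →* X := PresentedGroup.toGroup (lift_rels hW)
  have hgen : ∀ x < 5, ψ (gen x) = f x := fun x hx => by
    show ψ (PresentedGroup.mk rels (freeGen x)) = _
    rw [show freeGen x = FreeGroup.of (⟨x, hx⟩ : Fin 5) from dif_pos hx]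
    exact PresentedGroup.toGroup.of (lift_rels hW)
  have hne : ψ.ker ≠ ⊤ := fun e => h0 (by
    rw [← hgen 0 (by omega), ← MonoidHom.mem_ker, e]
    exact Subgroup.mem_top _)
  have hinj : Function.Injective ψ :=
    (MonoidHom.ker_eq_bot_iff ψ).mp ((gamma_simple.eq_bot_or_eq_top_of_normal ψ.ker inferInstance).resolve_right hne)
  have hrange : ψ.range = Subgroup.closure (f '' {y | y < 5}) := by
    rw [MonoidHom.range_eq_map, ← gen_top, MonoidHom.map_closure, ← Set.image_comp]
    exact congrArg Subgroup.closure (Set.image_congr fun x hx => hgen x hx)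
  exact ⟨(MonoidHom.ofInjective hinj).trans (MulEquiv.subgroupCongr hrange)⟩

/-- On the normalizer of the elementary group, the two elements of order three commute. -/
theorem xy_rel {X : Type u} [Group X] (f : ℕ → X) (hf : ∀ y, f y * f y = 1)
    (h : ∀ w ∈ Words.naWordsAll, Words.lprod f w = 1) : Words.lprod f Words.naXY = 1 := by
  have hW : ∀ w ∈ YTab.cert.W, wprod f w = 1 := by
    intro w hw
    rcases List.mem_append.mp (show w ∈ Words.naWordsAll ++ [[0, 0], [1, 1], [2, 2], [3, 3], [4, 4]] from hw)
      with hw | hw
    · rw [Words.wprod_eq f hf, h w hw, inv_one]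
    · simp only [List.mem_cons, List.not_mem_nil, or_false] at hw
      rcases hw with rfl | rfl | rfl | rfl | rfl <;> simp [wprod, hf]
  have hl := YTab.loop
  rw [Option.map_eq_some_iff] at hl
  obtain ⟨⟨c, v, b⟩, hwalk, he⟩ := hl
  simp only [Prod.mk.injEq] at he
  obtain ⟨rfl, rfl⟩ := he
  have := word_trivial YTab.start YTab.stepsAll f hf hW rfl _ _ hwalk
  rwa [Words.wprod_eq f hf, inv_eq_one] at this

end Cfsg.Agent.U43.Cert
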