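import Cfsg.Agent.Lib.U43.Chart
import Cfsg.Agent.Lib.U43.NaWords

/-!
The relators in the letters of a chart: the relations of the centralizer, the action of the exchanging
involution, and the powers of elements acting without fixed points on an elementary group of order sixteen.
-/

set_option autoImplicit false
set_option maxRecDepth 20000

namespace Cfsg.Agent.U43

open Model Words

universe u

/-- Letters given by a list of codes, with `4` a further element. -/
def codeLetter {G : Type u} [Group G] (L : List ℕ) (rho : ℕ → G) (i : G) (y : ℕ) : G :=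
  if y < 4 then rho (L.getD y 0) else if y = 4 then i else 1

/-- The codes between the letters `4` of a word. -/
def segs (L : List ℕ) : List ℕ → List ℕ
  | [] => [0]
  | y :: w =>
    if y = 4 then 0 :: segs L w
    else match segs L w with
      | [] => []
      | h :: t => Model.mul (if y < 4 then L.getD y 0 else 0) h :: t

/-- Conjugation by the letter `4` on codes. -/
def iConj (x : ℕ) : ℕ := Model.mul (Model.mul rC (phiC x)) (Model.inv rC)

/-- Conjugation of codes by one code. -/
def cConj (a x : ℕ) : ℕ := Model.mul (Model.mul a x) (Model.inv a)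

/-- Conjugation by the product of segments separated by the letter `4`. -/
def segAct : List ℕ → ℕ → ℕ
  | [], x => x
  | [a], x => cConj a x
  | a :: b :: r, x => cConj a (iConj (segAct (b :: r) x))

/-- The two elementary groups of order sixteen. -/
def elemA : List (List ℕ) :=
  [[0, 1, 10, 11, 20, 21, 30, 31, 576, 577, 586, 587, 596, 597, 606, 607],
    [0, 1, 10, 11, 22, 23, 28, 29, 1120, 1121, 1130, 1131, 1142, 1143, 1148, 1149]]

/-- The test of a relator without the letter `4`. -/
def hTest (L w : List ℕ) : Bool := segs L w == [0]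

/-- The test of a relator with two letters `4`. -/
def conjTest (L w : List ℕ) : Bool :=
  match segs L w with
  | [u, m, v] => rCodes.contains m && Model.mul u (Model.mul (iConj m) v) == 0
  | _ => false

/-- The test of a power of a block without fixed points. -/
def powTest (L : List ℕ) (m : ℕ) (b : List ℕ) : Bool :=
  elemA.any fun A => (segs L b).all (fun a => decide (a < 1152) && A.all fun x => A.contains (cConj a x)) &&
    A.all fun x => Nat.iterate (segAct (segs L b)) m x == x && (x == 0 || segAct (segs L b) x != x)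

/-- The power relators as powers. -/
def powBlocks : List (ℕ × List ℕ) := [(3, [0, 3, 0, 3, 4]), (5, [3, 2, 0, 3, 4, 0, 4]), (5, [3, 4]),
  (5, [2, 0, 3, 0, 4, 3, 0, 1, 0, 4]), (5, [0, 4]), (5, [2, 0, 4]), (5, [1, 3, 4])]

theorem powBlocks_eq : powRels = powBlocks.map fun e => (List.replicate e.1 e.2).flatten := by
  decide +kernel

theorem elemA_spec : (elemA.all fun A => A.contains 1 && A.contains 0 &&
    A.all (fun x => decide (x < 1152) && rCodes.contains x && A.contains (iConj x)) &&
    (List.range 1152).all fun a => A.contains a || A.any fun x => Model.mul a x != Model.mul x a) = true := by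
  decide +kernel

theorem letters_spec : ([hg, naGens].all fun L => (List.range 4).all fun y =>
    decide (L.getD y 0 < 1152) && Model.mul (L.getD y 0) (L.getD y 0) == 0) = true := by
  decide +kernel

theorem rC_spec : rC ∈ rCodes ∧ Model.mul (Model.mul rC (phiC rC)) sqC = 0 := by
  decide +kernel

theorem conj_tests : (conjRels.all (conjTest hg) && naConj.all (conjTest naGens)) = true := by
  decide +kernel

theorem h_tests : (hRels.all (hTest hg) && naH.all (hTest naGens)) = true := by
  decide +kernel

theorem pow_tests : (powBlocks.all (fun e => powTest hg e.1 e.2) &&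
    naPow.all (fun e => powTest naGens e.1 e.2)) = true := by
  decide +kernel

namespace Chart

variable {G : Type u} [Group G] {z : G} {rho : ℕ → G} {s : G} (C : Chart z rho s)
include C

theorem rho_inv {a : ℕ} (ha : a < 1152) : Model.inv a < 1152 ∧ (rho a)⁻¹ = rho (Model.inv a) := by
  have hlt : Model.inv a < 1152 := mulK_lt _ _ _
  refine ⟨hlt, inv_eq_of_mul_eq_one_right ?_⟩
  have h := List.all_eq_true.1 inv_ok a (List.mem_range.2 ha)
  simp only [Bool.and_eq_true, beq_iff_eq] at h
  rw [← C.mul a ha _ hlt, h.1, C.one]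

theorem conj_code {a x : ℕ} (ha : a < 1152) (hx : x < 1152) :
    rho a * rho x * (rho a)⁻¹ = rho (cConj a x) := by
  rw [(C.rho_inv ha).2, ← C.mul a ha x hx, ← C.mul _ (mul_lt _ _) _ (C.rho_inv ha).1]
  rfl

theorem i_sq : rho rC * s * (rho rC * s) = 1 := by
  obtain ⟨hr, he⟩ := rC_spec
  have hp : phiC rC < 1152 := by decide +kernel
  rw [show rho rC * s * (rho rC * s) = rho rC * (s * rho rC * s⁻¹) * (s * s) by group, C.conj rC hr, C.sq,
    ← C.mul _ (by decide) _ hp, ← C.mul _ (mul_lt _ _) _ (by decide), he, C.one]

theorem i_conj {x : ℕ} (hx : x ∈ rCodes) :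
    rho rC * s * rho x * (rho rC * s)⁻¹ = rho (iConj x) ∧ iConj x < 1152 := by
  refine ⟨?_, mul_lt _ _⟩
  have hp : phiC x < 1152 := by
    have := List.all_eq_true.1 phi_spec x hx
    simp only [Bool.and_eq_true] at this
    exact rCodes_lt _ (by simpa using this.1.1)
  rw [show rho rC * s * rho x * (rho rC * s)⁻¹ = rho rC * (s * rho x * s⁻¹) * (rho rC)⁻¹ by group,
    C.conj x hx, C.conj_code (by decide) hp]
  rfl

/-- The product of segments separated by the letter `4`. -/
def segProd (rho : ℕ → G) (i : G) : List ℕ → G
  | [] => 1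
  | [a] => rho a
  | a :: b :: r => rho a * i * segProd rho i (b :: r)

theorem lprod_segs {L : List ℕ} (hL : ∀ y < 4, L.getD y 0 < 1152) (i : G) : ∀ w : List ℕ,
    ∃ h t, segs L w = h :: t ∧ h < 1152 ∧
      Words.lprod (codeLetter L rho i) w = segProd rho i (segs L w)
  | [] => ⟨0, [], rfl, by norm_num, by simp [Words.lprod, segs, segProd, C.one]⟩
  | y :: w => by
    obtain ⟨h, t, e, hh, ih⟩ := lprod_segs hL i w
    have e1 : Words.lprod (codeLetter L rho i) (y :: w) =
        codeLetter L rho i y * segProd rho i (segs L w) := by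
      rw [← ih]; simp [Words.lprod]
    by_cases hy : y = 4
    · subst hy
      refine ⟨0, h :: t, by simp [segs, e], by norm_num, ?_⟩
      rw [e1, e]
      simp [segs, e, segProd, codeLetter, C.one]
    · set c := if y < 4 then L.getD y 0 else 0 with hc
      have hclt : c < 1152 := by
        rw [hc]; split
        · exact hL y (by assumption)
        · norm_num
      have hlet : codeLetter L rho i y = rho c := by
        rw [hc, codeLetter]; split
        · rfl
        · simp [hy, C.one]
      have es : segs L (y :: w) = Model.mul c h :: t := by simp [segs, hy, e, hc]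
      refine ⟨_, t, es, mul_lt _ _, ?_⟩
      rw [e1, es, e, hlet]
      cases t with
      | nil => simp [segProd, C.mul c hclt h hh]
      | cons b r => simp [segProd, C.mul c hclt h hh, mul_assoc]

theorem seg_conj {A : List ℕ} (hA : A ∈ elemA) : ∀ {S : List ℕ},
    (∀ a ∈ S, a < 1152 ∧ ∀ x ∈ A, cConj a x ∈ A) → S ≠ [] → ∀ x ∈ A,
      segAct S x ∈ A ∧
      segProd rho (rho rC * s) S * rho x * (segProd rho (rho rC * s) S)⁻¹ = rho (segAct S x)
  | [], _, h, _, _ => absurd rfl h
  | [a], hS, _, x, hx => by
    obtain ⟨ha, hn⟩ := hS a (by simp)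
    have h := List.all_eq_true.1 elemA_spec A hA
    simp only [Bool.and_eq_true, List.all_eq_true, List.contains_iff_mem, decide_eq_true_eq] at h
    exact ⟨hn x hx, by rw [segProd, segAct]; exact C.conj_code ha (h.1.2 x hx).1.1⟩
  | a :: b :: r, hS, _, x, hx => by
    obtain ⟨ha, hn⟩ := hS a (by simp)
    obtain ⟨i1, i2⟩ := seg_conj hA (S := b :: r) (fun c hc => hS c (List.mem_cons_of_mem a hc))
      (List.cons_ne_nil b r) x hx
    have h := List.all_eq_true.1 elemA_spec A hA
    simp only [Bool.and_eq_true, List.all_eq_true, List.contains_iff_mem, decide_eq_true_eq] at h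
    obtain ⟨⟨-, hR⟩, hI⟩ := h.1.2 _ i1
    refine ⟨hn _ hI, ?_⟩
    rw [segAct, segProd, ← C.conj_code ha (C.i_conj hR).2, ← (C.i_conj hR).1, ← i2]
    group

omit C in
theorem lprod_flatten (g : ℕ → G) (b : List ℕ) :
    ∀ m : ℕ, Words.lprod g (List.replicate m b).flatten = Words.lprod g b ^ m := by
  intro m
  induction m with
  | zero => simp [Words.lprod]
  | succ m ih =>
    rw [List.replicate_succ, List.flatten_cons, pow_succ', ← ih]
    simp [Words.lprod, List.map_append, List.prod_append]

theorem hTest_sound {L : List ℕ} (hL : ∀ y < 4, L.getD y 0 < 1152) {w : List ℕ} (h : hTest L w = true) :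
    Words.lprod (codeLetter L rho (rho rC * s)) w = 1 := by
  obtain ⟨-, -, -, -, e⟩ := C.lprod_segs hL (rho rC * s) w
  rw [hTest, beq_iff_eq] at h
  rw [e, h, segProd, C.one]

theorem conjTest_sound {L : List ℕ} (hL : ∀ y < 4, L.getD y 0 < 1152) {w : List ℕ}
    (h : conjTest L w = true) : Words.lprod (codeLetter L rho (rho rC * s)) w = 1 := by
  obtain ⟨u, t, e0, hu, e⟩ := C.lprod_segs hL (rho rC * s) w
  rw [e]
  unfold conjTest at h
  split at h
  case h_2 => exact absurd h (by simp)
  case h_1 a m v es =>
    rw [Bool.and_eq_true, List.contains_iff_mem, beq_iff_eq] at h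
    rw [e0] at es
    injection es with ea et
    subst ea et
    rw [e0]
    obtain ⟨c1, c2⟩ := C.i_conj h.1
    have hv : ∀ w : List ℕ, ∀ x ∈ segs L w, x < 1152 := by
      intro w
      induction w with
      | nil => simp [segs]
      | cons y w ih =>
        by_cases hy : y = 4
        · simp only [segs, hy, if_true, List.forall_mem_cons]
          exact ⟨by norm_num, ih⟩
        · simp only [segs, hy, if_false]
          cases hs : segs L w with
          | nil => simp
          | cons a r =>
            rw [hs] at ih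
            simp only [List.forall_mem_cons] at ih ⊢
            exact ⟨mul_lt _ _, ih.2⟩
    have hv' : v < 1152 := hv w v (by rw [e0]; simp)
    simp only [segProd]
    have e1 : rho rC * s * rho m * (rho rC * s) = rho (iConj m) := by
      rw [← c1]
      congr 1
      exact eq_inv_of_mul_eq_one_right C.i_sq
    calc rho u * (rho rC * s) * (rho m * (rho rC * s) * rho v)
        = rho u * ((rho rC * s * rho m * (rho rC * s)) * rho v) := by simp only [mul_assoc]
      _ = rho (Model.mul u (Model.mul (iConj m) v)) := by
        rw [e1, ← C.mul _ c2 v hv', ← C.mul u hu _ (mul_lt _ _)]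
      _ = 1 := by rw [h.2, C.one]

theorem powTest_sound {L : List ℕ} (hL : ∀ y < 4, L.getD y 0 < 1152) {m : ℕ} {b : List ℕ}
    (h : powTest L m b = true) :
    Words.lprod (codeLetter L rho (rho rC * s)) (List.replicate m b).flatten = 1 := by
  obtain ⟨u, t, e0, -, e⟩ := C.lprod_segs hL (rho rC * s) b
  rw [lprod_flatten, e]
  rw [powTest, List.any_eq_true] at h
  obtain ⟨A, hA, h⟩ := h
  simp only [Bool.and_eq_true, List.all_eq_true, List.contains_iff_mem, decide_eq_true_eq, beq_iff_eq,
    Bool.or_eq_true, bne_iff_ne, ne_eq] at h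
  obtain ⟨hS, hfix⟩ := h
  have hsp := List.all_eq_true.1 elemA_spec A hA
  simp only [Bool.and_eq_true, List.all_eq_true, List.contains_iff_mem, decide_eq_true_eq, Bool.or_eq_true,
    List.any_eq_true, List.mem_range, bne_iff_ne, ne_eq] at hsp
  obtain ⟨⟨⟨h1A, h0A⟩, hAmem⟩, hcent⟩ := hsp
  set S := segs L b
  set g := segProd rho (rho rC * s) S
  have hg : ∀ x ∈ A, segAct S x ∈ A ∧ g * rho x * g⁻¹ = rho (segAct S x) :=
    fun x hx => C.seg_conj hA hS (by rw [e0]; simp) x hx
  have hpow : ∀ n : ℕ, ∀ x ∈ A, Nat.iterate (segAct S) n x ∈ A ∧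
      g ^ n * rho x * (g ^ n)⁻¹ = rho (Nat.iterate (segAct S) n x) := by
    intro n
    induction n with
    | zero => intro x hx; simp [hx]
    | succ n ih =>
      intro x hx
      obtain ⟨a1, a2⟩ := ih x hx
      obtain ⟨b1, b2⟩ := hg _ a1
      rw [Function.iterate_succ_apply']
      refine ⟨b1, ?_⟩
      rw [← b2, ← a2, pow_succ']
      group
  have hW : ∀ x ∈ A, Commute (g ^ m) (rho x) := fun x hx => by
    refine mul_inv_eq_iff_eq_mul.1 ?_
    rw [(hpow m x hx).2, (hfix x hx).1]
  have hz1 : rho 1 = z := C.rho_z
  obtain ⟨a, ha, ea⟩ := (C.mem (g ^ m)).1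
    (Subgroup.mem_centralizer_singleton_iff.2 (hz1 ▸ (hW 1 h1A).eq))
  have haA : a ∈ A := by
    refine (hcent a ha).resolve_right ?_
    rintro ⟨x, hx, hne⟩
    have hx' := (hAmem x hx).1.1
    refine hne (C.inj _ (mul_lt _ _) _ (mul_lt _ _) ?_)
    rw [C.mul a ha x hx', C.mul x hx' a ha, ea, (hW x hx).eq]
  obtain ⟨b1, b2⟩ := hg a haA
  have hfa : segAct S a = a := by
    refine C.inj _ (hAmem _ b1).1.1 _ ha ?_
    rw [← b2, ea, (Commute.refl g).pow_right m |>.eq, mul_inv_cancel_right]
  have ha0 : a = 0 := (hfix a haA).2.resolve_right fun hn => hn hfa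
  rw [← ea, ha0, C.one]

theorem letter_bound : (∀ y < 4, hg.getD y 0 < 1152) ∧ ∀ y < 4, naGens.getD y 0 < 1152 := by
  decide

theorem codeLetter_sq {L : List ℕ} (h : ∀ y < 4, L.getD y 0 < 1152 ∧ Model.mul (L.getD y 0) (L.getD y 0) = 0)
    (y : ℕ) : codeLetter L rho (rho rC * s) y * codeLetter L rho (rho rC * s) y = 1 := by
  unfold codeLetter
  split
  · obtain ⟨a, b⟩ := h y (by assumption)
    rw [← C.mul _ a _ a, b, C.one]
  · split
    · exact C.i_sq
    · exact mul_one 1

/-- The letters are involutions or trivial. -/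
theorem letter_sq : ∀ y, Words.letter rho s y * Words.letter rho s y = 1 := fun y => by
  refine C.codeLetter_sq (L := hg) (fun y hy => ?_) y
  have := List.all_eq_true.1 (List.all_eq_true.1 letters_spec hg (by simp)) y (List.mem_range.2 hy)
  simpa using this

/-- The letters on the normalizer are involutions or trivial. -/
theorem naLetter_sq : ∀ y, Words.naLetter rho s y * Words.naLetter rho s y = 1 := fun y => by
  refine C.codeLetter_sq (L := naGens) (fun y hy => ?_) y
  have := List.all_eq_true.1 (List.all_eq_true.1 letters_spec naGens (by simp)) y (List.mem_range.2 hy)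
  simpa using this

/-- The relators hold. -/
theorem rels : ∀ w ∈ Words.hRels ++ Words.conjRels ++ Words.powRels,
    Words.lprod (Words.letter rho s) w = 1 := by
  intro w hw
  obtain ⟨hb, -⟩ := C.letter_bound
  have hh := h_tests; have hc := conj_tests; have hp := pow_tests
  simp only [Bool.and_eq_true, List.all_eq_true] at hh hc hp
  simp only [List.mem_append, powBlocks_eq, List.mem_map] at hw
  rcases hw with (hw | hw) | ⟨e, he, rfl⟩
  · exact C.hTest_sound hb (hh.1 w hw)
  · exact C.conjTest_sound hb (hc.1 w hw)
  · exact C.powTest_sound hb (hp.1 e he)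

/-- The relators on the normalizer of the elementary group hold. -/
theorem naRels : ∀ w ∈ Words.naWordsAll, Words.lprod (Words.naLetter rho s) w = 1 := by
  intro w hw
  obtain ⟨-, hb⟩ := C.letter_bound
  have hh := h_tests; have hc := conj_tests; have hp := pow_tests
  simp only [Bool.and_eq_true, List.all_eq_true] at hh hc hp
  simp only [naWordsAll, List.mem_append, List.mem_map] at hw
  rcases hw with (hw | hw) | ⟨e, he, rfl⟩
  · exact C.hTest_sound hb (hh.2 w hw)
  · exact C.conjTest_sound hb (hc.2 w hw)
  · exact C.powTest_sound hb (hp.2 e he)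

end Chart

end Cfsg.Agent.U43
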