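import Cfsg.Agent.Lib.U43.ChartRels
import Cfsg.Agent.Lib.U43.NaWords
import Cfsg.Agent.Lib.Coprime.Generation
import Mathlib.GroupTheory.Transfer

/-!
In a group with a chart, if the two elements `x, y` of order three commute then the element `a` commutes with its
conjugate under `y`. Here `x, a` generate the Sylow subgroup `P` of the centralizer of `x` in `C(z)`.
-/

set_option autoImplicit false
set_option maxRecDepth 20000

namespace Cfsg.Agent.U43

namespace Comm

open Subgroup

/-- The codes of `P`. -/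
def pCodes : List ℕ := [0, 32, 64, 96, 128, 160, 192, 224, 256]

/-- The conjugate of a code. -/
def cj (c u : ℕ) : ℕ := Model.mul (Model.mul c u) (Model.inv c)

/-- A power of a code. -/
def pw (c : ℕ) : ℕ → ℕ
  | 0 => 0
  | n + 1 => Model.mul (pw c n) c

/-- The code of a word in the first four letters. -/
def codeEval (l w : List ℕ) : ℕ := w.foldl (fun r y => Model.mul r (l.getD y 0)) 0

theorem inv_lt (c : ℕ) : Model.inv c < 1152 := Model.mulK_lt _ _ _

theorem cj_lt (c u : ℕ) : cj c u < 1152 := Model.mul_lt _ _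

theorem pw_lt (c n : ℕ) : pw c n < 1152 := by
  cases n with
  | zero => exact Nat.succ_pos _
  | succ k => exact Model.mul_lt _ _

theorem p_closed : (∀ a ∈ pCodes, ∀ b ∈ pCodes, Model.mul a b ∈ pCodes ∧ Model.mul a b = Model.mul b a) ∧
    (∀ a ∈ pCodes, a < 1152 ∧ Model.inv a ∈ pCodes ∧ pw a 3 = 0) := by decide +kernel

theorem p_basis : ∀ p ∈ pCodes, (∃ e < 3, p = pw 128 e) ∨
    ∃ e < 3, ∃ f < 3, 96 = Model.mul (pw 128 e) (pw p f) := by decide +kernel

theorem conj_fact : ((List.range 1152).all fun c =>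
    !(pCodes.contains (cj c 128)) || cj c 128 == 128 || cj c 128 == 256) = true := by decide +kernel

theorem normal_fact : ((List.range 1152).all fun c =>
    !(pCodes.contains (cj c 128) && pCodes.contains (cj c 96)) || pw c 9 != 0 || pCodes.contains c) = true := by
  decide +kernel

theorem cent_fact : ((List.range 1152).all fun c =>
    !(Model.mul c 128 == Model.mul 128 c && Model.mul c 96 == Model.mul 96 c) ||
      (pw c 6 == 0 && (Model.mul c c != 0 || c == 0 || c == 1))) = true := by decide +kernel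

theorem odd_fact : ((List.range 1152).all fun c =>
    !(Model.mul c 128 == Model.mul 128 c) || pw c 9 != 0 || pCodes.contains c) = true := by decide +kernel

/-- Delete adjacent equal letters. -/
def red : List ℕ → List ℕ
  | [] => []
  | x :: w =>
    match red w with
    | [] => [x]
    | y :: t => if x = y then t else x :: y :: t

variable {G : Type*} [Group G]

theorem lprod_cons (g : ℕ → G) (x : ℕ) (w : List ℕ) : Words.lprod g (x :: w) = g x * Words.lprod g w := by
  simp [Words.lprod]

theorem lprod_append (g : ℕ → G) (u w : List ℕ) :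
    Words.lprod g (u ++ w) = Words.lprod g u * Words.lprod g w := by simp [Words.lprod]

theorem lprod_reverse {g : ℕ → G} (hg : ∀ x, g x * g x = 1) :
    ∀ w : List ℕ, Words.lprod g w.reverse = (Words.lprod g w)⁻¹
  | [] => by simp [Words.lprod]
  | x :: w => by
    rw [List.reverse_cons, lprod_append, lprod_reverse hg w, lprod_cons g x w, mul_inv_rev,
      inv_eq_of_mul_eq_one_right (hg x)]
    simp [Words.lprod]

theorem lprod_red {g : ℕ → G} (hg : ∀ x, g x * g x = 1) :
    ∀ w : List ℕ, Words.lprod g (red w) = Words.lprod g w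
  | [] => rfl
  | x :: w => by
    rw [lprod_cons g x w, ← lprod_red hg w, red]
    cases red w with
    | nil => simp [Words.lprod]
    | cons y t =>
      simp only
      split
      · next e => rw [lprod_cons g y t, e, ← mul_assoc, hg, one_mul]
      · rw [lprod_cons g x]

theorem commute_iff_rel {g : ℕ → G} (hg : ∀ x, g x * g x = 1) {p q r : List ℕ} {c : ℕ}
    (h : red (p ++ q ++ p.reverse ++ q.reverse) = c :: (r ++ [c])) :
    Commute (Words.lprod g p) (Words.lprod g q) ↔ Words.lprod g r = 1 := by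
  have e := congrArg (Words.lprod g) h
  rw [lprod_red hg, lprod_cons g c, lprod_append g r, lprod_append g, lprod_append g, lprod_append g,
    lprod_reverse hg, lprod_reverse hg, show Words.lprod g [c] = g c by simp [Words.lprod]] at e
  constructor
  · intro hc
    rw [hc.eq, mul_inv_cancel_right, mul_inv_cancel] at e
    calc Words.lprod g r = g c * (g c * (Words.lprod g r * g c)) * g c := by
          simp only [mul_assoc, hg, mul_one]; rw [← mul_assoc, hg, one_mul]
      _ = 1 := by rw [← e, mul_one, hg]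
  · intro hr
    rw [hr, one_mul, hg, mul_inv_eq_one, mul_inv_eq_iff_eq_mul] at e
    exact e

/-- A subgroup of a `p`-group equal to its normalizer is the whole group. -/
theorem le_of_normalizing [Finite G] {p : ℕ} [Fact p.Prime] {Q K : Subgroup G} (hQ : IsPGroup p Q)
    (hKQ : K ≤ Q) (h : ∀ q ∈ Q, q ∈ normalizer (K : Set G) → q ∈ K) : Q ≤ K := by
  by_contra hle
  have hne : K.subgroupOf Q ≠ ⊤ := fun e => hle (subgroupOf_eq_top.1 e)
  haveI := hQ.isNilpotent
  obtain ⟨q, hq, hqn⟩ := SetLike.exists_of_lt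
    (Group.normalizerCondition_of_isNilpotent (K.subgroupOf Q) (lt_top_iff_ne_top.2 hne))
  refine hqn (mem_subgroupOf.2 (h q q.2 (mem_normalizer_iff.2 fun k => ?_)))
  rw [mem_normalizer_iff] at hq
  constructor
  · intro hk
    simpa [mem_subgroupOf] using (hq ⟨k, hKQ hk⟩).1 hk
  · intro hk
    have hkQ : k ∈ Q := by
      have := Q.mul_mem (Q.mul_mem (Q.inv_mem q.2) (hKQ hk)) q.2
      simpa [mul_assoc] using this
    exact (hq ⟨k, hkQ⟩).2 (by simpa [mem_subgroupOf] using hk)

end Comm

namespace Chart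

open Subgroup Comm

variable {G : Type*} [Group G] {z : G} {rho : ℕ → G} {s : G} (C : Chart z rho s)
include C

theorem rho_pw {c : ℕ} (hc : c < 1152) : ∀ n, rho (pw c n) = rho c ^ n
  | 0 => by simpa [pw] using C.one
  | n + 1 => by
    rw [pw, C.mul _ (pw_lt c n) c hc, rho_pw hc n, pow_succ]

theorem rho_cj {c u : ℕ} (hc : c < 1152) (hu : u < 1152) : rho c * rho u * (rho c)⁻¹ = rho (cj c u) :=
  C.conj_code hc hu

theorem commute_codes {a b : ℕ} (ha : a < 1152) (hb : b < 1152) :
    Commute (rho a) (rho b) ↔ Model.mul a b = Model.mul b a := by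
  constructor
  · intro h
    exact C.inj _ (Model.mul_lt _ _) _ (Model.mul_lt _ _) (by rw [C.mul a ha b hb, C.mul b hb a ha, h.eq])
  · intro h
    show rho a * rho b = rho b * rho a
    rw [← C.mul a ha b hb, ← C.mul b hb a ha, h]

theorem lprod_eval {l : List ℕ} (hl : ∀ y < 4, l.getD y 0 < 1152) {g : ℕ → G}
    (hg : ∀ y < 4, g y = rho (l.getD y 0)) :
    ∀ (w : List ℕ), (∀ y ∈ w, y < 4) → Words.lprod g w = rho (codeEval l w) := by
  suffices H : ∀ (w : List ℕ) (r : ℕ), r < 1152 → (∀ y ∈ w, y < 4) →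
      rho r * Words.lprod g w = rho (w.foldl (fun r y => Model.mul r (l.getD y 0)) r) by
    intro w hw
    simpa [C.one, codeEval] using H w 0 (by norm_num) hw
  intro w
  induction w with
  | nil => intro r _ _; simp [Words.lprod]
  | cons y w ih =>
    intro r hr hw
    have hy := hw y (List.mem_cons_self ..)
    rw [lprod_cons g y w, List.foldl_cons, ← mul_assoc, hg y hy, ← C.mul r hr _ (hl y hy)]
    exact ih _ (Model.mul_lt _ _) fun v hv => hw v (List.mem_cons_of_mem _ hv)

/-- Elements of odd order centralizing `z` have order dividing nine. -/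
theorem pow_nine {g : G} (hg : Commute g z) (ho : Odd (orderOf g)) : g ^ 9 = 1 := by
  let f : Fin 1152 → centralizer ({z} : Set G) := fun a => ⟨rho a, (C.mem _).2 ⟨a, a.2, rfl⟩⟩
  have hf : Function.Bijective f := ⟨fun a b e => Fin.ext (C.inj a a.2 b b.2 (congrArg Subtype.val e)),
    fun x => by
      obtain ⟨a, ha, e⟩ := (C.mem x).1 x.2
      exact ⟨⟨a, ha⟩, Subtype.ext e⟩⟩
  have hd : orderOf (⟨g, mem_centralizer_singleton_iff.2 hg⟩ : centralizer ({z} : Set G)) ∣ 1152 := by
    have := orderOf_dvd_natCard (⟨g, mem_centralizer_singleton_iff.2 hg⟩ : centralizer ({z} : Set G))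
    rwa [← Nat.card_congr (Equiv.ofBijective f hf), Nat.card_fin] at this
  rw [Subgroup.orderOf_mk] at hd
  exact orderOf_dvd_iff_pow_eq_one.1 ((Nat.Coprime.dvd_mul_left
    ((Nat.coprime_two_right.2 ho).pow_right 7)).1 (by simpa using hd))

variable [Finite G]

/-- The main step: an element conjugating `z` to one of two involutions and commuting with `x` gives a conjugate
of `a` commuting with `a`, unless every such element gives nothing. -/
theorem comm_step {Y w : G} (hxY : Commute (rho 128) Y) (hw : Commute w (Y * z * Y⁻¹)) (ho : Odd (orderOf w))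
    (hwx : Commute w (rho 128)) (hwa : Commute w (rho 96)) (hwz : ¬ Commute w z) :
    Commute (rho 96) (Y * rho 96 * Y⁻¹) := by
  have hz' : Commute (Y⁻¹ * w * Y) z := by
    have := hw.map (MulAut.conj Y⁻¹).toMonoidHom
    simpa [mul_assoc] using this
  obtain ⟨c, hc, ec⟩ := (C.mem _).1 (mem_centralizer_singleton_iff.2 hz')
  have hord : orderOf (Y⁻¹ * w * Y) = orderOf w := by
    have := MulEquiv.orderOf_eq (MulAut.conj Y⁻¹) w
    simpa using this
  have h9 := C.pow_nine hz' (hord ▸ ho)
  rw [← ec, ← C.rho_pw hc] at h9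
  have hcx : Commute (Y⁻¹ * w * Y) (rho 128) :=
    ((hxY.symm.inv_left).mul_left hwx).mul_left hxY.symm
  rw [← ec, C.commute_codes hc (by norm_num)] at hcx
  have hcP : c ∈ pCodes := by
    have h := List.all_eq_true.1 odd_fact c (List.mem_range.2 hc)
    have e : pw c 9 = 0 := C.inj _ (pw_lt c 9) 0 (by norm_num) (h9.trans C.one.symm)
    simpa [hcx, e] using h
  have hw' : w = Y * rho c * Y⁻¹ := by rw [ec]; group
  rcases p_basis c hcP with ⟨e, -, he⟩ | ⟨e, -, f, -, he⟩
  · refine absurd ?_ hwz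
    have h1 : Commute Y (rho c) := by rw [he, C.rho_pw (by norm_num)]; exact hxY.symm.pow_right e
    rw [hw', h1.eq, mul_inv_cancel_right]
    exact mem_centralizer_singleton_iff.1 ((C.mem _).2 ⟨c, hc, rfl⟩)
  · have ha : Y * rho 96 * Y⁻¹ = rho 128 ^ e * w ^ f := by
      conv_lhs => rw [he, C.mul _ (pw_lt 128 e) _ (pw_lt c f), C.rho_pw (by norm_num), C.rho_pw hc]
      rw [hw', conj_pow, show Y * (rho 128 ^ e * rho c ^ f) * Y⁻¹ =
        (Y * rho 128 ^ e * Y⁻¹) * (Y * rho c ^ f * Y⁻¹) by group, (hxY.symm.pow_right e).eq, mul_inv_cancel_right]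
    rw [ha]
    exact (((C.commute_codes (by norm_num) (by norm_num)).2 (by decide +kernel)).pow_right e).mul_right
      (hwa.symm.pow_right f)

/-- The group `P` of order nine. -/
def pSub : Subgroup G where
  carrier := {g | ∃ c ∈ pCodes, rho c = g}
  one_mem' := ⟨0, by decide, C.one⟩
  mul_mem' := by
    rintro g h ⟨a, ha, rfl⟩ ⟨b, hb, rfl⟩
    exact ⟨_, (p_closed.1 a ha b hb).1, C.mul a (p_closed.2 a ha).1 b (p_closed.2 b hb).1⟩
  inv_mem' := by
    rintro g ⟨a, ha, rfl⟩
    exact ⟨_, (p_closed.2 a ha).2.1, (C.rho_inv (p_closed.2 a ha).1).2.symm⟩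

theorem pSub_gen {g : G} (h : g ∈ C.pSub) : Commute g (rho 128) ∧ Commute g (rho 96) ∧ Commute g z := by
  obtain ⟨c, hc, rfl⟩ := h
  exact ⟨(C.commute_codes (p_closed.2 c hc).1 (by norm_num)).2 (p_closed.1 c hc 128 (by decide)).2,
    (C.commute_codes (p_closed.2 c hc).1 (by norm_num)).2 (p_closed.1 c hc 96 (by decide)).2,
    mem_centralizer_singleton_iff.1 ((C.mem _).2 ⟨c, (p_closed.2 c hc).1, rfl⟩)⟩

theorem pSub_pGroup : IsPGroup 3 C.pSub := by
  rintro ⟨g, c, hc, rfl⟩
  refine ⟨1, Subtype.ext ?_⟩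
  simp only [pow_one, SubgroupClass.coe_pow, OneMemClass.coe_one]
  rw [← C.rho_pw (p_closed.2 c hc).1, (p_closed.2 c hc).2.2, C.one]

/-- The centralizer of `P` is not contained in that of `z`. -/
theorem exists_cent_not {Y : G} (hY : ¬ Commute Y z) (hxY : Commute (rho 128) Y)
    (hconj : IsConj (rho 128) Y) :
    ∃ g, Commute g (rho 128) ∧ Commute g (rho 96) ∧ ¬ Commute g z := by
  by_contra hcon
  push Not at hcon
  have h128 : rho 128 ∈ C.pSub := ⟨128, by decide, rfl⟩
  have h96 : rho 96 ∈ C.pSub := ⟨96, by decide, rfl⟩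
  have hN : ∀ n ∈ normalizer (C.pSub : Set G), Commute n z := by
    intro n hn
    have key : ∀ p ∈ C.pSub, Commute (n * z * n⁻¹) p := by
      intro p hp
      have h := ((C.pSub_gen ((mem_normalizer_iff''.1 hn p).1 hp)).2.2.symm).map (MulAut.conj n).toMonoidHom
      simpa [mul_assoc] using h
    have hz := hcon _ (key _ h128) (key _ h96)
    obtain ⟨c, hc, ec⟩ := (C.mem _).1 (mem_centralizer_singleton_iff.2 hz)
    have hzz : z * z = 1 := by
      rw [← C.rho_z, ← C.mul _ (by decide) _ (by decide)]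
      exact (congrArg rho (by decide +kernel : Model.mul Model.zc Model.zc = 0)).trans C.one
    have k1 := key _ h128; have k2 := key _ h96
    rw [← ec, C.commute_codes hc (by norm_num)] at k1 k2
    have hcc : Model.mul c c = 0 := C.inj _ (Model.mul_lt _ _) 0 (by norm_num) (by
      rw [C.mul c hc c hc, ec, C.one, conj_mul, hzz, mul_one, mul_inv_cancel])
    have h := List.all_eq_true.1 cent_fact c (List.mem_range.2 hc)
    simp [k1, k2, hcc] at h
    have hz1 : z ≠ 1 := fun e => absurd
      (C.inj 1 (by norm_num) 0 (by norm_num) (C.rho_z.trans (e.trans C.one.symm))) (by norm_num)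
    rcases h.2 with rfl | rfl
    · rw [C.one] at ec
      exact absurd (by simpa using ec.symm) hz1
    · exact mul_inv_eq_iff_eq_mul.1 (ec.symm.trans C.rho_z)
  haveI : Fact (Nat.Prime 3) := ⟨Nat.prime_three⟩
  let P : Sylow 3 G :=
    { C.pSub with
      isPGroup' := C.pSub_pGroup
      is_maximal' := by
        intro Q hQ hPQ
        refine le_antisymm (le_of_normalizing hQ hPQ fun q hq hqn => ?_) hPQ
        have hqz := hN q hqn
        obtain ⟨k, hk⟩ := hQ ⟨q, hq⟩
        have ho : Odd (orderOf q) :=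
          Odd.of_dvd_nat (Odd.pow (by decide)) (orderOf_dvd_of_pow_eq_one (congrArg Subtype.val hk))
        have h9 := C.pow_nine hqz ho
        obtain ⟨c, hc, rfl⟩ := (C.mem q).1 (mem_centralizer_singleton_iff.2 hqz)
        obtain ⟨a, ha, ea⟩ := (mem_normalizer_iff.1 hqn _).1 h128
        obtain ⟨b, hb, eb⟩ := (mem_normalizer_iff.1 hqn _).1 h96
        rw [C.rho_cj hc (by norm_num)] at ea eb
        replace ha : cj c 128 ∈ pCodes := C.inj a (p_closed.2 a ha).1 _ (cj_lt c 128) ea ▸ ha
        replace hb : cj c 96 ∈ pCodes := C.inj b (p_closed.2 b hb).1 _ (cj_lt c 96) eb ▸ hb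
        rw [← C.rho_pw hc] at h9
        have e : pw c 9 = 0 := C.inj _ (pw_lt c 9) 0 (by norm_num) (h9.trans C.one.symm)
        have h := List.all_eq_true.1 normal_fact c (List.mem_range.2 hc)
        simp [ha, hb, e] at h
        exact ⟨c, h, rfl⟩ }
  haveI : IsMulCommutative (P : Subgroup G) := ⟨⟨fun a b => Subtype.ext (by
    obtain ⟨c, hc, ec⟩ := b.2
    have := (C.commute_codes (p_closed.2 _ a.2.choose_spec.1).1 (p_closed.2 c hc).1).2
      (p_closed.1 _ a.2.choose_spec.1 c hc).2
    rw [a.2.choose_spec.2, ec] at this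
    exact this.eq)⟩⟩
  have hY3 : Y ^ 3 = 1 := by
    obtain ⟨g, rfl⟩ := isConj_iff.1 hconj
    rw [conj_pow, ← C.rho_pw (by norm_num), (p_closed.2 128 (by decide)).2.2, C.one, mul_one, mul_inv_cancel]
  have hx3 : rho 128 ^ 3 = 1 := by
    rw [← C.rho_pw (by norm_num), (p_closed.2 128 (by decide)).2.2, C.one]
  have hpx : IsPGroup 3 (closure {rho 128, Y}) := by
    rintro ⟨g, hg⟩
    refine ⟨1, Subtype.ext ?_⟩
    simp only [pow_one, SubgroupClass.coe_pow, OneMemClass.coe_one]
    haveI : IsMulCommutative (closure {rho 128, Y}) := Subgroup.isMulCommutative_closure fun a ha b hb => by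
      simp only [Set.mem_insert_iff, Set.mem_singleton_iff] at ha hb
      rcases ha with rfl | rfl <;> rcases hb with rfl | rfl
      exacts [rfl, hxY.eq, hxY.symm.eq, rfl]
    induction hg using closure_induction with
    | mem a ha => rcases ha with rfl | rfl <;> assumption
    | one => exact one_pow 3
    | mul a b ha hb h1 h2 =>
      have hab : Commute a b := congrArg Subtype.val (mul_comm' (⟨a, ha⟩ : closure {rho 128, Y}) ⟨b, hb⟩)
      rw [hab.mul_pow, h1, h2, one_mul]
    | inv a _ h1 => rw [inv_pow, h1, inv_one]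
  obtain ⟨P', hP'⟩ := hpx.exists_le_sylow
  obtain ⟨g, hg⟩ := MulAction.exists_smul_eq G P' P
  have hmem : ∀ a ∈ closure {rho 128, Y}, g * a * g⁻¹ ∈ (P : Subgroup G) := fun a ha => by
    rw [← hg, Sylow.coe_subgroup_smul, ← MulAut.conj_apply]
    exact Subgroup.smul_mem_pointwise_smul _ _ _ (hP' ha)
  have main : ∀ k : G, k * rho 128 * k⁻¹ ∈ (P : Subgroup G) →
      k * rho 128 * k⁻¹ = rho 128 ∨ k * rho 128 * k⁻¹ = rho 256 := by
    intro k hk
    obtain ⟨n, hn, e⟩ := P.conj_eq_normalizer_conj_of_mem (rho 128) k⁻¹ h128 (by rw [inv_inv]; exact hk)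
    rw [inv_inv] at e
    obtain ⟨c, hc, ec⟩ := (C.mem _).1 (mem_centralizer_singleton_iff.2 ((hN n hn).inv_left))
    have e' : k * rho 128 * k⁻¹ = rho (cj c 128) := by
      rw [e, ← C.rho_cj hc (by norm_num), ec, inv_inv]
    obtain ⟨p, hp, ep⟩ := hk
    have := C.inj p (p_closed.2 p hp).1 _ (Model.mul_lt _ _) (ep.trans e')
    subst this
    have h := List.all_eq_true.1 conj_fact c (List.mem_range.2 hc)
    have hp' : cj c 128 ∈ pCodes := hp
    simp [hp'] at h
    rcases h with h | h <;> rw [h] at e'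
    exacts [Or.inl e', Or.inr e']
  obtain ⟨k, hk⟩ := isConj_iff.1 hconj
  have m1 := main g (hmem _ (subset_closure (by simp)))
  have m2 := main (g * k) (by
    have := hmem Y (subset_closure (by simp))
    rwa [← hk, show g * (k * rho 128 * k⁻¹) * g⁻¹ = g * k * rho 128 * (g * k)⁻¹ by group] at this)
  have h256 : rho 256 = rho 128 ^ 2 := by
    rw [← C.rho_pw (by norm_num)]; exact congrArg rho (by decide +kernel)
  have eY : g * Y * g⁻¹ = g * k * rho 128 * (g * k)⁻¹ := by rw [← hk]; group
  have h2 : rho 128 ^ 2 * rho 128 ^ 2 = rho 128 := by rw [← pow_add, show 2 + 2 = 3 + 1 from rfl, pow_succ, hx3, one_mul]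
  refine hY ?_
  suffices hs : Y = rho 128 ∨ Y = rho 128 ^ 2 by
    have hz := (C.pSub_gen h128).2.2
    rcases hs with e | e <;> rw [e]
    exacts [hz, hz.pow_left 2]
  have inj : ∀ a b : G, g * a * g⁻¹ = g * b * g⁻¹ → a = b := fun a b e => by simpa using e
  rcases m1 with m1 | m1 <;> rcases m2 with m2 | m2 <;> rw [← eY] at m2
  · exact Or.inl (inj _ _ (m2.trans m1.symm))
  · refine Or.inr (inj _ _ ?_)
    rw [m2, h256, ← conj_pow, m1]
  · refine Or.inr (inj _ _ ?_)
    rw [m2, ← conj_pow, m1, h256, ← pow_mul, show 2 * 2 = 3 + 1 from rfl, pow_succ, hx3, one_mul]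
  · exact Or.inl (inj _ _ (m2.trans m1.symm))

/-- Some element of odd order centralizing `P` and one of the two involutions does not centralize `z`. -/
theorem exists_odd_not (h : ∃ g, Commute g (rho 128) ∧ Commute g (rho 96) ∧ ¬ Commute g z) :
    ∃ v ∈ [576, 577], ∃ w, Commute w (rho v) ∧ Odd (orderOf w) ∧ Commute w (rho 128) ∧
      Commute w (rho 96) ∧ ¬ Commute w z := by
  set D : Subgroup G := centralizer ({rho 128, rho 96} : Set G) with hD
  have hDm : ∀ g, g ∈ D ↔ Commute g (rho 128) ∧ Commute g (rho 96) := fun g => by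
    rw [hD, mem_centralizer_iff]
    simp only [Set.mem_insert_iff, Set.mem_singleton_iff, forall_eq_or_imp, forall_eq]
    exact ⟨fun h => ⟨h.1.symm, h.2.symm⟩, fun h => ⟨h.1.symm, h.2.symm⟩⟩
  have hz1 : z ≠ 1 := fun e => by
    have := C.orderOf_z
    rw [e, orderOf_one] at this
    omega
  have hzD : z ∈ D := (hDm z).2 ⟨(C.pSub_gen ⟨128, by decide, rfl⟩).2.2.symm,
    (C.pSub_gen ⟨96, by decide, rfl⟩).2.2.symm⟩
  haveI : Fact (Nat.Prime 2) := ⟨Nat.prime_two⟩
  let zD : D := ⟨z, hzD⟩
  have hzord : orderOf zD = 2 := by rw [Subgroup.orderOf_mk]; exact C.orderOf_z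
  have hz2 : IsPGroup 2 (zpowers zD) := IsPGroup.of_card (n := 1) (by rw [Nat.card_zpowers, hzord, pow_one])
  obtain ⟨S, hS⟩ := hz2.exists_le_sylow
  have hSz : (S : Subgroup D) = zpowers zD := by
    refine le_antisymm (le_of_normalizing S.isPGroup' hS fun q hq hqn => ?_) hS
    have hc : q * zD * q⁻¹ = zD := by
      obtain ⟨k, hk⟩ := mem_zpowers_iff.1 ((mem_normalizer_iff.1 hqn zD).1 (mem_zpowers zD))
      have hk2 : zD ^ k = zD ^ (k % 2) := by
        rw [← zpow_mod_orderOf, hzord]; norm_num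
      rcases Int.emod_two_eq_zero_or_one k with e | e <;> rw [hk2, e] at hk
      · exfalso
        rw [zpow_zero, eq_comm, mul_inv_eq_one, mul_eq_left] at hk
        exact hz1 (congrArg Subtype.val hk)
      · rw [zpow_one] at hk; exact hk.symm
    have hqz : Commute (q : G) z := congrArg Subtype.val (mul_inv_eq_iff_eq_mul.1 hc)
    obtain ⟨k, hk⟩ := S.isPGroup' ⟨q, hq⟩
    obtain ⟨c, hc', ec⟩ := (C.mem _).1 (mem_centralizer_singleton_iff.2 hqz)
    obtain ⟨q1, q2⟩ := (hDm q).1 q.2
    rw [← ec, C.commute_codes hc' (by norm_num)] at q1 q2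
    have h := List.all_eq_true.1 cent_fact c (List.mem_range.2 hc')
    simp [q1, q2] at h
    have h6 : orderOf (q : G) ∣ 6 := orderOf_dvd_of_pow_eq_one (by
      rw [← ec, ← C.rho_pw hc', h.1, C.one])
    have hq2 : orderOf (q : G) ∣ 2 ^ k := orderOf_dvd_of_pow_eq_one
      (congrArg (fun t : (S : Subgroup D) => ((t : D) : G)) hk)
    have h2 : orderOf (q : G) ∣ 2 := by
      obtain ⟨j, -, ej⟩ := (Nat.dvd_prime_pow Nat.prime_two).1 hq2
      rw [ej] at h6 ⊢
      rcases j with _ | _ | j
      · exact one_dvd _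
      · exact dvd_rfl
      · exact absurd ((pow_dvd_pow 2 (by omega : 2 ≤ j + 2)).trans h6) (by norm_num)
    have hcc : Model.mul c c = 0 := C.inj _ (Model.mul_lt _ _) 0 (by norm_num) (by
      rw [C.mul c hc' c hc', ec, ← pow_two, orderOf_dvd_iff_pow_eq_one.1 h2, C.one])
    rcases h.2 with (hn | rfl) | rfl
    · exact absurd hcc hn
    · exact (Subtype.ext (ec.symm.trans C.one) : q = 1) ▸ one_mem _
    · exact (Subtype.ext (ec.symm.trans C.rho_z) : q = zD) ▸ mem_zpowers zD
  have hburn : normalizer ((S : Subgroup D) : Set D) ≤ centralizer ((S : Subgroup D) : Set D) := by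
    intro g hg
    rw [hSz] at hg ⊢
    have hc : g * zD * g⁻¹ = zD := by
      obtain ⟨k, hk⟩ := mem_zpowers_iff.1 ((mem_normalizer_iff.1 hg zD).1 (mem_zpowers zD))
      have hk2 : zD ^ k = zD ^ (k % 2) := by
        rw [← zpow_mod_orderOf, hzord]; norm_num
      rcases Int.emod_two_eq_zero_or_one k with e | e <;> rw [hk2, e] at hk
      · exfalso
        rw [zpow_zero, eq_comm, mul_inv_eq_one, mul_eq_left] at hk
        exact hz1 (congrArg Subtype.val hk)
      · rw [zpow_one] at hk; exact hk.symm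
    have hc' : Commute g zD := mul_inv_eq_iff_eq_mul.1 hc
    rw [mem_centralizer_iff]
    rintro x ⟨k, rfl⟩
    exact (hc'.symm.zpow_left k).eq
  set K : Subgroup D := (MonoidHom.transferSylow S hburn).ker with hK
  have hcomp : IsComplement' K (S : Subgroup D) := MonoidHom.ker_transferSylow_isComplement' S hburn
  have hKS : ∀ g : D, ∃ k ∈ K, ∃ t ∈ zpowers zD, g = k * t := fun g => by
    obtain ⟨⟨k, t⟩, e⟩ := hcomp.surjective g
    exact ⟨k, k.2, t, hSz ▸ t.2, e.symm⟩
  have hcard : Nat.card (S : Subgroup D) = 2 := by rw [hSz, Nat.card_zpowers, hzord]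
  have hKodd : Odd (Nat.card K) := by
    have h1 : Nat.card K = (S : Subgroup D).index := hcomp.index_eq_card.symm
    rw [h1, Nat.odd_iff]
    have := S.not_dvd_index
    omega
  have hmemK : ∀ g : D, Odd (orderOf g) → g ∈ K := fun g hg => by
    rw [hK, MonoidHom.mem_ker]
    have h1 : orderOf ((MonoidHom.transferSylow S hburn) g) ∣ 2 := (_root_.orderOf_dvd_natCard _).trans (dvd_of_eq hcard)
    have h2 := orderOf_map_dvd (MonoidHom.transferSylow S hburn) g
    exact orderOf_eq_one_iff.1 (Nat.eq_one_of_dvd_coprimes (Nat.coprime_two_left.2 hg) h1 h2)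
  -- the four-group
  have hcodes : ∀ a ∈ [0, 1, 576, 577], a < 1152 ∧ Model.mul a a = 0 ∧
      ∀ b ∈ [0, 1, 576, 577], Model.mul a b ∈ [0, 1, 576, 577] ∧ Model.mul a b = Model.mul b a := by
    decide +kernel
  let V : Subgroup G :=
    { carrier := {g | ∃ c ∈ [0, 1, 576, 577], rho c = g}
      one_mem' := ⟨0, by decide, C.one⟩
      mul_mem' := by
        rintro g h ⟨a, ha, rfl⟩ ⟨b, hb, rfl⟩
        exact ⟨_, ((hcodes a ha).2.2 b hb).1, C.mul a (hcodes a ha).1 b (hcodes b hb).1⟩
      inv_mem' := by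
        rintro g ⟨a, ha, rfl⟩
        refine ⟨a, ha, eq_inv_of_mul_eq_one_left ?_⟩
        rw [← C.mul a (hcodes a ha).1 a (hcodes a ha).1, (hcodes a ha).2.1, C.one] }
  have hVcard : Nat.card V = 4 := by
    let f : Fin 4 → V := fun i => ⟨rho ([0, 1, 576, 577].getD i 0), _, (by revert i; decide), rfl⟩
    have hin : ∀ i : Fin 4, [0, 1, 576, 577].getD i 0 < 1152 := by decide
    have hinj : ∀ i j : Fin 4, [0, 1, 576, 577].getD i 0 = [0, 1, 576, 577].getD j 0 → i = j := by decide
    have hb : Function.Bijective f := ⟨fun i j e => hinj i j (C.inj _ (hin i) _ (hin j) (congrArg Subtype.val e)),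
      fun ⟨g, c, hc, e⟩ => by
        simp only [List.mem_cons, List.not_mem_nil, or_false] at hc
        rcases hc with rfl | rfl | rfl | rfl
        exacts [⟨0, Subtype.ext e⟩, ⟨1, Subtype.ext e⟩, ⟨2, Subtype.ext e⟩, ⟨3, Subtype.ext e⟩]⟩
    rw [← Nat.card_congr (Equiv.ofBijective f hb), Nat.card_fin]
  haveI : IsMulCommutative V := ⟨⟨fun ⟨g, a, ha, ea⟩ ⟨h, b, hb, eb⟩ => Subtype.ext (by
    show g * h = h * g
    rw [← ea, ← eb]
    exact ((C.commute_codes (hcodes a ha).1 (hcodes b hb).1).2 ((hcodes a ha).2.2 b hb).2).eq)⟩⟩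
  have hVnc : ¬ IsCyclic V := fun _ => by
    obtain ⟨g, hg⟩ := IsCyclic.exists_ofOrder_eq_natCard (α := V)
    obtain ⟨g, a, ha, ea⟩ := g
    have h2 : orderOf (rho a) ∣ 2 := orderOf_dvd_of_pow_eq_one (by
      rw [pow_two, ← C.mul a (hcodes a ha).1 a (hcodes a ha).1, (hcodes a ha).2.1, C.one])
    rw [hVcard] at hg
    rw [show orderOf (rho a) = 4 from (congrArg orderOf ea).trans ((Subgroup.orderOf_coe _).trans hg)] at h2
    norm_num at h2
  set O : Subgroup G := K.map D.subtype with hO
  have hOodd : Odd (Nat.card O) := by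
    rwa [hO, Nat.card_congr (equivMapOfInjective K D.subtype D.subtype_injective).toEquiv.symm]
  have hOmem : ∀ g, g ∈ O ↔ g ∈ D ∧ Odd (orderOf g) := fun g => ⟨by
      rintro ⟨k, hk, rfl⟩
      refine ⟨k.2, Odd.of_dvd_nat hKodd ?_⟩
      have := orderOf_dvd_natCard (⟨k, hk⟩ : K)
      rwa [Subgroup.orderOf_mk, ← Subgroup.orderOf_coe] at this,
    fun ⟨hg, ho⟩ => ⟨⟨g, hg⟩, hmemK _ (by rwa [Subgroup.orderOf_mk]), rfl⟩⟩
  have hVconj : ∀ a ∈ [0, 1, 576, 577], cj a 128 ∈ pCodes ∧ cj a 96 ∈ pCodes := by decide +kernel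
  have hVO : V ≤ normalizer (O : Set G) := by
    have fwd : ∀ v ∈ V, ∀ g ∈ O, v * g * v⁻¹ ∈ O := by
      rintro _ ⟨a, ha, rfl⟩ g hg
      rw [hOmem] at hg ⊢
      refine ⟨(hDm _).2 ?_, by rw [← MulAut.conj_apply, MulEquiv.orderOf_eq]; exact hg.2⟩
      have hp : ∀ p ∈ pCodes, Commute g (rho p) := fun p hp => by
        obtain ⟨g1, g2⟩ := (hDm g).1 hg.1
        have f : ∀ p ∈ pCodes, ∃ e < 3, ∃ f < 3, p = Model.mul (pw 128 e) (pw 96 f) := by decide +kernel
        obtain ⟨e, -, f', -, rfl⟩ := f p hp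
        rw [C.mul _ (pw_lt _ _) _ (pw_lt _ _), C.rho_pw (by norm_num), C.rho_pw (by norm_num)]
        exact (g1.pow_right e).mul_right (g2.pow_right f')
      have key : ∀ t < 1152, cj a t ∈ pCodes → Commute (rho a * g * (rho a)⁻¹) (rho t) := fun t ht hm => by
        have hinv : (rho a)⁻¹ = rho a := inv_eq_of_mul_eq_one_right (by
          rw [← C.mul a (hcodes a ha).1 a (hcodes a ha).1, (hcodes a ha).2.1, C.one])
        have h1 := (hp _ hm).map (MulAut.conj (rho a)).toMonoidHom
        have e : rho t = rho a * rho (cj a t) * (rho a)⁻¹ := by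
          have haa : rho a * rho a = 1 := by
            rw [← C.mul a (hcodes a ha).1 a (hcodes a ha).1, (hcodes a ha).2.1, C.one]
          rw [← C.rho_cj (hcodes a ha).1 ht, hinv, ← mul_assoc, ← mul_assoc, haa, one_mul, mul_assoc, haa,
            mul_one]
        rw [e]
        simpa using h1
      exact ⟨key 128 (by norm_num) (hVconj a ha).1, key 96 (by norm_num) (hVconj a ha).2⟩
    intro v hv
    refine mem_normalizer_iff.2 fun g => ⟨fwd v hv g, fun h => ?_⟩
    have := fwd v⁻¹ (V.inv_mem hv) _ h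
    simpa [mul_assoc] using this
  have hgen := Cfsg.Agent.Coprime.fixedGen_eq hVnc hVO (hVcard ▸ (Nat.coprime_two_left.2 hOodd).pow_left 2)
  by_contra hcon
  push Not at hcon
  have hOz : O ≤ centralizer ({z} : Set G) := by
    rw [← hgen]
    refine iSup_le fun g => iSup_le fun ⟨⟨a, ha, ea⟩, hg1⟩ => fun w ⟨hw, hwc⟩ => ?_
    have hwc' : Commute w g := mem_centralizer_singleton_iff.1 hwc
    rw [← ea] at hwc' hg1
    obtain ⟨hwD, hwo⟩ := (hOmem w).1 hw
    obtain ⟨w1, w2⟩ := (hDm w).1 hwD
    refine mem_centralizer_singleton_iff.2 ?_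
    simp only [List.mem_cons, List.not_mem_nil, or_false] at ha
    rcases ha with rfl | rfl | rfl | rfl
    · exact absurd C.one hg1
    · rwa [show rho 1 = z from C.rho_z] at hwc'
    · exact hcon 576 (by simp) w hwc' hwo w1 w2
    · exact hcon 577 (by simp) w hwc' hwo w1 w2
  obtain ⟨g, g1, g2, g3⟩ := h
  refine g3 ?_
  obtain ⟨k, hk, t, ht, e⟩ := hKS ⟨g, (hDm g).2 ⟨g1, g2⟩⟩
  obtain ⟨m, rfl⟩ := mem_zpowers_iff.1 ht
  rw [show g = (k : G) * z ^ m from (congrArg Subtype.val e).trans (by simp [zD])]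
  have hkz : Commute (k : G) z := mem_centralizer_singleton_iff.1 (hOz ⟨k, hk, rfl⟩)
  exact hkz.mul_left ((Commute.refl z).zpow_left m)

/-- The commutator relator holds once `x` and `y` commute. -/
theorem comm_rel (hxy : Words.lprod (Words.naLetter rho s) Words.naXY = 1) :
    Words.lprod (Words.letter rho s) Words.commRel = 1 := by
  have hsqL : ∀ y, Words.letter rho s y * Words.letter rho s y = 1 :=
    C.letter_sq
  have hsqN : ∀ y, Words.naLetter rho s y * Words.naLetter rho s y = 1 :=
    C.naLetter_sq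
  have hgL : ∀ y < 4, Words.letter rho s y = rho (Words.hg.getD y 0) := fun y hy => if_pos hy
  have hgN : ∀ y < 4, Words.naLetter rho s y = rho (Words.naGens.getD y 0) := fun y hy => if_pos hy
  have hlH : ∀ y < 4, Words.hg.getD y 0 < 1152 := by decide
  have hlN : ∀ y < 4, Words.naGens.getD y 0 < 1152 := by decide
  set i := rho Words.rC * s with hi
  set n := rho 1013 * i * rho 855 with hn
  set y := n * rho 128 * n⁻¹ with hy
  have eL : Words.lprod (Words.letter rho s) Words.nWord = n := by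
    rw [show Words.nWord = [0] ++ 4 :: [0, 2, 0, 1, 3, 0, 3] from rfl, lprod_append, lprod_cons _ 4,
      C.lprod_eval hlH hgL _ (by decide), C.lprod_eval hlH hgL _ (by decide), hn, ← mul_assoc,
      show codeEval Words.hg [0] = 1013 by decide +kernel,
      show codeEval Words.hg [0, 2, 0, 1, 3, 0, 3] = 855 by decide +kernel]
    rfl
  have eN : Words.lprod (Words.naLetter rho s) Words.naN = n := by
    rw [show Words.naN = [1] ++ 4 :: [1, 2, 1, 0, 3] from rfl, lprod_append, lprod_cons _ 4,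
      C.lprod_eval hlN hgN _ (by decide), C.lprod_eval hlN hgN _ (by decide), hn, ← mul_assoc,
      show codeEval Words.naGens [1] = 1013 by decide +kernel,
      show codeEval Words.naGens [1, 2, 1, 0, 3] = 855 by decide +kernel]
    rfl
  have xL : Words.lprod (Words.letter rho s) Words.xWord = rho 128 := by
    rw [C.lprod_eval hlH hgL _ (by decide)]; exact congrArg rho (by decide +kernel)
  have aL : Words.lprod (Words.letter rho s) Words.aWord = rho 96 := by
    rw [C.lprod_eval hlH hgL _ (by decide)]; exact congrArg rho (by decide +kernel)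
  have xN : Words.lprod (Words.naLetter rho s) Words.naX = rho 128 := by
    rw [C.lprod_eval hlN hgN _ (by decide)]; exact congrArg rho (by decide +kernel)
  have hxY : Commute (rho 128) y := by
    have h := (commute_iff_rel hsqN (p := Words.naX) (q := Words.naN ++ Words.naX ++ Words.naN.reverse)
      (r := Words.naXY) (c := 1) (by decide +kernel)).2 hxy
    rwa [lprod_append, lprod_append, lprod_reverse hsqN, eN, xN] at h
  -- the conjugates of `z` under `y`
  have hii : i⁻¹ = i := inv_eq_of_mul_eq_one_right C.i_sq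
  have cr : ∀ (b u : ℕ), b < 1152 → u < 1152 → rho b * rho u * (rho b)⁻¹ = rho (cj b u) :=
    fun b u hb hu => C.rho_cj hb hu
  set d := cj 855 128 with hd
  have hy' : y = rho 1013 * i * rho d * i * (rho 1013)⁻¹ := by
    rw [hy, hn, hd, ← cr 855 128 (by norm_num) (by norm_num)]
    simp only [mul_inv_rev, hii, mul_assoc]
  have step : ∀ u u1 u2 u3 : ℕ, u < 1152 → cj (Model.inv 1013) u = u1 → u1 ∈ rCodes → cj d (iConj u1) = u2 →
      u2 ∈ rCodes → cj 1013 (iConj u2) = u3 → y * rho u * y⁻¹ = rho u3 := by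
    intro u u1 u2 u3 hu e1 m1 e2 m2 e3
    have hp : ∀ t, iConj t < 1152 := fun t => cj_lt _ _
    have hd' : d < 1152 := cj_lt _ _
    rw [← e3, ← cr 1013 _ (by norm_num) (hp u2), ← (C.i_conj m2).1, ← e2, ← cr d _ hd' (hp u1),
      ← (C.i_conj m1).1, ← e1, ← cr _ u (inv_lt _) hu, ← (C.rho_inv (by norm_num)).2, inv_inv, hy']
    simp only [mul_inv_rev, inv_inv, mul_assoc, hi]
  have hyz : y * z * y⁻¹ = rho 576 := by
    rw [← C.rho_z]
    exact step 1 1 21 576 (by norm_num) (by decide +kernel) (by decide) (by decide +kernel) (by decide)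
      (by decide +kernel)
  have hyyz : y * y * z * (y * y)⁻¹ = rho 577 := by
    rw [show y * y * z * (y * y)⁻¹ = y * (y * z * y⁻¹) * y⁻¹ by group, hyz]
    exact step 576 577 31 577 (by norm_num) (by decide +kernel) (by decide) (by decide +kernel) (by decide)
      (by decide +kernel)
  have hnz : ¬ Commute y z := fun h => by
    have := C.inj _ (by norm_num) 1 (by norm_num) (hyz.symm.trans (by rw [h.eq, mul_inv_cancel_right, ← C.rho_z]; rfl))
    omega
  have hy3 : y ^ 3 = 1 := by
    rw [hy, conj_pow, ← C.rho_pw (by norm_num), (p_closed.2 128 (by decide)).2.2, C.one, mul_one,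
      mul_inv_cancel]
  obtain ⟨v, hv, w, hwv, hwo, hwx, hwa, hwz⟩ :=
    C.exists_odd_not (C.exists_cent_not hnz hxY (isConj_iff.2 ⟨n, rfl⟩))
  have key : Commute (rho 96) (y * rho 96 * y⁻¹) := by
    simp only [List.mem_cons, List.not_mem_nil, or_false] at hv
    rcases hv with rfl | rfl
    · exact C.comm_step hxY (by rwa [hyz]) hwo hwx hwa hwz
    · have h := C.comm_step (hxY.mul_right hxY) (by rwa [hyyz]) hwo hwx hwa hwz
      have h' : Commute (y * rho 96 * y⁻¹) (y * (y * y * rho 96 * (y * y)⁻¹) * y⁻¹) :=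
        h.map (MulAut.conj y).toMonoidHom
      have e : y * (y * y * rho 96 * (y * y)⁻¹) * y⁻¹ = rho 96 := by
        rw [show y * (y * y * rho 96 * (y * y)⁻¹) * y⁻¹ = y ^ 3 * rho 96 * (y ^ 3)⁻¹ by simp [pow_succ, mul_assoc], hy3]
        simp
      rw [e] at h'
      exact h'.symm
  refine (commute_iff_rel hsqL (p := Words.aWord)
    (q := (Words.nWord ++ Words.xWord ++ Words.nWord.reverse) ++ Words.aWord ++
      (Words.nWord ++ Words.xWord ++ Words.nWord.reverse).reverse) (r := Words.commRel) (c := 0)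
    (by decide +kernel)).1 ?_
  rw [lprod_append, lprod_append, lprod_reverse hsqL, lprod_append, lprod_append, lprod_reverse hsqL, eL, xL, aL]
  exact key

end Chart

end Cfsg.Agent.U43
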