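import Cfsg.Agent.Lib.U43.Phi
import Cfsg.Agent.Lib.CosetCert.Table

/-!
The letters and relators used for a group of unitary `U₄(3)` type. Letters `0, 1, 2, 3` are four involutions
generating the centralizer of `z`, letter `4` is an involution exchanging `z` and `v`; `CosetCert.wprod` is the
product of a word, and reversing a relator inverts it, so the reading direction of a relator does not matter.
-/

set_option autoImplicit false

namespace Cfsg.Agent.U43.Words

/-- The codes of the generators of the centralizer. -/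
def hg : List ℕ := [1013, 607, 1121, 827]

/-- The code of the element `r` with `r * s` an involution. -/
def rC : ℕ := 22

/-- The letters of a chart: `0, ..., 3` and the involution `rho rC * s`. -/
def letter {G : Type*} [Group G] (rho : ℕ → G) (s : G) (y : ℕ) : G :=
  if y < 4 then rho (hg.getD y 0) else if y = 4 then rho rC * s else 1

/-- The product of a word, read from left to right. -/
def lprod {G : Type*} [Group G] (g : ℕ → G) (w : List ℕ) : G := (w.map g).prod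

/-- `CosetCert.wprod` multiplies from right to left. -/
theorem wprod_eq {G : Type*} [Group G] (g : ℕ → G) (hg : ∀ x, g x * g x = 1) :
    ∀ w : List ℕ, CosetCert.wprod g w = (lprod g w)⁻¹
  | [] => by simp [CosetCert.wprod, lprod]
  | y :: w => by
    rw [CosetCert.wprod, wprod_eq g hg w, lprod, lprod, List.map_cons, List.prod_cons, mul_inv_rev,
      inv_eq_of_mul_eq_one_right (hg y)]

/-- The relators among the first four letters. -/
def hRels : List (List ℕ) := [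
  [0, 2, 0, 2, 0, 2],
  [1, 3, 1, 3, 1, 3],
  [0, 1, 0, 1, 0, 1, 0, 1],
  [0, 3, 0, 3, 0, 3, 0, 3],
  [0, 1, 3, 0, 2, 0, 3, 1, 0, 2],
  [0, 1, 3, 1, 0, 2, 1, 3, 1, 2],
  [0, 1, 2, 3, 0, 1, 2, 3, 0, 1, 2, 3]]

/-- The relators which say how the fifth letter acts on the common centralizer of `z` and `v`. -/
def conjRels : List (List ℕ) := [
  [4, 2, 1, 4, 2, 1],
  [4, 0, 1, 0, 2, 1, 2, 4, 0, 1, 0],
  [4, 1, 4, 1],
  [4, 0, 2, 3, 2, 0, 3, 4, 3, 2, 3]]

/-- Powers of elements acting without fixed points on one of the two elementary groups of order sixteen. -/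
def powRels : List (List ℕ) := [
  [0, 3, 0, 3, 4, 0, 3, 0, 3, 4, 0, 3, 0, 3, 4],
  [3, 2, 0, 3, 4, 0, 4, 3, 2, 0, 3, 4, 0, 4, 3, 2, 0, 3, 4, 0, 4, 3, 2, 0, 3, 4, 0, 4, 3, 2, 0, 3, 4, 0, 4],
  [3, 4, 3, 4, 3, 4, 3, 4, 3, 4],
  [2, 0, 3, 0, 4, 3, 0, 1, 0, 4, 2, 0, 3, 0, 4, 3, 0, 1, 0, 4, 2, 0, 3, 0, 4, 3, 0, 1, 0, 4, 2, 0, 3, 0, 4, 3, 0, 1, 0, 4, 2, 0, 3, 0, 4, 3, 0, 1, 0, 4],
  [0, 4, 0, 4, 0, 4, 0, 4, 0, 4],
  [2, 0, 4, 2, 0, 4, 2, 0, 4, 2, 0, 4, 2, 0, 4],
  [1, 3, 4, 1, 3, 4, 1, 3, 4, 1, 3, 4, 1, 3, 4]]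

/-- The commutator of two elements of order three. -/
def commRel : List ℕ := [3, 2, 1, 0, 4, 0, 2, 0, 1, 3, 0, 3, 0, 1, 0, 2, 1, 0, 3, 0, 3, 1, 0, 2, 0, 4, 3, 2, 1, 0, 4, 0, 2, 0, 1, 3, 0, 3, 0, 1, 2, 0, 1, 0, 3, 0, 3, 1, 0, 2, 0, 4, 0, 1, 2, 3, 4, 0, 2, 0, 1, 3, 0, 3, 0, 1, 0, 2, 1, 0, 3, 0, 3, 1, 0, 2, 0, 4, 0, 1, 2, 3, 4, 0, 2, 0, 1, 3, 0, 3, 0, 1, 2, 0, 1, 0, 3, 0, 3, 1, 0, 2, 0, 4]

/-- All relators. -/
def words : List (List ℕ) := hRels ++ conjRels ++ powRels ++ [commRel]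

/-- The elements of order three `x`, `a` generating the Sylow subgroup `P` of the centralizer of `x` in `C(z)`. -/
def xC : ℕ := 128

/-- See `xC`. -/
def aC : ℕ := 96

/-- The word in the letters conjugating `x` to `y`. -/
def nWord : List ℕ := [0, 4, 0, 2, 0, 1, 3, 0, 3]

/-- Words for `x` and `a`. -/
def xWord : List ℕ := [0, 1, 0, 2, 1, 0]

/-- See `xWord`. -/
def aWord : List ℕ := [0, 3, 2, 1]

/-- The letters generating the normalizer in the centralizer of the first elementary group, as codes. -/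
def naGens : List ℕ := [607, 1013, 1121, 1006]

/-- Their words in the first four letters. -/
def naWords : List (List ℕ) := [
  [1],
  [0],
  [2],
  [3, 0, 3]]

end Cfsg.Agent.U43.Words
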