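import Cfsg.Prelude.Def_Classical
import Cfsg.Agent.Lib.MonomialMult.NineField
import Cfsg.Agent.Lib.MonomialMult.FieldChange
import Cfsg.Agent.Lib.U43.Words

/-!
Five involutions of `PSU₄(3)` satisfying the relators of the certificate.

The matrices are stored as lists of sixteen codes of the field with nine elements; all checks are made on the
codes.
-/

set_option autoImplicit false
set_option maxRecDepth 100000

namespace Cfsg.Agent.U43

namespace PsuModel

open Cfsg.Agent.MonomialMult Cfsg.Agent.MonomialMult.Nine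
open scoped Matrix

/-- An entry. -/
def ent (m : List ℕ) (i j : ℕ) : ℕ := m.getD (4 * i + j) 0 % 9

/-- Product of coded matrices. -/
def mulM (a b : List ℕ) : List ℕ :=
  (List.range 16).map fun k => addN (addN (mulN (ent a (k / 4) 0) (ent b 0 (k % 4)))
      (mulN (ent a (k / 4) 1) (ent b 1 (k % 4))))
    (addN (mulN (ent a (k / 4) 2) (ent b 2 (k % 4))) (mulN (ent a (k / 4) 3) (ent b 3 (k % 4))))

/-- The matrix of a code. -/
def toMat (m : List ℕ) : Matrix (Fin 4) (Fin 4) Nine := Matrix.of fun i j => ofN (ent m i j)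

theorem ent_lt (m : List ℕ) (i j : ℕ) : ent m i j < 9 := Nat.mod_lt _ (by norm_num)

theorem toMat_mul (a b : List ℕ) : toMat (mulM a b) = toMat a * toMat b := by
  have hs := Nine.spec.2.2.2.1
  have hm : ∀ x y i j k l, mulN (ent x i j) (ent y k l) < 9 ∧
      ofN (mulN (ent x i j) (ent y k l)) = ofN (ent x i j) * ofN (ent y k l) :=
    fun x y i j k l => ⟨(hs _ (ent_lt x i j) _ (ent_lt y k l)).2.1, (hs _ (ent_lt x i j) _ (ent_lt y k l)).2.2.2⟩
  have ha : ∀ x y, x < 9 → y < 9 → addN x y < 9 ∧ ofN (addN x y) = ofN x + ofN y :=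
    fun x y hx hy => ⟨(hs x hx y hy).1, (hs x hx y hy).2.2.1⟩
  ext i j
  rw [Matrix.mul_apply, Fin.sum_univ_four]
  show ofN (ent (mulM a b) i j) = _
  have e : ent (mulM a b) i j = addN (addN (mulN (ent a i 0) (ent b 0 j)) (mulN (ent a i 1) (ent b 1 j)))
      (addN (mulN (ent a i 2) (ent b 2 j)) (mulN (ent a i 3) (ent b 3 j))) := by
    have hi := i.isLt
    have hj := j.isLt
    have hk : 4 * (i : ℕ) + j < 16 := by omega
    rw [ent, List.getD_eq_getElem?_getD, mulM, List.getElem?_map, List.getElem?_range hk]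
    simp only [Option.map_some, Option.getD_some]
    rw [show (4 * (i : ℕ) + j) / 4 = i by omega, show (4 * (i : ℕ) + j) % 4 = j by omega]
    refine Nat.mod_eq_of_lt (ha _ _ (ha _ _ ?_ ?_).1 (ha _ _ ?_ ?_).1).1 <;> exact (hm _ _ _ _ _ _).1
  rw [e, (ha _ _ (ha _ _ (hm _ _ _ _ _ _).1 (hm _ _ _ _ _ _).1).1 (ha _ _ (hm _ _ _ _ _ _).1 (hm _ _ _ _ _ _).1).1).2,
    (ha _ _ (hm _ _ _ _ _ _).1 (hm _ _ _ _ _ _).1).2, (ha _ _ (hm _ _ _ _ _ _).1 (hm _ _ _ _ _ _).1).2,
    (hm _ _ _ _ _ _).2, (hm _ _ _ _ _ _).2, (hm _ _ _ _ _ _).2, (hm _ _ _ _ _ _).2, add_assoc, add_assoc, add_assoc]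
  rfl

/-- The identity code. -/
def oneM : List ℕ := [1, 0, 0, 0, 0, 1, 0, 0, 0, 0, 1, 0, 0, 0, 0, 1]

/-- The letters. -/
def gen (y : ℕ) : List ℕ :=
  [[0, 0, 0, 1, 0, 0, 1, 0, 0, 1, 0, 0, 1, 0, 0, 0], [0, 0, 0, 1, 0, 0, 8, 0, 0, 4, 0, 0, 1, 0, 0, 0],
   [0, 0, 3, 3, 0, 0, 5, 7, 5, 3, 0, 0, 5, 6, 0, 0], [0, 0, 3, 3, 0, 0, 3, 6, 7, 7, 0, 0, 7, 5, 0, 0],
   [1, 2, 1, 4, 2, 1, 1, 4, 1, 1, 2, 4, 8, 8, 8, 2]].getD y oneM

/-- The product of a word. -/
def prodM (w : List ℕ) : List ℕ := w.foldr (fun y r => mulM (gen y) r) oneM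

/-- Whether a code is scalar. -/
def isScalar (m : List ℕ) : Bool :=
  (List.range 4).all fun i => (List.range 4).all fun j => ent m i j == if i = j then ent m 0 0 else 0

/-- The matrix of a letter. -/
def genMat (y : ℕ) : Matrix (Fin 4) (Fin 4) Nine := toMat (gen y)

theorem gen_five {y : ℕ} (h : 5 ≤ y) : gen y = gen 5 := by
  rw [gen, gen, List.getD_eq_default _ _ (by simpa using h), List.getD_eq_default _ _ (by simp)]

theorem toMat_one : toMat oneM = 1 := by decide +kernel

theorem gen_ok : ∀ y < 6, (genMat y).det = 1 ∧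
    (genMat y).transpose * (genMat y).map (fun a => a * a * a) = 1 := by
  decide +kernel

theorem genMat_ok (y : ℕ) : (genMat y).det = 1 ∧
    (genMat y).transpose * (genMat y).map (fun a => a * a * a) = 1 := by
  rcases lt_or_ge y 6 with h | h
  · exact gen_ok y h
  · rw [genMat, gen_five (by omega)]
    exact gen_ok 5 (by norm_num)

theorem sq_ok : ((List.range 6).all fun y => isScalar (prodM [y, y])) = true := by decide +kernel

theorem words_ok : (Words.words.all fun w => isScalar (prodM w)) = true := by decide +kernel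

theorem ne_ok : mulM (gen 0) (gen 1) ≠ mulM (gen 1) (gen 0) := by decide +kernel

/-- A letter in the special unitary group. -/
def su (y : ℕ) : Cfsg.SU 4 Nine 3 :=
  ⟨⟨genMat y, (genMat_ok y).1⟩, fun u v => by
    have hU := (genMat_ok y).2
    have hcube : ∀ a : Nine, a ^ 3 = a * a * a := fun a => by ring
    have hadd : ∀ a b : Nine, (a + b) ^ 3 = a ^ 3 + b ^ 3 := by decide +kernel
    have hmap : ∀ (A : Matrix (Fin 4) (Fin 4) Nine) (x : Fin 4 → Nine),
        (fun i => ((A *ᵥ x) i) ^ 3) = (A.map fun a => a * a * a) *ᵥ fun i => (x i) ^ 3 := by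
      intro A x
      funext i
      simp only [Matrix.mulVec, dotProduct, Fin.sum_univ_four, hadd, mul_pow, Matrix.map_apply, hcube (A i _)]
    show ∑ i, (genMat y *ᵥ u) i * ((genMat y *ᵥ v) i) ^ 3 = ∑ i, u i * (v i) ^ 3
    show (genMat y *ᵥ u) ⬝ᵥ (fun i => ((genMat y *ᵥ v) i) ^ 3) = u ⬝ᵥ fun i => (v i) ^ 3
    rw [hmap, ← Matrix.vecMul_transpose, ← Matrix.dotProduct_mulVec, Matrix.mulVec_mulVec, hU, Matrix.one_mulVec]⟩

theorem su_prod : ∀ w : List ℕ,
    (((w.map su).prod : Cfsg.SU 4 Nine 3) : Matrix.SpecialLinearGroup (Fin 4) Nine).1 = toMat (prodM w)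
  | [] => by simpa [prodM] using toMat_one.symm
  | y :: w => by
    show ((((y :: w).map su).prod : Cfsg.SU 4 Nine 3) : Matrix.SpecialLinearGroup (Fin 4) Nine).1 = _
    rw [List.map_cons, List.prod_cons, Subgroup.coe_mul, Matrix.SpecialLinearGroup.coe_mul, su_prod w]
    exact (toMat_mul _ _).symm

/-- The letters in the projective group. -/
def f (y : ℕ) : Cfsg.PSU 4 Nine 3 := QuotientGroup.mk (su y)

theorem lprod_eq_one {w : List ℕ} (h : isScalar (prodM w) = true) : Words.lprod f w = 1 := by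
  have e : Words.lprod f w = ((w.map su).prod : Cfsg.SU 4 Nine 3) := by
    rw [Words.lprod, show w.map f = (w.map su).map (QuotientGroup.mk' _) by rw [List.map_map]; rfl,
      ← map_list_prod]
    rfl
  rw [e, QuotientGroup.eq_one_iff, Subgroup.mem_center_iff]
  intro g
  have hs : toMat (prodM w) = ofN (ent (prodM w) 0 0) • (1 : Matrix (Fin 4) (Fin 4) Nine) := by
    ext i j
    simp only [isScalar, List.all_eq_true, List.mem_range, beq_iff_eq] at h
    show ofN (ent (prodM w) i j) = _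
    rw [h i i.2 j j.2]
    by_cases hij : i = j
    · subst hij; simp
    · rw [if_neg (fun e => hij (Fin.ext e))]
      simp [Matrix.one_apply_ne hij, Nine.spec.2.2.1.1]
  refine Subtype.ext (Subtype.ext ?_)
  rw [Subgroup.coe_mul, Subgroup.coe_mul, Matrix.SpecialLinearGroup.coe_mul, Matrix.SpecialLinearGroup.coe_mul,
    su_prod, hs, Matrix.mul_smul, Matrix.smul_mul, mul_one, one_mul]

theorem f_sq (y : ℕ) : f y * f y = 1 := by
  have key : ∀ z < 6, f z * f z = 1 := fun z hz => by
    have h := lprod_eq_one (List.all_eq_true.1 sq_ok z (List.mem_range.2 hz))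
    simpa [Words.lprod] using h
  rcases lt_or_ge y 6 with h | h
  · exact key y h
  · have e : f y = f 5 := congrArg QuotientGroup.mk
      (Subtype.ext (Subtype.ext (show genMat y = genMat 5 by rw [genMat, genMat, gen_five (by omega)])))
    rw [e]
    exact key 5 (by norm_num)

theorem f_zero_ne : f 0 ≠ 1 := by
  intro h
  rw [f, QuotientGroup.eq_one_iff, Subgroup.mem_center_iff] at h
  have e : toMat (mulM (gen 0) (gen 1)) = toMat (mulM (gen 1) (gen 0)) := by
    rw [toMat_mul, toMat_mul]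
    exact congrArg (fun g : Cfsg.SU 4 Nine 3 => (g : Matrix.SpecialLinearGroup (Fin 4) Nine).1) (h (su 1)).symm
  exact (show toMat (mulM (gen 0) (gen 1)) ≠ toMat (mulM (gen 1) (gen 0)) by decide +kernel) e

end PsuModel

open Cfsg.Agent.MonomialMult

/-- Five involutions of the unitary group satisfying the relators. -/
theorem exists_psu_model (K : Type) [Field K] [Fintype K] (hK : Fintype.card K = 9) :
    ∃ f : ℕ → Cfsg.PSU 4 K 3, (∀ y, f y * f y = 1) ∧ (∀ w ∈ Words.words, Words.lprod f w = 1) ∧ f 0 ≠ 1 := by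
  have hcard : Fintype.card Nine = Fintype.card K := by rw [Nine.card, hK]; norm_num
  obtain ⟨e⟩ := psu_field_equiv (n := 4) (q := 3) (FiniteField.ringEquivOfCardEq hcard)
  refine ⟨fun y => e (PsuModel.f y), fun y => by rw [← map_mul, PsuModel.f_sq, map_one], fun w hw => ?_, ?_⟩
  · have h := PsuModel.lprod_eq_one (List.all_eq_true.1 PsuModel.words_ok w hw)
    rw [Words.lprod] at h ⊢
    rw [show (w.map fun y => e (PsuModel.f y)) = (w.map PsuModel.f).map e by rw [List.map_map]; rfl,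
      ← map_list_prod, h, map_one]
  · exact fun h => PsuModel.f_zero_ne (e.injective (h.trans (map_one e).symm))

end Cfsg.Agent.U43
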