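import Cfsg.Agent.Lib.U43.Phi

/-!
The finite elimination: an automorphism of the centraliser of the four-group exchanging `z` and `v`, coming
from a group of unitary `U₄(3)` type, is `phiC` up to inner automorphisms, and the kind is three.
-/

set_option autoImplicit false
set_option maxRecDepth 20000

namespace Cfsg.Agent.U43

open Model

/-- Generators of the centraliser of the four-group. -/
def rGens : List ℕ := [2, 20, 544, 576]

/-- Exponents of the generators `1, 10, 2, 20, 544, 576` giving the codes of `rCodes`. -/
def rWords : List ℕ := [0, 1, 4, 5, 7, 6, 2, 3, 8, 9, 12, 13, 15, 14, 10, 11, 16, 17, 20, 21, 23, 22, 18, 19, 24, 25, 28, 29, 31, 30, 26, 27, 32, 33, 36, 37, 39, 38, 34, 35, 40, 41, 44, 45, 47, 46, 42, 43, 48, 49, 52, 53, 55, 54, 50, 51, 56, 57, 60, 61, 63, 62, 58, 59]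

/-- The product of the selected members of a list, multiplied on the right of `acc`. -/
def evalFrom (k : ℕ) : List ℕ → ℕ → ℕ → ℕ
  | [], _, acc => acc
  | g :: gs, b, acc => evalFrom k gs (b / 2) (if b % 2 == 1 then mulK k acc g else acc)

/-- The extension to `rCodes` of the images of the generators. -/
def ext (k : ℕ) (im : List ℕ) (x : ℕ) : ℕ :=
  evalFrom k (10 :: 1 :: im) (rWords.getD (rCodes.idxOf x) 0) 0

/-- The exchange of `z` and `v`. -/
def swW (x : ℕ) : ℕ := if x == 1 then 10 else if x == 10 then 1 else x

/-- The admissible images of a single generator. -/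
def cand (k g : ℕ) : List ℕ := rCodes.filter fun G => mulK k G G == swW (mulK k g g)

/-- The condition on the images `A, B` of two generators coming from their commutator. -/
def pairOk (k g h A B : ℕ) : Bool :=
  [0, 1, 10, 11].any fun c => mulK k g h == mulK k c (mulK k h g) &&
    mulK k A B == mulK k (swW c) (mulK k B A)

/-- The admissible images of the generators. -/
def sols (k : ℕ) : List (List ℕ) :=
  ((cand k 2).filter (fun a => decide (32 ≤ a))).flatMap fun a =>
    ((cand k 20).filter (fun b => decide (32 ≤ b) && decide (32 ≤ mulK k a b) &&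
      pairOk k 20 2 b a)).flatMap fun b =>
      ((cand k 544).filter (fun c => pairOk k 544 2 c a && pairOk k 544 20 c b)).flatMap fun c =>
        ((cand k 576).filter (fun d => pairOk k 576 2 d a && pairOk k 576 20 d b &&
          pairOk k 576 544 d c)).map fun d => [a, b, c, d]

/-- Conjugation by `j₁` followed by the extension. -/
def turn (im : List ℕ) (x : ℕ) : ℕ := ext 3 im (mul (mul 4 x) 5)

/-- `r` conjugates `x` to `y`. -/
def conjOk (r x y : ℕ) : Bool := mul r x == mul y r

/-- What an exchanging element gives for the images of the generators. -/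
def closes (im : List ℕ) : Bool :=
  (rCodes.any fun r => rGens.all (fun g => conjOk r g (ext 3 im (ext 3 im g))) && ext 3 im r == r) &&
  (rCodes.any fun r => rGens.all (fun g => conjOk r g (turn im (turn im (turn im g)))) && turn im r == r)

theorem sols_none : ∀ k < 8, k ≠ 3 → sols k = [] := by decide +kernel

theorem sols_closing : ((sols 3).all fun im => !(closes im) ||
    rCodes.any fun r => (rGens.zip im).all fun p => conjOk r p.2 (phiC p.1)) = true := by
  decide +kernel

theorem word_spec : (rCodes.all fun x => rWords.getD (rCodes.idxOf x) 0 < 64) = true ∧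
    (List.range 8).all (fun k => rCodes.all fun x =>
      evalFrom k (1 :: 10 :: rGens) (rWords.getD (rCodes.idxOf x) 0) 0 == x) = true := by
  decide +kernel

theorem phi_ext : ∀ x ∈ rCodes, ext 3 (rGens.map phiC) x = phiC x := by decide +kernel

theorem sq_cands : ∀ r ∈ rCodes, phiC r = r → rGens.all (fun g => conjOk r g (phiC (phiC g))) = true →
    r = 1120 ∨ r = 1131 := by
  decide +kernel

theorem cube_cands : ∀ r ∈ rCodes, phiC (mul (mul 4 r) 5) = r →
    rGens.all (fun g => conjOk r g (phiC (mul (mul 4 (phiC (mul (mul 4 (phiC (mul (mul 4 g) 5))) 5))) 5))) =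
      true → r = 0 := by
  decide +kernel

theorem turn_values : mul 4 5 = 0 ∧ mul 5 4 = 0 ∧ mul (mul 4 1) 5 = 1 ∧ mul (mul 4 10) 5 = 11 ∧
    phiC 11 = 11 ∧ mul 11 1131 = 1120 ∧
    ∀ x ∈ rCodes, mul (mul 4 x) 5 ∈ rCodes := by
  decide +kernel

theorem rCodes_kind : ∀ k < 8, rCodes = (List.range 1152).filter (fun g => mulK k g 10 == mulK k 10 g) := by
  decide +kernel

theorem inv_classes : ((List.range 1152).all fun g => g == 0 || mul g g != 0 ||
    [1, 10, 576, 1142].any fun r => (List.range 1152).any fun h => mul h g == mul r h) = true := by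
  decide +kernel

theorem class_phi : ∀ r ∈ [576, 1142], r ∈ rCodes ∧ phiC r < 32 ∧ phiC r ≠ 0 ∧ mul (phiC r) (phiC r) = 0 := by
  decide +kernel

end Cfsg.Agent.U43
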