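import Cfsg.Agent.Lib.U43.Sides

/-!
The element exchanging `z` and a second involution `v` of the extraspecial group, and what it gives for the
centralizer of both.
-/

set_option autoImplicit false
set_option maxRecDepth 20000

namespace Cfsg.Agent.U43

open Model Subgroup

universe u

theorem four_codes : ∀ a ∈ [0, 1, 10, 11], a < 32 ∧ comm a 10 = true := by decide +kernel

theorem ten_split : qmul 2 10 = qmul 10 2 ∧ qmul 20 10 = qmul 10 20 ∧
    qmul 2 20 = qmul 1 (qmul 20 2) := by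
  decide +kernel

theorem card_comm_ten : Fintype.card {v : Fin 32 // comm v 10 = true} = 16 := by decide +kernel

set_option synthInstance.maxSize 2000 in
theorem fix_ten : ∀ a < 32, ∀ m < 3, ∀ n < 3, qmul a (act m (act (3 * n) 10)) = qmul 10 a →
    m = 0 ∧ n = 0 ∧ comm a 10 = true := by
  decide +kernel

theorem sq_small : ∀ a < 32, qmul a a < 2 := by decide +kernel

variable {G : Type u} [Group G] {z : G}

/-- The centralizer of an element. -/
abbrev Cz (z : G) : Subgroup G := centralizer ({z} : Set G)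

/-- The element `z` of its centralizer. -/
def zc' (z : G) : ↥(Cz z) := ⟨z, mem_centralizer_singleton_iff.2 rfl⟩

theorem mem_cz {x : G} : x ∈ Cz z ↔ Commute x z := mem_centralizer_singleton_iff

/-- The data at the centralizer of `z` and the pairs in it. -/
structure Swap (P : Pairs (zc' z)) (s : G) : Prop where
  to_v : s * z * s⁻¹ = (P.ph 10 : G)
  to_z : s * (P.ph 10 : G) * s⁻¹ = z
  meet : ∀ x ∈ P.qSub, ∀ y ∈ P.qSub, s * (x : G) * s⁻¹ = y → ∃ d ∈ [0, 1, 10, 11], y = P.ph d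

variable [Finite G] {P : Pairs (zc' z)}

/-- The image of the extraspecial group in the whole group. -/
abbrev Qz (P : Pairs (zc' z)) : Subgroup G := P.qSub.map (Cz z).subtype

theorem mem_Qz {x : G} : x ∈ Qz P ↔ ∃ v < 32, (P.ph v : G) = x := by
  constructor
  · rintro ⟨y, ⟨v, hv, rfl⟩, rfl⟩; exact ⟨v, hv, rfl⟩
  · rintro ⟨v, hv, rfl⟩; exact ⟨_, P.ph_mem v hv, rfl⟩

variable (h₀ : Hyp (zc' z) P)

/-- The centralizer of `v` in the extraspecial group. -/
abbrev A0 (P : Pairs (zc' z)) : Subgroup G := Qz P ⊓ Cz (P.ph 10 : G)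

include h₀

theorem phG_inj {a b : ℕ} (ha : a < 32) (hb : b < 32) (e : (P.ph a : G) = P.ph b) : a = b :=
  h₀.ph_inj ha hb (Subtype.ext e)

theorem comm_ten {a : ℕ} (ha : a < 32) : Commute (P.ph a : G) (P.ph 10) ↔ comm a 10 = true := by
  rw [comm, beq_iff_eq]
  constructor
  · intro h
    refine h₀.ph_inj (qmul_lt _ _) (qmul_lt _ _) ?_
    rw [P.ph_mul ha (by norm_num), P.ph_mul (by norm_num) ha]
    exact Subtype.ext h
  · intro h
    exact congrArg Subtype.val (show P.ph a * P.ph 10 = P.ph 10 * P.ph a by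
      rw [← P.ph_mul ha (by norm_num), ← P.ph_mul (by norm_num) ha, h])

theorem mem_A0 {x : G} : x ∈ A0 P ↔ ∃ v < 32, comm v 10 = true ∧ (P.ph v : G) = x := by
  rw [mem_inf, mem_Qz, mem_cz]
  constructor
  · rintro ⟨⟨v, hv, rfl⟩, hc⟩; exact ⟨v, hv, (comm_ten h₀ hv).1 hc, rfl⟩
  · rintro ⟨v, hv, hc, rfl⟩; exact ⟨⟨v, hv, rfl⟩, (comm_ten h₀ hv).2 hc⟩

theorem card_A0 : Nat.card (A0 P) = 16 := by
  let f : {v : Fin 32 // comm v 10 = true} → A0 P := fun v =>
    ⟨P.ph v.1, (mem_A0 h₀).2 ⟨v.1, v.1.2, v.2, rfl⟩⟩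
  have hf : Function.Bijective f := by
    refine ⟨fun v w e => Subtype.ext (Fin.ext (phG_inj h₀ v.1.2 w.1.2 (congrArg (fun u : A0 P => (u : G)) e))), ?_⟩
    rintro ⟨x, hx⟩
    obtain ⟨v, hv, hc, rfl⟩ := (mem_A0 h₀).1 hx
    exact ⟨⟨⟨v, hv⟩, hc⟩, rfl⟩
  rw [← Nat.card_eq_of_bijective f hf, Nat.card_eq_fintype_card, card_comm_ten]

theorem z_ne_ten : z ≠ (P.ph 10 : G) := fun e => absurd
  (phG_inj h₀ (a := 1) (b := 10) (by norm_num) (by norm_num) (by rw [P.ph_codes.2.1]; exact e)) (by norm_num)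

/-- An involution of the extraspecial group other than `z` is conjugate to `v` in the centralizer. -/
theorem exists_conj {x : G} (hx : x ∈ Qz P) (hxx : x * x = 1) (hx1 : x ≠ 1) (hxz : x ≠ z) :
    ∃ k ∈ Cz z, k * x * k⁻¹ = P.ph 10 := by
  obtain ⟨w, hw, rfl⟩ := mem_Qz.1 hx
  have hw0 : qmul w w = 0 := h₀.ph_inj (qmul_lt _ _) (by norm_num) (by
    rw [P.ph_mul hw hw, P.ph_codes.1]; exact Subtype.ext hxx)
  obtain rfl | rfl | ⟨a, ha, m, hm, n, hn, e⟩ := conj_ten w hw hw0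
  · exact absurd (by rw [P.ph_codes.1]; rfl) hx1
  · exact absurd (by rw [P.ph_codes.2.1]; rfl) hxz
  · refine ⟨_, (P.ph a * (P.w₁ ^ m * P.w₂ ^ n)).2, congrArg Subtype.val (?_ : P.Maps _ w 10)⟩
    refine P.maps_comp (b := act m (act (3 * n) w)) ?_ (P.maps_self ha (act_lt _ _) (by norm_num) e)
    rw [Pairs.Maps, mul_inv_eq_iff_eq_mul, mul_assoc, (P.act_w_pow hn hw).2, ← mul_assoc,
      (P.act_w_pow hm (act_lt _ _)).1, mul_assoc]

variable (hQQg : ∀ g : G, g * z * g⁻¹ ∈ Qz P → g * z * g⁻¹ ≠ z →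
  Nat.card ↥(Qz P ⊓ (Qz P).map (MulAut.conj g).toMonoidHom) = 4)
include hQQg

theorem exists_swap' (hnwc : ∃ g : G, g * z * g⁻¹ ∈ Qz P ∧ g * z * g⁻¹ ≠ z) :
    ∃ s : G, Swap P s := by
  haveI := h₀.normalQ
  haveI : Fact (Nat.Prime 2) := ⟨Nat.prime_two⟩
  have hzz : z * z = 1 := congrArg Subtype.val P.z_sq
  have hz1 : z ≠ 1 := fun e => h₀.z_ne (Subtype.ext e)
  obtain ⟨g₁, hgQ, hgz⟩ := hnwc
  obtain ⟨k, hk, hkv⟩ := exists_conj h₀ hgQ (by rw [conj_mul, hzz, mul_one, mul_inv_cancel])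
    (fun e => hz1 (conj_eq_one_iff.1 e)) hgz
  set g := k * g₁ with hg
  have hgv : g * z * g⁻¹ = P.ph 10 := by rw [← hkv, hg]; group
  set Qv := (Qz P).map (MulAut.conj g).toMonoidHom with hQv
  have hD : Nat.card ↥(Qz P ⊓ Qv) = 4 := hQQg g (hgv ▸ ⟨_, P.ph_mem 10 (by norm_num), rfl⟩)
    (hgv ▸ (z_ne_ten h₀).symm)
  have hback : ∀ x, Commute x (P.ph 10 : G) → g⁻¹ * x * g ∈ Cz z := by
    intro x hx
    have e : z = g⁻¹ * (P.ph 10 : G) * g := by rw [← hgv]; group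
    refine mem_cz.2 ?_
    rw [e]
    have := (hx.map (MulAut.conj g⁻¹).toMonoidHom)
    simpa [MulAut.conj_apply] using this
  have hDA : Qz P ⊓ Qv ≤ A0 P := by
    rintro x ⟨hx, y, hy, rfl⟩
    obtain ⟨v, hv, rfl⟩ := mem_Qz.1 hy
    refine ⟨hx, mem_cz.2 ?_⟩
    rw [← hgv]
    exact (mem_cz.1 (P.ph v).2).map (MulAut.conj g).toMonoidHom
  -- the commutator `z` of `C_Q(v)` falls into `Q ∩ Q^g`
  let φ : ↥(A0 P) →* ↥(Cz z) ⧸ P.qSub := (QuotientGroup.mk' P.qSub).comp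
    { toFun := fun x => ⟨g⁻¹ * (x : G) * g, hback _ (mem_cz.1 x.2.2)⟩
      map_one' := Subtype.ext (by simp)
      map_mul' := fun x y => Subtype.ext (by simp [mul_assoc]) }
  have hker : φ.ker = (Qz P ⊓ Qv).subgroupOf (A0 P) := by
    ext x
    rw [MonoidHom.mem_ker, mem_subgroupOf, mem_inf, hQv]
    show QuotientGroup.mk' P.qSub _ = 1 ↔ _
    rw [QuotientGroup.mk'_apply, QuotientGroup.eq_one_iff]
    constructor
    · intro h
      exact ⟨x.2.1, g⁻¹ * (x : G) * g, ⟨_, h, rfl⟩, by simp [mul_assoc]⟩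
    · rintro ⟨-, y, ⟨y', hy', rfl⟩, e⟩
      have e' : (y' : G) = g⁻¹ * (x : G) * g := by
        rw [← e]; simp [mul_assoc]
      show (⟨g⁻¹ * (x : G) * g, hback _ (mem_cz.1 x.2.2)⟩ : ↥(Cz z)) ∈ P.qSub
      rwa [← (show y' = ⟨g⁻¹ * (x : G) * g, hback _ (mem_cz.1 x.2.2)⟩ from Subtype.ext e')]
  have hrange : Nat.card φ.range = 4 := by
    have h1 := φ.ker.card_mul_index
    rw [index_ker, card_A0 h₀, hker, Nat.card_congr (subgroupOfEquivOfLe hDA).toEquiv, hD] at h1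
    omega
  obtain ⟨c2, c20, csplit⟩ := ten_split
  let p : ↥(A0 P) := ⟨P.ph 2, (mem_A0 h₀).2 ⟨2, by norm_num, by rw [comm, c2, beq_self_eq_true], rfl⟩⟩
  let q : ↥(A0 P) := ⟨P.ph 20, (mem_A0 h₀).2 ⟨20, by norm_num, by rw [comm, c20, beq_self_eq_true], rfl⟩⟩
  have habel : φ p * φ q = φ q * φ p := by
    have := (IsPGroup.isMulCommutative_of_card_eq_prime_sq (G := φ.range) (p := 2)
      (by rw [hrange]; norm_num)).is_comm.comm (⟨φ p, p, rfl⟩ : φ.range) ⟨φ q, q, rfl⟩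
    exact congrArg Subtype.val this
  have hz' : g⁻¹ * z * g ∈ Qz P := by
    have h1 : φ (p * q * (q * p)⁻¹) = 1 := by
      rw [map_mul, map_inv, map_mul, map_mul, habel, mul_inv_cancel]
    have h2 : ((p * q * (q * p)⁻¹ : ↥(A0 P)) : G) = z := by
      push_cast
      rw [mul_inv_eq_iff_eq_mul]
      have h := congrArg P.ph csplit
      rw [P.ph_mul (by norm_num) (by norm_num), P.ph_mul (by norm_num) (qmul_lt _ _),
        P.ph_mul (by norm_num) (by norm_num), P.ph_codes.2.1] at h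
      exact congrArg Subtype.val h
    rw [← MonoidHom.mem_ker, hker, mem_subgroupOf, h2, mem_inf, hQv] at h1
    obtain ⟨-, y, hy, e⟩ := h1
    have e' : y = g⁻¹ * z * g := by
      have e1 : g * y * g⁻¹ = z := e
      rw [← e1]; group
    rwa [← e']
  have hne : g⁻¹ * z * g ≠ z := fun e => z_ne_ten h₀ (by
    rw [← hgv]
    conv_lhs => rw [← e]
    have h2 : g * z * g⁻¹ = z := by
      conv_lhs => rw [← e]
      group
    rw [h2, e])
  obtain ⟨l, hl, hlv⟩ := exists_conj h₀ hz'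
    (by rw [show g⁻¹ * z * g * (g⁻¹ * z * g) = g⁻¹ * (z * z) * g by group, hzz]; group)
    (fun e => hz1 (by
      have := congrArg (fun x => g * x * g⁻¹) e
      simpa [mul_assoc] using this)) hne
  refine ⟨g * l⁻¹, ?_, ?_, ?_⟩
  · have h : l⁻¹ * z * l = z := by rw [mul_assoc, ← (mem_cz.1 hl).eq]; group
    rw [show g * l⁻¹ * z * (g * l⁻¹)⁻¹ = g * (l⁻¹ * z * l) * g⁻¹ by group, h, hgv]
  · rw [← hlv]; group
  · intro x hx y hy e
    set s := g * l⁻¹ with hs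
    set Qs := (Qz P).map (MulAut.conj s).toMonoidHom with hQs
    have hsz : s * z * s⁻¹ = P.ph 10 := by
      have h : l⁻¹ * z * l = z := by rw [mul_assoc, ← (mem_cz.1 hl).eq]; group
      rw [hs, show g * l⁻¹ * z * (g * l⁻¹)⁻¹ = g * (l⁻¹ * z * l) * g⁻¹ by group, h, hgv]
    have hsv : s * (P.ph 10 : G) * s⁻¹ = z := by rw [← hlv, hs]; group
    have hcard : Nat.card ↥(Qz P ⊓ Qs) = 4 := hQQg s (hsz ▸ ⟨_, P.ph_mem 10 (by norm_num), rfl⟩)
      (hsz ▸ (z_ne_ten h₀).symm)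
    have h1m : (P.ph 1 : G) ∈ Qz P ⊓ Qs := ⟨⟨_, P.ph_mem 1 (by norm_num), rfl⟩,
      _, ⟨_, P.ph_mem 10 (by norm_num), rfl⟩, by
        show s * (P.ph 10 : G) * s⁻¹ = _
        rw [hsv, P.ph_codes.2.1]; rfl⟩
    have h10m : (P.ph 10 : G) ∈ Qz P ⊓ Qs := ⟨⟨_, P.ph_mem 10 (by norm_num), rfl⟩,
      _, ⟨_, P.ph_mem 1 (by norm_num), rfl⟩, by
        show s * (P.ph 1 : G) * s⁻¹ = _
        rw [P.ph_codes.2.1]; exact hsz⟩
    have hmem : ∀ d ∈ [0, 1, 10, 11], (P.ph d : G) ∈ Qz P ⊓ Qs := by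
      intro d hd
      simp only [List.mem_cons, List.not_mem_nil, or_false] at hd
      rcases hd with rfl | rfl | rfl | rfl
      · rw [P.ph_codes.1]; exact one_mem _
      · exact h1m
      · exact h10m
      · have : qmul 1 10 = 11 := by decide +kernel
        rw [← this, P.ph_mul (by norm_num) (by norm_num)]
        exact mul_mem h1m h10m
    let f : {d : Fin 12 // (d : ℕ) ∈ [0, 1, 10, 11]} → ↥(Qz P ⊓ Qs) := fun d => ⟨P.ph d.1, hmem _ d.2⟩
    have hf : Function.Injective f := fun a b h => Subtype.ext (Fin.ext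
      (phG_inj h₀ (four_codes _ a.2).1 (four_codes _ b.2).1 (congrArg (fun u : ↥(Qz P ⊓ Qs) => (u : G)) h)))
    have hfb : Function.Bijective f := by
      refine hf.bijective_of_nat_card_le ?_
      rw [hcard, Nat.card_eq_fintype_card]
      decide +kernel
    obtain ⟨d, hd⟩ := hfb.2 ⟨y, ⟨y, hy, rfl⟩, (x : G), ⟨x, hx, rfl⟩, e⟩
    exact ⟨d.1, d.2, Subtype.ext (congrArg Subtype.val hd).symm⟩

omit hQQg

/-- The centralizer of `z` and `v` has order 64. -/
theorem card_R : Nat.card ↥(centralizer ({P.ph 10} : Set ↥(Cz z))) = 64 := by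
  haveI := h₀.normalK
  let φ : ↥(centralizer ({P.ph 10} : Set ↥(Cz z))) →* ↥(Cz z) ⧸ P.kSub :=
    (QuotientGroup.mk' P.kSub).comp (centralizer ({P.ph 10} : Set ↥(Cz z))).subtype
  have hsurj : Function.Surjective φ := by
    intro x
    obtain ⟨h, rfl⟩ := QuotientGroup.mk'_surjective P.kSub x
    obtain ⟨k, hk, hkh⟩ := h₀.exists_conj_ten h
    refine ⟨⟨k * h, mem_centralizer_singleton_iff.2 hkh⟩, ?_⟩
    show QuotientGroup.mk' P.kSub (k * h) = _
    rw [map_mul, show QuotientGroup.mk' P.kSub k = 1 from (QuotientGroup.eq_one_iff k).2 hk, one_mul]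
  let f : φ.ker → A0 P := fun x => ⟨((x.1 : ↥(Cz z)) : G), by
    obtain ⟨⟨x, hxc⟩, hxk⟩ := x
    obtain ⟨a, ha, m, hm, n, hn, e⟩ := (QuotientGroup.eq_one_iff x).1 hxk
    have hc : Commute x (P.ph 10) := mem_centralizer_singleton_iff.1 hxc
    have e1 : qmul a (act m (act (3 * n) 10)) = qmul 10 a := by
      refine h₀.ph_inj (qmul_lt _ _) (qmul_lt _ _) ?_
      rw [P.ph_mul ha (act_lt _ _), P.ph_mul (by norm_num) ha]
      have h1 : x * P.ph 10 = P.ph a * P.ph (act m (act (3 * n) 10)) * (P.w₁ ^ m * P.w₂ ^ n) := by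
        rw [← e, mul_assoc (P.ph a), mul_assoc (P.w₁ ^ m), (P.act_w_pow hn (by norm_num)).2,
          ← mul_assoc (P.w₁ ^ m), (P.act_w_pow hm (act_lt _ _)).1]
        simp only [mul_assoc]
      rw [hc.eq, ← e, ← mul_assoc] at h1
      exact (mul_right_cancel h1).symm
    obtain ⟨rfl, rfl, hca⟩ := fix_ten a ha m hm n hn e1
    refine (mem_A0 h₀).2 ⟨a, ha, hca, ?_⟩
    show (P.ph a : G) = (x : G)
    rw [← e]; simp⟩
  have hf : Function.Bijective f := by
    refine ⟨fun x y h => Subtype.ext (Subtype.ext (Subtype.ext (congrArg (fun u : A0 P => (u : G)) h))), ?_⟩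
    rintro ⟨_, hy⟩
    obtain ⟨v, hv, hc, rfl⟩ := (mem_A0 h₀).1 hy
    refine ⟨⟨⟨P.ph v, mem_centralizer_singleton_iff.2 (Subtype.ext ((comm_ten h₀ hv).2 hc))⟩, ?_⟩, rfl⟩
    exact (QuotientGroup.eq_one_iff _).2 (by exact ⟨v, hv, 0, by norm_num, 0, by norm_num, by simp⟩)
  have h1 := φ.ker.card_mul_index
  rw [index_ker, MonoidHom.range_eq_top.2 hsurj, card_top, Nat.card_eq_of_bijective f hf, card_A0 h₀] at h1
  have h2 := P.kSub.card_eq_card_quotient_mul_card_subgroup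
  rw [h₀.card, h₀.card_kSub] at h2
  omega

/-- The exchanging element gives the hypothesis used for the centralizer. -/
theorem four_of_swap {s : G} (S : Swap P s) : Four P := by
  haveI := h₀.normalQ
  set R : Subgroup G := Cz z ⊓ Cz (P.ph 10 : G) with hR
  have hcardR : Nat.card R = 64 := by
    rw [← card_R h₀]
    refine Nat.card_congr
      { toFun := fun x => ⟨⟨x.1, x.2.1⟩, mem_centralizer_singleton_iff.2 (Subtype.ext (mem_cz.1 x.2.2))⟩
        invFun := fun x => ⟨x.1.1, x.1.2, mem_cz.2 (congrArg Subtype.val (mem_centralizer_singleton_iff.1 x.2))⟩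
        left_inv := fun x => rfl
        right_inv := fun x => rfl }
  have hAR : A0 P ≤ R := fun x hx => by
    obtain ⟨v, hv, -, rfl⟩ := (mem_A0 h₀).1 hx
    exact ⟨(P.ph v).2, hx.2⟩
  have hnA : ∀ r ∈ R, ∀ x ∈ A0 P, r * x * r⁻¹ ∈ A0 P := by
    rintro r ⟨hr1, hr2⟩ x ⟨⟨x', hx', rfl⟩, hx2⟩
    refine ⟨⟨_, Subgroup.Normal.conj_mem inferInstance x' hx' ⟨r, hr1⟩, rfl⟩, ?_⟩
    exact Subgroup.mul_mem _ (Subgroup.mul_mem _ hr2 hx2) (Subgroup.inv_mem _ hr2)
  have hsR : ∀ r ∈ R, s * r * s⁻¹ ∈ R ∧ s⁻¹ * r * s ∈ R := by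
    rintro r ⟨hr1, hr2⟩
    have a1 := mem_cz.1 hr1
    have a2 := mem_cz.1 hr2
    have b1 := a1.map (MulAut.conj s).toMonoidHom
    have b2 := a2.map (MulAut.conj s).toMonoidHom
    have i1 : s⁻¹ * (P.ph 10 : G) * s = z := by rw [← S.to_v]; group
    have i2 : s⁻¹ * z * s = P.ph 10 := by
      conv_lhs => arg 1; arg 2; rw [← S.to_z]
      group
    have c1 := a1.map (MulAut.conj s⁻¹).toMonoidHom
    have c2 := a2.map (MulAut.conj s⁻¹).toMonoidHom
    simp only [MulEquiv.coe_toMonoidHom, MulAut.conj_apply, inv_inv, S.to_v, S.to_z, i1, i2] at b1 b2 c1 c2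
    exact ⟨⟨mem_cz.2 b2, mem_cz.2 b1⟩, mem_cz.2 c2, mem_cz.2 c1⟩
  set B0 := (A0 P).map (MulAut.conj s).toMonoidHom with hB0
  have hBR : B0 ≤ R := by
    rintro _ ⟨x, hx, rfl⟩
    exact (hsR x (hAR hx)).1
  have hnB : ∀ r ∈ R, ∀ x ∈ B0, r * x * r⁻¹ ∈ B0 := by
    rintro r hr _ ⟨x, hx, rfl⟩
    refine ⟨_, hnA _ (hsR r hr).2 x hx, ?_⟩
    simp [MulAut.conj_apply, mul_assoc]
  have hmeet : ∀ x, x ∈ A0 P → x ∈ B0 → ∃ d ∈ [0, 1, 10, 11], (P.ph d : G) = x := by
    rintro _ hx ⟨y, hy, rfl⟩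
    obtain ⟨a, ha, -, rfl⟩ := (mem_A0 h₀).1 hy
    obtain ⟨b, hb, -, e⟩ := (mem_A0 h₀).1 hx
    obtain ⟨d, hd, e'⟩ := S.meet _ (P.ph_mem a ha) _ (P.ph_mem b hb) e.symm
    exact ⟨d, hd, (congrArg Subtype.val e').symm.trans e⟩
  haveI : ((A0 P).subgroupOf R).Normal := ⟨fun x hx r => mem_subgroupOf.2 (by
    push_cast
    exact hnA r r.2 x (mem_subgroupOf.1 hx))⟩
  let ψ : B0 →* R ⧸ (A0 P).subgroupOf R := (QuotientGroup.mk' _).comp (inclusion hBR)
  have hkerc : Nat.card ψ.ker ≤ 4 := by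
    have hex : ∀ x : ψ.ker, ∃ d : Fin 12, (d : ℕ) ∈ [0, 1, 10, 11] ∧ (P.ph d : G) = (x.1 : G) := by
      intro x
      obtain ⟨d, hd, e⟩ := hmeet (x.1 : G)
        (mem_subgroupOf.1 ((QuotientGroup.eq_one_iff (inclusion hBR x.1)).1 x.2)) x.1.2
      have f : ∀ d ∈ [0, 1, 10, 11], d < 12 := by decide
      exact ⟨⟨d, f d hd⟩, hd, e⟩
    choose f hf1 hf2 using hex
    let F : ψ.ker → {d : Fin 12 // (d : ℕ) ∈ [0, 1, 10, 11]} := fun x => ⟨f x, hf1 x⟩
    have hF : Function.Injective F := fun x y h => by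
      have h' : f x = f y := congrArg Subtype.val h
      refine Subtype.ext (Subtype.ext ?_)
      rw [← hf2 x, ← hf2 y, h']
    have h := Nat.card_le_card_of_injective F hF
    rw [Nat.card_eq_fintype_card (α := {d : Fin 12 // (d : ℕ) ∈ [0, 1, 10, 11]})] at h
    exact h.trans (by decide +kernel)
  have hquot : Nat.card (R ⧸ (A0 P).subgroupOf R) = 4 := by
    have h := ((A0 P).subgroupOf R).card_eq_card_quotient_mul_card_subgroup
    rw [hcardR, Nat.card_congr (subgroupOfEquivOfLe hAR).toEquiv, card_A0 h₀] at h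
    omega
  have hψ : Function.Surjective ψ := by
    rw [← MonoidHom.range_eq_top]
    refine eq_top_of_card_eq _ ?_
    have h1 := ψ.ker.card_mul_index
    have hB : Nat.card B0 = 16 := by
      rw [hB0, card_map_of_injective (MulAut.conj s).injective, card_A0 h₀]
    rw [index_ker, hB] at h1
    have h2 : Nat.card ψ.range ≤ 4 := hquot ▸ card_le_card_group _
    rw [hquot]
    nlinarith
  intro r hr
  have hrR : (r : G) ∈ R := ⟨r.2, mem_cz.2 (congrArg Subtype.val hr.eq)⟩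
  obtain ⟨⟨b, hb⟩, hba⟩ := hψ (QuotientGroup.mk' _ ⟨r, hrR⟩)
  have ha : b⁻¹ * (r : G) ∈ A0 P := mem_subgroupOf.1 ((QuotientGroup.eq).1 hba)
  set a := b⁻¹ * (r : G) with ha'
  have hra : (r : G) = b * a := by rw [ha', mul_inv_cancel_left]
  refine ⟨?_, ?_⟩
  · have hbb : b * b ∈ Qz P := by
      obtain ⟨y, hy, rfl⟩ := hb
      obtain ⟨v, hv, -, rfl⟩ := (mem_A0 h₀).1 hy
      have e : MulAut.conj s (P.ph v : G) * MulAut.conj s (P.ph v : G) = s * (P.ph (qmul v v) : G) * s⁻¹ := by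
        rw [P.ph_mul hv hv]; simp [mul_assoc]
      show MulAut.conj s (P.ph v : G) * MulAut.conj s (P.ph v : G) ∈ _
      rw [e]
      have := sq_small v hv
      interval_cases h : qmul v v
      · rw [P.ph_codes.1]; simp
      · rw [P.ph_codes.2.1]
        exact mem_Qz.2 ⟨10, by norm_num, S.to_v.symm⟩
    have h2 : ((r * r : ↥(Cz z)) : G) ∈ Qz P := by
      push_cast
      rw [hra, show b * a * (b * a) = (b * b) * (b⁻¹ * a * b⁻¹⁻¹) * a by group]
      exact mul_mem (mul_mem hbb (hnA _ (inv_mem (hBR hb)) a ha).1) ha.1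
    obtain ⟨y, hy, e⟩ := h2
    exact (show y = r * r from Subtype.ext e) ▸ hy
  · intro v hv hc
    have hx : (P.ph v : G) ∈ A0 P := (mem_A0 h₀).2 ⟨v, hv, hc, rfl⟩
    set x := (P.ph v : G) with hxdef
    obtain ⟨d, hd, ed⟩ : ∃ d ∈ [0, 1, 10, 11], (P.ph d : G) = b * x * b⁻¹ * x⁻¹ := by
      refine hmeet _ (mul_mem (hnA _ (hBR hb) x hx) (inv_mem hx)) ?_
      rw [mul_assoc (b * x), mul_assoc b, ← mul_assoc x]
      exact mul_mem hb (hnB _ (hAR hx) _ (inv_mem hb))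
    obtain ⟨a', ha32, -, hae⟩ := (mem_A0 h₀).1 ha
    have hax : ∃ e ∈ [0, 1], a * x * a⁻¹ = P.ph (qmul v e) := by
      have f : ∀ a < 32, ∀ v < 32, qmul a v = qmul (qmul v 0) a ∨ qmul a v = qmul (qmul v 1) a := by decide +kernel
      rcases f a' ha32 v hv with h | h
      · exact ⟨0, by simp, hae ▸ congrArg Subtype.val (P.maps_self ha32 hv (qmul_lt _ _) h)⟩
      · exact ⟨1, by simp, hae ▸ congrArg Subtype.val (P.maps_self ha32 hv (qmul_lt _ _) h)⟩
    obtain ⟨e, he, hax⟩ := hax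
    obtain ⟨d', hd', hcode⟩ : ∃ d' ∈ [0, 1, 10, 11], qmul (qmul d v) e = qmul v d' := by
      have f : ∀ v < 32, comm v 10 = true → ∀ d ∈ [0, 1, 10, 11], ∀ e ∈ [0, 1],
          ∃ d' ∈ [0, 1, 10, 11], qmul (qmul d v) e = qmul v d' := by decide +kernel
      exact f v hv hc d hd e he
    refine ⟨d', hd', Subtype.ext ?_⟩
    have hd32 := (four_codes d hd).1
    have he32 : e < 32 := by
      simp only [List.mem_cons, List.not_mem_nil, or_false] at he
      omega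
    rw [← hcode]
    show (r : G) * x * (r : G)⁻¹ = _
    rw [hra, show b * a * x * (b * a)⁻¹ = b * (a * x * a⁻¹) * b⁻¹ by group, hax, P.ph_mul hv he32,
      P.ph_mul (qmul_lt _ _) he32, P.ph_mul hd32 hv]
    push_cast
    rw [ed, show b * (x * (P.ph e : G)) * b⁻¹ = (b * x * b⁻¹) * (b * (P.ph e : G) * b⁻¹) by group,
      inv_mul_cancel_right]
    congr 1
    have hcom : Commute b (P.ph e : G) := by
      simp only [List.mem_cons, List.not_mem_nil, or_false] at he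
      rcases he with rfl | rfl
      · rw [P.ph_codes.1]; exact Commute.one_right _
      · rw [P.ph_codes.2.1]; exact mem_cz.1 (hBR hb).1
    rw [hcom.eq, mul_inv_cancel_right]

end Cfsg.Agent.U43
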