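import Cfsg.Agent.Lib.U43.Frame
import Cfsg.Agent.Lib.U43.Swap
import Cfsg.Agent.Lib.U43.Elim

/-!
A group of unitary `U₄(3)` type: the centralizer of the involution is the model, and an element exchanging
`z` and `v` acts on their common centralizer as `phiC`. There is one class of involutions.
-/

set_option autoImplicit false
set_option maxRecDepth 20000

namespace Cfsg.Agent.U43

open Model Subgroup

universe u

variable {G : Type u} [Group G]

/-- The centralizer of `z` is the model, and `s` exchanges `z` and `v`. -/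
structure Chart (z : G) (rho : ℕ → G) (s : G) : Prop where
  inj : ∀ a < 1152, ∀ b < 1152, rho a = rho b → a = b
  mul : ∀ a < 1152, ∀ b < 1152, rho (Model.mul a b) = rho a * rho b
  mem : ∀ g, g ∈ centralizer ({z} : Set G) ↔ ∃ a < 1152, rho a = g
  one : rho 0 = 1
  rho_z : rho Model.zc = z
  to_v : s * z * s⁻¹ = rho Model.vc
  to_z : s * rho Model.vc * s⁻¹ = z
  conj : ∀ x ∈ rCodes, s * rho x * s⁻¹ = rho (phiC x)
  sq : s * s = rho sqC
  cube : (s * rho 4) ^ 3 = 1

theorem rCodes_lt : ∀ x ∈ rCodes, x < 1152 := by decide +kernel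

theorem four_rel : ∀ k < 8,
    (∀ g ∈ rGens, mulK k g g ∈ [0, 1, 10, 11]) ∧
    (∀ g ∈ rGens, ∀ h ∈ rGens, ∃ c ∈ [0, 1, 10, 11], mulK k g h = mulK k c (mulK k h g)) ∧
    mulK k 2 20 = 22 ∧ mulK k 1 10 = 11 ∧ mulK k 10 1 = 11 := by
  decide +kernel

theorem gens_mem : (∀ g ∈ rGens, g ∈ rCodes) ∧ 0 ∈ rCodes ∧ 1 ∈ rCodes ∧ 10 ∈ rCodes ∧ 11 ∈ rCodes ∧
    2 ∈ rCodes ∧ 20 ∈ rCodes ∧ 22 ∈ rCodes := by
  decide +kernel

/-- A table for the centralizer of `z` in one of the kinds. -/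
structure Coded (z : G) (k : ℕ) (rho : ℕ → G) : Prop where
  kind : k < 8
  inj : ∀ a < 1152, ∀ b < 1152, rho a = rho b → a = b
  mul : ∀ a < 1152, ∀ b < 1152, rho (mulK k a b) = rho a * rho b
  mem : ∀ g, g ∈ centralizer ({z} : Set G) ↔ ∃ a < 1152, rho a = g
  one : rho 0 = 1
  rho_z : rho 1 = z

/-- Conjugation by `s` on codes. -/
def Rel (rho : ℕ → G) (s : G) (x y : ℕ) : Prop := x < 1152 ∧ y < 1152 ∧ s * rho x * s⁻¹ = rho y

namespace Coded

variable {z : G} {k : ℕ} {rho : ℕ → G} (C : Coded z k rho)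
include C

theorem commute_iff {a b : ℕ} (ha : a < 1152) (hb : b < 1152) :
    Commute (rho a) (rho b) ↔ mulK k a b = mulK k b a := by
  constructor
  · intro h
    exact C.inj _ (mulK_lt _ _ _) _ (mulK_lt _ _ _) (by rw [C.mul a ha b hb, C.mul b hb a ha, h.eq])
  · intro h
    show rho a * rho b = rho b * rho a
    rw [← C.mul a ha b hb, ← C.mul b hb a ha, h]

theorem mem_rCodes {x : G} (hz : Commute x z) (hv : Commute x (rho 10)) : ∃ y ∈ rCodes, rho y = x := by
  obtain ⟨a, ha, rfl⟩ := (C.mem x).1 (mem_centralizer_singleton_iff.2 hz)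
  refine ⟨a, ?_, rfl⟩
  rw [rCodes_kind k C.kind, List.mem_filter, List.mem_range, beq_iff_eq]
  exact ⟨ha, (C.commute_iff ha (by norm_num)).1 hv⟩

theorem of_rCodes {x : ℕ} (hx : x ∈ rCodes) : Commute (rho x) z ∧ Commute (rho x) (rho 10) := by
  have h1 : Commute (rho x) z := mem_centralizer_singleton_iff.1 ((C.mem _).2 ⟨x, rCodes_lt x hx, rfl⟩)
  rw [rCodes_kind k C.kind, List.mem_filter, List.mem_range, beq_iff_eq] at hx
  exact ⟨h1, (C.commute_iff hx.1 (by norm_num)).2 hx.2⟩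

theorem rel_mul {s : G} {x y x' y' : ℕ} (h : Rel rho s x y) (h' : Rel rho s x' y') :
    Rel rho s (mulK k x x') (mulK k y y') :=
  ⟨mulK_lt _ _ _, mulK_lt _ _ _, by rw [C.mul _ h.1 _ h'.1, C.mul _ h.2.1 _ h'.2.1, ← h.2.2, ← h'.2.2, conj_mul]⟩

theorem rel_unique {s : G} {x y y' : ℕ} (h : Rel rho s x y) (h' : Rel rho s x y') : y = y' :=
  C.inj _ h.2.1 _ h'.2.1 (h.2.2.symm.trans h'.2.2)

theorem rel_eval {s : G} {gs hs : List ℕ} (hgh : List.Forall₂ (Rel rho s) gs hs) :
    ∀ b x y, Rel rho s x y → Rel rho s (evalFrom k gs b x) (evalFrom k hs b y) := by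
  induction hgh with
  | nil => intro b x y h; simpa [evalFrom] using h
  | cons hd _ ih =>
    intro b x y h
    simp only [evalFrom]
    refine ih _ _ _ ?_
    split
    · exact C.rel_mul h hd
    · exact h

theorem rel_four {s : G} (hv : s * z * s⁻¹ = rho 10) (hz : s * rho 10 * s⁻¹ = z) :
    ∀ d ∈ [0, 1, 10, 11], Rel rho s d (swW d) := by
  have h1 : Rel rho s 1 10 := ⟨by norm_num, by norm_num, by rw [C.rho_z, hv]⟩
  have h10 : Rel rho s 10 1 := ⟨by norm_num, by norm_num, by rw [C.rho_z, hz]⟩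
  have h11 := C.rel_mul h1 h10
  rw [(four_rel k C.kind).2.2.2.1, (four_rel k C.kind).2.2.2.2] at h11
  intro d hd
  simp only [List.mem_cons, List.not_mem_nil, or_false] at hd
  rcases hd with rfl | rfl | rfl | rfl
  · exact ⟨by norm_num, by decide, by simp [swW, C.one]⟩
  · exact h1
  · exact h10
  · exact h11

theorem rel_swap {s : G} (hv : s * z * s⁻¹ = rho 10) (hz : s * rho 10 * s⁻¹ = z) {x : ℕ} (hx : x ∈ rCodes) :
    ∃ y ∈ rCodes, Rel rho s x y := by
  obtain ⟨h1, h2⟩ := C.of_rCodes hx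
  have a1 := h1.map (MulAut.conj s).toMonoidHom
  have a2 := h2.map (MulAut.conj s).toMonoidHom
  simp only [MulEquiv.coe_toMonoidHom, MulAut.conj_apply, hv, hz] at a1 a2
  obtain ⟨y, hy, e⟩ := C.mem_rCodes a2 a1
  exact ⟨y, hy, rCodes_lt x hx, rCodes_lt y hy, e.symm⟩

/-- The action of `s` is the extension of its values at the generators. -/
theorem rel_ext {s : G} (hv : s * z * s⁻¹ = rho 10) (hz : s * rho 10 * s⁻¹ = z) {im : List ℕ}
    (him : List.Forall₂ (Rel rho s) rGens im) {x : ℕ} (hx : x ∈ rCodes) : Rel rho s x (ext k im x) := by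
  have h4 := C.rel_four hv hz
  have hl : List.Forall₂ (Rel rho s) (1 :: 10 :: rGens) (10 :: 1 :: im) :=
    (h4 1 (by simp)).imp_left id |> fun h => List.Forall₂.cons h (List.Forall₂.cons (h4 10 (by simp)) him)
  have h := C.rel_eval hl (rWords.getD (rCodes.idxOf x) 0) 0 0 (h4 0 (by simp))
  have e := List.all_eq_true.1 (List.all_eq_true.1 word_spec.2 k (List.mem_range.2 C.kind)) x hx
  rw [beq_iff_eq] at e
  rw [e] at h
  exact h

theorem rel_inv {s : G} {x x' y : ℕ} (h : Rel rho s x y) (h' : Rel rho s x' y) : x = x' :=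
  C.inj _ h.1 _ h'.1 (by
    have e : s * rho x * s⁻¹ = s * rho x' * s⁻¹ := h.2.2.trans h'.2.2.symm
    exact mul_left_cancel (mul_right_cancel e))

/-- The values at the generators are admissible. -/
theorem mem_sols {s : G} (hv : s * z * s⁻¹ = rho 10) (hz : s * rho 10 * s⁻¹ = z)
    (hmeet : ∀ x < 32, ∀ y < 32, s * rho x * s⁻¹ = rho y → ∃ d ∈ [0, 1, 10, 11], y = d) :
    ∃ im, im ∈ sols k ∧ List.Forall₂ (Rel rho s) rGens im := by
  obtain ⟨hg, -, -, -, -, h2, h20, h22⟩ := gens_mem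
  obtain ⟨f1, f2, f22, -, -⟩ := four_rel k C.kind
  have h4 := C.rel_four hv hz
  obtain ⟨a, ha, ea⟩ := C.rel_swap hv hz (hg 2 (by decide))
  obtain ⟨b, hb, eb⟩ := C.rel_swap hv hz (hg 20 (by decide))
  obtain ⟨c, hc, ec⟩ := C.rel_swap hv hz (hg 544 (by decide))
  obtain ⟨d, hd, ed⟩ := C.rel_swap hv hz (hg 576 (by decide))
  have hcand : ∀ g ∈ rGens, ∀ y ∈ rCodes, Rel rho s g y → y ∈ cand k g := by
    intro g hg' y hy e
    rw [cand, List.mem_filter, beq_iff_eq]
    exact ⟨hy, C.rel_unique (C.rel_mul e e) (h4 _ (f1 g hg'))⟩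
  have hpair : ∀ g ∈ rGens, ∀ h ∈ rGens, ∀ A B, Rel rho s g A → Rel rho s h B →
      pairOk k g h A B = true := by
    intro g hg' h hh A B eA eB
    obtain ⟨w, hw, e⟩ := f2 g hg' h hh
    rw [pairOk, List.any_eq_true]
    refine ⟨w, hw, ?_⟩
    rw [Bool.and_eq_true, beq_iff_eq, beq_iff_eq]
    have e' := C.rel_mul (h4 w hw) (C.rel_mul eB eA)
    rw [← e] at e'
    exact ⟨e, C.rel_unique (C.rel_mul eA eB) e'⟩
  have hbig : ∀ x y, x < 32 → x ∉ [0, 1, 10, 11] → Rel rho s x y → 32 ≤ y := by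
    intro x y hx hxD e
    by_contra hy
    push Not at hy
    obtain ⟨d, hd, hyd⟩ := hmeet x hx y hy e.2.2
    obtain ⟨w', hw', e'⟩ : ∃ w' ∈ [0, 1, 10, 11], swW w' = y := by
      have f : ∀ w ∈ [0, 1, 10, 11], ∃ w' ∈ [0, 1, 10, 11], swW w' = w := by decide
      exact f y (hyd ▸ hd)
    exact hxD (C.rel_inv e (e' ▸ h4 w' hw') ▸ hw')
  have hab : 32 ≤ mulK k a b := hbig 22 _ (by norm_num) (by decide) (f22 ▸ C.rel_mul ea eb)
  refine ⟨[a, b, c, d], ?_, .cons ea (.cons eb (.cons ec (.cons ed .nil)))⟩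
  simp only [sols, List.mem_flatMap, List.mem_map, List.mem_filter, decide_eq_true_eq, Bool.and_eq_true]
  exact ⟨a, ⟨hcand 2 (by decide) a ha ea, hbig 2 a (by norm_num) (by decide) ea⟩,
    b, ⟨hcand 20 (by decide) b hb eb, ⟨hbig 20 b (by norm_num) (by decide) eb, hab⟩,
      hpair 20 (by decide) 2 (by decide) b a eb ea⟩,
    c, ⟨hcand 544 (by decide) c hc ec, hpair 544 (by decide) 2 (by decide) c a ec ea,
      hpair 544 (by decide) 20 (by decide) c b ec eb⟩,
    d, ⟨hcand 576 (by decide) d hd ed, ⟨hpair 576 (by decide) 2 (by decide) d a ed ea,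
      hpair 576 (by decide) 20 (by decide) d b ed eb⟩, hpair 576 (by decide) 544 (by decide) d c ed ec⟩, rfl⟩

end Coded

namespace Coded

variable {z : G} {rho : ℕ → G} (C : Coded z 3 rho)
include C

/-- What the square and the cube give. -/
theorem closing {s : G} (hv : s * z * s⁻¹ = rho 10) (hz : s * rho 10 * s⁻¹ = z) {im : List ℕ}
    (him : List.Forall₂ (Rel rho s) rGens im) :
    (∃ r ∈ rCodes, rho r = s * s ∧ rGens.all (fun g => conjOk r g (ext 3 im (ext 3 im g))) = true ∧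
      ext 3 im r = r) ∧
    (∃ r ∈ rCodes, rho r = (s * rho 4) ^ 3 ∧
      rGens.all (fun g => conjOk r g (turn im (turn im (turn im g)))) = true ∧ turn im r = r) := by
  obtain ⟨hg, -, -, -, h11, -⟩ := gens_mem
  obtain ⟨c45, c54, c1, c10, -, -, hturn⟩ := turn_values
  have hE : ∀ x ∈ rCodes, ext 3 im x ∈ rCodes ∧ s * rho x * s⁻¹ = rho (ext 3 im x) := fun x hx => by
    obtain ⟨y, hy, e⟩ := C.rel_swap hv hz hx
    have e' := C.rel_ext hv hz him hx
    exact ⟨C.rel_unique e' e ▸ hy, e'.2.2⟩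
  have hi : (rho 4)⁻¹ = rho 5 := by
    refine inv_eq_of_mul_eq_one_right ?_
    rw [← C.mul 4 (by norm_num) 5 (by norm_num)]
    exact (congrArg rho c45).trans C.one
  have h4 : ∀ x < 1152, rho 4 * rho x * (rho 4)⁻¹ = rho (Model.mul (Model.mul 4 x) 5) := fun x hx => by
    rw [hi, ← C.mul 4 (by norm_num) x hx, ← C.mul _ (mulK_lt _ _ _) 5 (by norm_num)]
    rfl
  have hT : ∀ x ∈ rCodes, turn im x ∈ rCodes ∧
      s * rho 4 * rho x * (s * rho 4)⁻¹ = rho (turn im x) := fun x hx => by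
    obtain ⟨a, b⟩ := hE _ (hturn x hx)
    refine ⟨a, ?_⟩
    rw [show s * rho 4 * rho x * (s * rho 4)⁻¹ = s * (rho 4 * rho x * (rho 4)⁻¹) * s⁻¹ by group,
      h4 x (rCodes_lt x hx), b]
    rfl
  have key : ∀ (x : G) (f : ℕ → ℕ) (r : ℕ), rho r = x → r ∈ rCodes →
      (∀ g ∈ rGens, f g ∈ rCodes ∧ x * rho g * x⁻¹ = rho (f g)) →
      rGens.all (fun g => conjOk r g (f g)) = true := by
    intro x f r hr hrc h
    rw [List.all_eq_true]
    intro g hgg
    obtain ⟨a, b⟩ := h g hgg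
    rw [conjOk, beq_iff_eq]
    refine C.inj _ (mul_lt _ _) _ (mul_lt _ _) ?_
    show rho (mulK 3 r g) = rho (mulK 3 (f g) r)
    rw [C.mul r (rCodes_lt r hrc) g (rCodes_lt g (hg g hgg)), C.mul _ (rCodes_lt _ a) r (rCodes_lt r hrc),
      hr, ← b, inv_mul_cancel_right]
  have fixed : ∀ x : G, ∀ (y : G) (r : ℕ), rho r = x → r ∈ rCodes → (Commute y x) → ∀ r', r' ∈ rCodes →
      y * rho r * y⁻¹ = rho r' → r' = r := by
    intro x y r hr hrc hc r' hr' e
    refine C.inj _ (rCodes_lt _ hr') _ (rCodes_lt _ hrc) ?_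
    rw [← e, hr, hc.eq, mul_inv_cancel_right]
  constructor
  · have a1 : Commute (s * s) z := mul_inv_eq_iff_eq_mul.1 (by
      rw [show s * s * z * (s * s)⁻¹ = s * (s * z * s⁻¹) * s⁻¹ by group, hv, hz])
    have a2 : Commute (s * s) (rho 10) := mul_inv_eq_iff_eq_mul.1 (by
      rw [show s * s * rho 10 * (s * s)⁻¹ = s * (s * rho 10 * s⁻¹) * s⁻¹ by group, hz, hv])
    obtain ⟨r, hr, er⟩ := C.mem_rCodes a1 a2
    refine ⟨r, hr, er, key _ _ r er hr fun g hgg => ?_, ?_⟩
    · obtain ⟨a, b⟩ := hE g (hg g hgg)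
      obtain ⟨a', b'⟩ := hE _ a
      refine ⟨a', ?_⟩
      rw [show s * s * rho g * (s * s)⁻¹ = s * (s * rho g * s⁻¹) * s⁻¹ by group, b, b']
    · obtain ⟨a, b⟩ := hE r hr
      exact fixed _ s r er hr ((Commute.refl s).mul_right (Commute.refl s)) _ a b
  · set u := s * rho 4 with hu
    have t1 : u * z * u⁻¹ = rho 10 := by
      rw [hu, show s * rho 4 * z * (s * rho 4)⁻¹ = s * (rho 4 * z * (rho 4)⁻¹) * s⁻¹ by group, ← C.rho_z,
        h4 1 (by norm_num), c1, C.rho_z, hv]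
    have t10 : u * rho 10 * u⁻¹ = rho 11 := by
      rw [hu, show s * rho 4 * rho 10 * (s * rho 4)⁻¹ = s * (rho 4 * rho 10 * (rho 4)⁻¹) * s⁻¹ by group,
        h4 10 (by norm_num), c10]
      exact (C.rel_four hv hz 11 (by simp)).2.2
    have t11 : u * rho 11 * u⁻¹ = z := by
      rw [hu, show s * rho 4 * rho 11 * (s * rho 4)⁻¹ = s * (rho 4 * rho 11 * (rho 4)⁻¹) * s⁻¹ by group,
        h4 11 (by norm_num), show Model.mul (Model.mul 4 11) 5 = 10 by decide +kernel, hz]
    have e3 : ∀ x, u ^ 3 * x * (u ^ 3)⁻¹ = u * (u * (u * x * u⁻¹) * u⁻¹) * u⁻¹ := fun x => by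
      simp [pow_succ, mul_assoc]
    obtain ⟨r, hr, er⟩ := C.mem_rCodes (x := u ^ 3)
      (mul_inv_eq_iff_eq_mul.1 (by rw [e3, t1, t10, t11]))
      (mul_inv_eq_iff_eq_mul.1 (by rw [e3, t10, t11, t1]))
    refine ⟨r, hr, er, key _ _ r er hr fun g hgg => ?_, ?_⟩
    · obtain ⟨a, b⟩ := hT g (hg g hgg)
      obtain ⟨a', b'⟩ := hT _ a
      obtain ⟨a'', b''⟩ := hT _ a'
      refine ⟨a'', ?_⟩
      rw [e3, b, b', b'']
    · obtain ⟨a, b⟩ := hT r hr
      exact fixed _ u r er hr ((Commute.refl u).pow_right 3) _ a b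

/-- The exchanging element may be taken to act as `phiC`, with the square and the cube fixed. -/
theorem exists_phi {s : G} (hv : s * z * s⁻¹ = rho 10) (hz : s * rho 10 * s⁻¹ = z)
    (hmeet : ∀ x < 32, ∀ y < 32, s * rho x * s⁻¹ = rho y → ∃ d ∈ [0, 1, 10, 11], y = d) :
    ∃ t, Chart z rho t := by
  obtain ⟨im, him, hrel⟩ := C.mem_sols hv hz hmeet
  obtain ⟨⟨r0, hr0, -, a0, b0⟩, ⟨r1, hr1, -, a1, b1⟩⟩ := C.closing hv hz hrel
  have hcl : closes im = true := by
    rw [closes, Bool.and_eq_true, List.any_eq_true, List.any_eq_true]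
    exact ⟨⟨r0, hr0, by rw [a0, Bool.true_and, beq_iff_eq]; exact b0⟩,
      ⟨r1, hr1, by rw [a1, Bool.true_and, beq_iff_eq]; exact b1⟩⟩
  have hsol := List.all_eq_true.1 sols_closing im him
  rw [hcl, Bool.not_true, Bool.false_or, List.any_eq_true] at hsol
  obtain ⟨r, hr, hconj⟩ := hsol
  obtain ⟨rz, rv⟩ := C.of_rCodes hr
  set s₁ := rho r * s with hs₁
  have v1 : s₁ * z * s₁⁻¹ = rho 10 := by
    rw [hs₁, show rho r * s * z * (rho r * s)⁻¹ = rho r * (s * z * s⁻¹) * (rho r)⁻¹ by group, hv, rv.eq,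
      mul_inv_cancel_right]
  have z1 : s₁ * rho 10 * s₁⁻¹ = z := by
    rw [hs₁, show rho r * s * rho 10 * (rho r * s)⁻¹ = rho r * (s * rho 10 * s⁻¹) * (rho r)⁻¹ by group, hz,
      rz.eq, mul_inv_cancel_right]
  obtain ⟨hg, -, h1c, h10c, h11c, -⟩ := gens_mem
  have him1 : List.Forall₂ (Rel rho s₁) rGens (rGens.map phiC) := by
    have main : ∀ g y, Rel rho s g y → Model.mul r y = Model.mul (phiC g) r → g ∈ rGens → Rel rho s₁ g (phiC g) := by
      intro g y e he hgg
      have hp : phiC g ∈ rCodes := by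
        have := List.all_eq_true.1 phi_spec g (hg g hgg)
        simp only [Bool.and_eq_true] at this
        simpa using this.1.1
      refine ⟨e.1, rCodes_lt _ hp, ?_⟩
      rw [hs₁, show rho r * s * rho g * (rho r * s)⁻¹ = rho r * (s * rho g * s⁻¹) * (rho r)⁻¹ by group,
        e.2.2, ← C.mul r (rCodes_lt r hr) y e.2.1]
      rw [show mulK 3 r y = mulK 3 (phiC g) r from he, C.mul _ (rCodes_lt _ hp) r (rCodes_lt r hr),
        mul_inv_cancel_right]
    revert hrel hconj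
    simp only [rGens]
    intro hrel hconj
    cases hrel with
    | cons e2 h2 =>
      cases h2 with
      | cons e20 h20 =>
        cases h20 with
        | cons e544 h544 =>
          cases h544 with
          | cons e576 hn =>
            cases hn
            simp only [List.zip_cons_cons, List.zip_nil_right, List.all_cons, List.all_nil, Bool.and_true,
              Bool.and_eq_true, conjOk, beq_iff_eq] at hconj
            exact .cons (main _ _ e2 hconj.1 (by decide)) (.cons (main _ _ e20 hconj.2.1 (by decide))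
              (.cons (main _ _ e544 hconj.2.2.1 (by decide)) (.cons (main _ _ e576 hconj.2.2.2 (by decide))
                .nil)))
  have hphi : ∀ x ∈ rCodes, s₁ * rho x * s₁⁻¹ = rho (phiC x) := fun x hx => by
    have h := (C.rel_ext v1 z1 him1 hx).2.2
    rwa [phi_ext x hx] at h
  -- fix the square by a factor `z`
  obtain ⟨⟨q, hq, eq, aq, bq⟩, -⟩ := C.closing v1 z1 him1
  rw [phi_ext q hq] at bq
  have hqv : q = 1120 ∨ q = 1131 := by
    refine sq_cands q hq bq ?_
    rw [List.all_eq_true] at aq ⊢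
    intro g hgg
    have hm : phiC g ∈ rCodes := by
      have := List.all_eq_true.1 phi_spec g (hg g hgg)
      simp only [Bool.and_eq_true] at this
      simpa using this.1.1
    have := aq g hgg
    rwa [phi_ext g (hg g hgg), phi_ext _ hm] at this
  obtain ⟨t, tv, tz, tphi, tsq⟩ : ∃ t, t * z * t⁻¹ = rho 10 ∧ t * rho 10 * t⁻¹ = z ∧
      (∀ x ∈ rCodes, t * rho x * t⁻¹ = rho (phiC x)) ∧ t * t = rho 1120 := by
    rcases hqv with rfl | rfl
    · exact ⟨s₁, v1, z1, hphi, eq.symm⟩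
    · have hzt : ∀ x, Commute x z → z * x * z⁻¹ = x := fun x hx => by rw [← hx.eq, mul_inv_cancel_right]
      have zv : Commute (rho 10) z := (C.of_rCodes h10c).1
      refine ⟨z * s₁, ?_, ?_, fun x hx => ?_, ?_⟩
      · rw [show z * s₁ * z * (z * s₁)⁻¹ = z * (s₁ * z * s₁⁻¹) * z⁻¹ by group, v1, hzt _ zv]
      · rw [show z * s₁ * rho 10 * (z * s₁)⁻¹ = z * (s₁ * rho 10 * s₁⁻¹) * z⁻¹ by group, z1,
          hzt _ (Commute.refl z)]
      · rw [show z * s₁ * rho x * (z * s₁)⁻¹ = z * (s₁ * rho x * s₁⁻¹) * z⁻¹ by group, hphi x hx, hzt]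
        have := List.all_eq_true.1 phi_spec x hx
        simp only [Bool.and_eq_true] at this
        exact (C.of_rCodes (by simpa using this.1.1)).1
      · rw [show z * s₁ * (z * s₁) = z * (s₁ * z * s₁⁻¹) * (s₁ * s₁) by group, v1, ← eq, ← C.rho_z,
          ← C.mul 1 (by norm_num) 10 (by norm_num), ← C.mul _ (mulK_lt _ _ _) 1131 (by norm_num)]
        exact congrArg rho (by decide +kernel)
  have himt : List.Forall₂ (Rel rho t) rGens (rGens.map phiC) := by
    have main : ∀ g ∈ rGens, Rel rho t g (phiC g) := fun g hgg => by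
      obtain ⟨y, hy, e⟩ := C.rel_swap tv tz (hg g hgg)
      have hm : phiC g ∈ rCodes := by
        have := List.all_eq_true.1 phi_spec g (hg g hgg)
        simp only [Bool.and_eq_true] at this
        simpa using this.1.1
      exact ⟨e.1, rCodes_lt _ hm, tphi g (hg g hgg)⟩
    exact .cons (main _ (by decide)) (.cons (main _ (by decide)) (.cons (main _ (by decide))
      (.cons (main _ (by decide)) .nil)))
  obtain ⟨-, ⟨c, hc, ec, ac, bc⟩⟩ := C.closing tv tz himt
  have hP : ∀ x ∈ rCodes, turn (rGens.map phiC) x = phiC (Model.mul (Model.mul 4 x) 5) ∧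
      phiC (Model.mul (Model.mul 4 x) 5) ∈ rCodes := fun x hx => by
    have hm := turn_values.2.2.2.2.2.2 x hx
    refine ⟨phi_ext _ hm, ?_⟩
    have := List.all_eq_true.1 phi_spec _ hm
    simp only [Bool.and_eq_true] at this
    simpa using this.1.1
  rw [(hP c hc).1] at bc
  have hc0 : c = 0 := by
    refine cube_cands c hc bc ?_
    rw [List.all_eq_true] at ac ⊢
    intro g hgg
    obtain ⟨a, b⟩ := hP g (hg g hgg)
    obtain ⟨a', b'⟩ := hP _ b
    obtain ⟨a'', -⟩ := hP _ b'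
    have := ac g hgg
    rwa [a, a', a''] at this
  exact ⟨t, C.inj, C.mul, C.mem, C.one, C.rho_z, tv, tz, tphi, tsq, by rw [← ec, hc0, C.one]⟩

end Coded

variable [Finite G]

/-- The hypotheses of the characterisation give a chart. -/
theorem exists_chart (z : G) (hz : orderOf z = 2) (H₁ H₂ : Subgroup (centralizer ({z} : Set G)))
    (hK : H₁ ⊔ H₂ = closure {x : centralizer ({z} : Set G) | Odd (orderOf x)})
    (hn₁ : (H₁.subgroupOf (H₁ ⊔ H₂)).Normal) (hn₂ : (H₂.subgroupOf (H₁ ⊔ H₂)).Normal)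
    (e₁ : H₁ ≃* Matrix.SpecialLinearGroup (Fin 2) (ZMod 3))
    (e₂ : H₂ ≃* Matrix.SpecialLinearGroup (Fin 2) (ZMod 3))
    (hmeet : (H₁ ⊓ H₂).map (Subgroup.subtype (centralizer ({z} : Set G))) = zpowers z)
    (Q : Subgroup (centralizer ({z} : Set G))) [Q.Normal]
    (hQ : Q = (Cfsg.pCore 2 ↥(H₁ ⊔ H₂)).map (Subgroup.subtype (H₁ ⊔ H₂)))
    (hF : Cfsg.generalizedFittingSubgroup (centralizer ({z} : Set G)) = Q)
    (hnwc : ∃ g : G, (∃ hq : g * z * g⁻¹ ∈ centralizer ({z} : Set G),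
      (⟨g * z * g⁻¹, hq⟩ : centralizer ({z} : Set G)) ∈ Q) ∧ g * z * g⁻¹ ≠ z)
    (hH : Nat.card ↥(centralizer ({z} : Set G)) = 2 ^ 7 * 3 ^ 2)
    (hQQg : ∀ g : G, g * z * g⁻¹ ∈ Q.map (Subgroup.subtype (centralizer ({z} : Set G))) → g * z * g⁻¹ ≠ z →
      Nat.card ↥((Q.map (Subgroup.subtype (centralizer ({z} : Set G)))) ⊓
        (Q.map (Subgroup.subtype (centralizer ({z} : Set G)))).map (MulAut.conj g).toMonoidHom) = 4) :
    ∃ rho s, Chart z rho s := by
  have hzz : z * z = 1 := by rw [← pow_two, ← hz, pow_orderOf_eq_one]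
  have hz1 : z ≠ 1 := fun e => by rw [e, orderOf_one] at hz; omega
  have hm : H₁ ⊓ H₂ = zpowers (zc' z) := by
    refine map_injective (centralizer ({z} : Set G)).subtype_injective ?_
    rw [hmeet, MonoidHom.map_zpowers]
    rfl
  obtain ⟨P, h₀, hPQ⟩ := exists_pairs (z := zc' z) (fun e => hz1 (congrArg Subtype.val e)) (Subtype.ext hzz)
    (fun h => Subtype.ext (mem_centralizer_singleton_iff.1 h.2)) (hH.trans (by norm_num)) H₁ H₂ hK hn₁ hn₂
    e₁ e₂ hm Q hQ hF
  subst hPQ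
  obtain ⟨g, ⟨hq, hgQ⟩, hgz⟩ := hnwc
  obtain ⟨s₀, S⟩ := exists_swap' h₀ hQQg ⟨g, ⟨_, hgQ, rfl⟩, hgz⟩
  obtain ⟨k, hk, Γ, hsurj, hQQ⟩ := h₀.exists_gens (four_of_swap h₀ S)
  let rho : ℕ → G := fun a => (Γ.el a : G)
  have hbij : Function.Bijective (fun a : Fin 1152 => Γ.el a) := by
    refine Function.Surjective.bijective_of_nat_card_le (fun h => ?_) (by rw [h₀.card]; simp)
    obtain ⟨a, ha, e⟩ := hsurj h
    exact ⟨⟨a, ha⟩, e⟩
  have C : Coded z k rho :=
    { kind := hk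
      inj := fun a ha b hb e => congrArg Fin.val (hbij.1 (Subtype.ext e : Γ.el (⟨a, ha⟩ : Fin 1152) = Γ.el (⟨b, hb⟩ : Fin 1152)))
      mul := fun a ha b hb => congrArg Subtype.val (Γ.el_mul hk ha hb)
      mem := fun x => ⟨fun hx => by
          obtain ⟨a, ha, e⟩ := hsurj ⟨x, hx⟩
          exact ⟨a, ha, congrArg Subtype.val e⟩,
        fun ⟨a, _, e⟩ => e ▸ (Γ.el a).2⟩
      one := congrArg Subtype.val Γ.el_values.1
      rho_z := congrArg Subtype.val Γ.el_values.2.1 }
  have hel : ∀ v < 32, Γ.el v = Γ.toPairs.ph v := fun v hv => by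
    rw [Gens.el, Gens.tp, Nat.mod_eq_of_lt hv, Nat.div_eq_of_lt hv]
    simp [aExp, bExp]
  have hmemQ : ∀ v < 32, rho v ∈ Qz P := fun v hv => by
    refine ⟨Γ.el v, ?_, rfl⟩
    rw [hel v hv]
    exact hQQ ▸ Γ.toPairs.ph_mem v hv
  have hv0 : rho 10 * rho 10 = 1 := by
    rw [← C.mul 10 (by norm_num) 10 (by norm_num)]
    have : ∀ k < 8, mulK k 10 10 = 0 := by decide +kernel
    rw [this k hk, C.one]
  obtain ⟨l, hl, hlv⟩ := exists_conj h₀ (hmemQ 10 (by norm_num)) hv0
    (fun e => absurd (C.inj 10 (by norm_num) 0 (by norm_num) (e.trans C.one.symm)) (by norm_num))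
    (fun e => absurd (C.inj 10 (by norm_num) 1 (by norm_num) (e.trans C.rho_z.symm)) (by norm_num))
  have hlz : l * z * l⁻¹ = z := by rw [(mem_cz.1 hl).eq, mul_inv_cancel_right]
  set s := l⁻¹ * s₀ * l with hs
  have sv : s * z * s⁻¹ = rho 10 := by
    rw [hs, show l⁻¹ * s₀ * l * z * (l⁻¹ * s₀ * l)⁻¹ = l⁻¹ * (s₀ * (l * z * l⁻¹) * s₀⁻¹) * l by group, hlz,
      S.to_v, ← hlv]
    group
  have sz : s * rho 10 * s⁻¹ = z := by
    rw [hs, show l⁻¹ * s₀ * l * rho 10 * (l⁻¹ * s₀ * l)⁻¹ = l⁻¹ * (s₀ * (l * rho 10 * l⁻¹) * s₀⁻¹) * l by group,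
      hlv, S.to_z]
    conv_lhs => arg 1; arg 2; rw [← hlz]
    group
  have hmeet' : ∀ x < 32, ∀ y < 32, s * rho x * s⁻¹ = rho y → ∃ d ∈ [0, 1, 10, 11], y = d := by
    intro x hx y hy e
    have conjQ : ∀ v < 32, l * rho v * l⁻¹ ∈ Qz P := fun v hv => by
      haveI := h₀.normalQ
      obtain ⟨w, hw, ew⟩ := hmemQ v hv
      refine ⟨_, Subgroup.Normal.conj_mem inferInstance w hw ⟨l, hl⟩, ?_⟩
      show l * (w : G) * l⁻¹ = _
      rw [show (w : G) = rho v from ew]
    obtain ⟨x', hx', ex⟩ := conjQ x hx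
    obtain ⟨y', hy', ey⟩ := conjQ y hy
    obtain ⟨d, hd, ed⟩ := S.meet x' hx' y' hy' (by
      rw [show (x' : G) = l * rho x * l⁻¹ from ex, show (y' : G) = l * rho y * l⁻¹ from ey, ← e, hs]
      group)
    have hd' : l * rho y * l⁻¹ = (P.ph d : G) := by rw [← ey, ed]; rfl
    have key : rho y = l⁻¹ * (P.ph d : G) * l := by rw [← hd']; group
    have k1 : l⁻¹ * z * l = z := by
      conv_lhs => arg 1; arg 2; rw [← hlz]
      group
    have k10 : l⁻¹ * (P.ph 10 : G) * l = rho 10 := by rw [← hlv]; group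
    simp only [List.mem_cons, List.not_mem_nil, or_false] at hd
    refine ⟨d, by simp only [List.mem_cons, List.not_mem_nil, or_false]; exact hd,
      C.inj y (by omega) d (by omega) ?_⟩
    rw [key]
    rcases hd with rfl | rfl | rfl | rfl
    · rw [P.ph_codes.1, C.one]; simp
    · rw [P.ph_codes.2.1, C.rho_z]; exact k1
    · exact k10
    · rw [← (four_rel k hk).2.2.2.1, C.mul 1 (by norm_num) 10 (by norm_num), C.rho_z, ← k10,
        (four_rel k hk).2.2.2.1, show (11 : ℕ) = qmul 1 10 by decide +kernel,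
        P.ph_mul (by norm_num) (by norm_num), P.ph_codes.2.1]
      conv_rhs => arg 1; rw [← k1]
      show l⁻¹ * (z * (P.ph 10 : G)) * l = _
      group
  by_cases h3 : k = 3
  · subst h3
    obtain ⟨t, T⟩ := C.exists_phi sv sz hmeet'
    exact ⟨rho, t, T⟩
  · obtain ⟨im, him, -⟩ := C.mem_sols sv sz hmeet'
    rw [sols_none k hk h3] at him
    exact absurd him (by simp)

theorem central_codes : ((List.range 1152).all fun g => decide (g < 2) ||
    !([2, 4, 8, 16].all fun x => Model.mul g x == Model.mul x g)) = true := by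
  decide +kernel

theorem q_closed : ∀ a < 32, (Model.mul (Model.mul a a) (Model.mul a a) = 0) ∧ ∀ b < 32, Model.mul a b < 32 := by
  decide +kernel

namespace Chart

variable {z : G} {rho : ℕ → G} {s : G} (T : Chart z rho s)
include T

theorem orderOf_z : orderOf z = 2 := by
  refine orderOf_eq_prime ?_ fun e => absurd
    (T.inj 1 (by norm_num) 0 (by norm_num) (T.rho_z.trans (e.trans T.one.symm))) (by norm_num)
  rw [pow_two, ← T.rho_z, ← T.mul _ (by decide) _ (by decide)]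
  exact (congrArg rho (by decide +kernel : Model.mul zc zc = 0)).trans T.one

/-- Every involution centralizing `z` is conjugate to `z` in any subgroup containing the centralizer
and `s`. -/
theorem exists_conj_mem {M : Subgroup G} (hC : centralizer ({z} : Set G) ≤ M) (hs : s ∈ M) {x : G}
    (hx : orderOf x = 2) (hc : Commute x z) : ∃ h ∈ M, h * z * h⁻¹ = x := by
  obtain ⟨a, ha, rfl⟩ := (T.mem x).1 (mem_centralizer_singleton_iff.2 hc)
  have hrho : ∀ c < 1152, rho c ∈ M := fun c hc => hC ((T.mem _).2 ⟨c, hc, rfl⟩)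
  have back : ∀ g x y : G, g ∈ M → g * x = y * g → (∃ h ∈ M, h * z * h⁻¹ = y) →
      ∃ h ∈ M, h * z * h⁻¹ = x := by
    rintro g x _ hg e ⟨h, hh, rfl⟩
    refine ⟨g⁻¹ * h, M.mul_mem (M.inv_mem hg) hh, ?_⟩
    rw [eq_comm, ← mul_right_inj g, e]
    group
  have hzv : ∃ h ∈ M, h * z * h⁻¹ = rho 10 := ⟨s, hs, T.to_v⟩
  have hone : ∃ h ∈ M, h * z * h⁻¹ = rho 1 := ⟨1, M.one_mem, by
    rw [one_mul, inv_one, mul_one]; exact T.rho_z.symm⟩
  have hxx : Model.mul a a = 0 := T.inj _ (mul_lt _ _) _ (by norm_num) (by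
    rw [T.mul a ha a ha, ← pow_two, ← hx, pow_orderOf_eq_one, T.one])
  have hmain : ∀ b < 32, b ≠ 0 → Model.mul b b = 0 → ∃ h ∈ M, h * z * h⁻¹ = rho b := by
    intro b hb hb0 hbb
    have f : ∀ b < 32, b ≠ 0 → Model.mul b b = 0 →
        [1, 10].any (fun r => ([0, 32, 64, 96, 128, 160, 192, 224, 256].any
          fun h => (List.range 32).any fun q => Model.mul (Model.mul q h) b == Model.mul r (Model.mul q h))) = true := by
      decide +kernel
    obtain ⟨r, hr, h⟩ := List.any_eq_true.1 (f b hb hb0 hbb)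
    obtain ⟨h', hh', h⟩ := List.any_eq_true.1 h
    obtain ⟨q, hq, h⟩ := List.any_eq_true.1 h
    rw [beq_iff_eq] at h
    have hr32 : r < 32 := by revert hr; simp; omega
    refine back (rho (Model.mul q h')) _ (rho r) (hrho _ (mul_lt _ _)) ?_ ?_
    · rw [← T.mul _ (mul_lt _ _) b (by omega), h, T.mul r (by omega) _ (mul_lt _ _)]
    · simp only [List.mem_cons, List.not_mem_nil, or_false] at hr
      rcases hr with rfl | rfl
      · exact hone
      · exact hzv
  have h := List.all_eq_true.1 inv_classes a (List.mem_range.2 ha)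
  simp only [Bool.or_eq_true, beq_iff_eq, bne_iff_ne, ne_eq, hxx, not_true_eq_false, or_false] at h
  rcases h with rfl | h
  · rw [T.one, orderOf_one] at hx; omega
  obtain ⟨r, hr, h⟩ := List.any_eq_true.1 h
  obtain ⟨g, hg, h⟩ := List.any_eq_true.1 h
  rw [beq_iff_eq] at h
  rw [List.mem_range] at hg
  have hr' : r < 1152 := by revert hr; simp; omega
  refine back (rho g) _ (rho r) (hrho g hg) ?_ ?_
  · rw [← T.mul g hg a ha, h, T.mul r hr' g hg]
  · simp only [List.mem_cons, List.not_mem_nil, or_false] at hr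
    have viaphi : r ∈ [576, 1142] → ∃ h ∈ M, h * z * h⁻¹ = rho r := fun hm => by
      obtain ⟨c1, c2, c3, c4⟩ := class_phi r hm
      exact back s _ _ hs (mul_inv_eq_iff_eq_mul.1 (T.conj r c1)) (hmain _ c2 c3 c4)
    rcases hr with rfl | rfl | rfl | rfl
    · exact hone
    · exact hzv
    · exact viaphi (by simp)
    · exact viaphi (by simp)

/-- Every involution centralizing `z` is conjugate to `z`. -/
theorem isConj_of_commute {x : G} (hx : orderOf x = 2) (hc : Commute x z) : IsConj z x := by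
  obtain ⟨h, -, e⟩ := T.exists_conj_mem (M := ⊤) le_top (mem_top s) hx hc
  exact isConj_iff.2 ⟨h, e⟩

/-- There is one class of involutions. -/
theorem isConj_z {x : G} (hx : orderOf x = 2) : IsConj z x := by
  haveI : Fact (Nat.Prime 2) := ⟨Nat.prime_two⟩
  let C := centralizer ({z} : Set G)
  let E : Submonoid C :=
    { carrier := {g | ∃ a < 32, rho a = (g : G)}
      one_mem' := ⟨0, by norm_num, by simpa using T.one⟩
      mul_mem' := by
        rintro g h ⟨a, ha, e⟩ ⟨b, hb, e'⟩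
        exact ⟨Model.mul a b, (q_closed a ha).2 b hb, by rw [T.mul a (by omega) b (by omega), e, e']; rfl⟩ }
  let U : Subgroup C :=
    { E with
      inv_mem' := fun {g} hg => by
        have h : g⁻¹ = g ^ (orderOf g - 1) := by
          refine inv_eq_of_mul_eq_one_right ?_
          rw [← pow_succ', show orderOf g - 1 + 1 = orderOf g by have := orderOf_pos g; omega,
            pow_orderOf_eq_one]
        rw [h]; exact E.pow_mem hg _ }
  have hU : IsPGroup 2 U := by
    rintro ⟨g, a, ha, e⟩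
    refine ⟨2, Subtype.ext (Subtype.ext ?_)⟩
    push_cast
    show (g : G) ^ (2 ^ 2) = 1
    rw [← e, show (2 : ℕ) ^ 2 = 2 * 2 from rfl, pow_mul, pow_two, pow_two, ← T.mul a (by omega) a (by omega),
      ← T.mul _ (mul_lt _ _) _ (mul_lt _ _), (q_closed a ha).1, T.one]
  obtain ⟨P, hP⟩ := (hU.map C.subtype).exists_le_sylow
  have hin : ∀ a < 32, rho a ∈ (P : Subgroup G) := fun a ha => hP
    ⟨⟨rho a, (T.mem _).2 ⟨a, by omega, rfl⟩⟩, ⟨a, ha, rfl⟩, rfl⟩
  have hz2 : z ≠ 1 := fun e => by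
    have := T.orderOf_z
    rw [e, orderOf_one] at this
    omega
  have hzP : z ∈ (P : Subgroup G) := T.rho_z ▸ hin 1 (by norm_num)
  haveI : Nontrivial (P : Subgroup G) := ⟨⟨z, hzP⟩, 1, fun e => hz2 (congrArg Subtype.val e)⟩
  haveI := P.isPGroup'.center_nontrivial
  obtain ⟨⟨⟨w, hwP⟩, hwc⟩, hw1⟩ := exists_ne (1 : Subgroup.center (P : Subgroup G))
  have hw1' : w ≠ 1 := fun e => hw1 (Subtype.ext (Subtype.ext e))
  have hcomm : ∀ y ∈ (P : Subgroup G), Commute y w := fun y hy =>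
    congrArg Subtype.val (mem_center_iff.1 hwc ⟨y, hy⟩)
  obtain ⟨a, ha, rfl⟩ := (T.mem w).1 (mem_centralizer_singleton_iff.2 (hcomm z hzP).symm.eq)
  have hwz : rho a = z := by
    have h := List.all_eq_true.1 central_codes a (List.mem_range.2 ha)
    have hall : ([2, 4, 8, 16].all fun x => Model.mul a x == Model.mul x a) = true := by
      rw [List.all_eq_true]
      intro b hb
      rw [beq_iff_eq]
      have hb32 : b < 32 := by revert hb; simp; omega
      exact T.inj _ (mul_lt _ _) _ (mul_lt _ _) (by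
        rw [T.mul a ha b (by omega), T.mul b (by omega) a ha, ((hcomm _ (hin b hb32)).symm).eq])
    simp only [hall, Bool.not_true, Bool.or_false, decide_eq_true_eq] at h
    interval_cases a
    · exact absurd T.one hw1'
    · exact T.rho_z
  -- every involution is conjugate into that Sylow subgroup
  have hp : IsPGroup 2 (zpowers x) := IsPGroup.of_card (n := 1) (by rw [Nat.card_zpowers, hx, pow_one])
  obtain ⟨P', hP'⟩ := hp.exists_le_sylow
  obtain ⟨g, hg⟩ := MulAction.exists_smul_eq G P' P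
  have hgx : g * x * g⁻¹ ∈ (P : Subgroup G) := by
    rw [← hg, Sylow.coe_subgroup_smul, ← MulAut.conj_apply]
    exact Subgroup.smul_mem_pointwise_smul _ _ _ (hP' (mem_zpowers x))
  refine IsConj.trans (T.isConj_of_commute (x := g * x * g⁻¹) ?_ ?_) (isConj_iff.2 ⟨g, rfl⟩).symm
  · rw [← MulAut.conj_apply, MulEquiv.orderOf_eq, hx]
  · exact hwz ▸ hcomm _ hgx

/-- Any two involutions are conjugate. -/
theorem isConj {x y : G} (hx : orderOf x = 2) (hy : orderOf y = 2) : IsConj x y :=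
  (T.isConj_z hx).symm.trans (T.isConj_z hy)

end Chart

end Cfsg.Agent.U43
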