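import Cfsg.Agent.Lib.U43.Sides

/-!
The elements `A`, `B` of the normalizer of a Sylow 3-subgroup: the centralizer is the image of a model.
-/

set_option autoImplicit false
set_option maxRecDepth 20000

namespace Cfsg.Agent.U43

open Model Subgroup

universe u

theorem norm_fixed : ∀ b < 32, act 1 b = b → act 3 b = b → b < 2 := by decide +kernel

theorem qmul_cancel : ∀ a < 32, ∀ c < 32, qmul a c = 0 → ∀ b < 32, qmul c b = 0 → a = b := by
  decide +kernel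

theorem fix_one : ∀ m < 3, ∀ n < 3, (∀ v ∈ sideOne, act m (act (3 * n) v) = v) → m = 0 := by decide +kernel

theorem fix_two : ∀ m < 3, ∀ n < 3, (∀ v ∈ sideTwo, act m (act (3 * n) v) = v) → n = 0 := by decide +kernel

theorem rot_central : ∀ a ∈ sideOne, qmul a (act 1 a) = act 1 (act 1 a) → ∃ r < 3, act r 2 = a := by
  decide +kernel

theorem rot_back : ∀ r < 3, act ((2 * r) % 3) (act r 2) = 2 := by decide +kernel

/-- Inverting the rotation, an element sends one of `i₁, j₁, i₁ * j₁` to minus its rotation. -/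
theorem rot_inverse : ∀ a ∈ sideOne, qmul a (act 2 a) = act 2 (act 2 a) →
    a = qmul 1 (act 1 2) ∨ act 2 a = qmul 1 (act 1 4) ∨ qmul a (act 2 a) = qmul 1 (act 1 6) := by
  decide +kernel

theorem rot_spec : ∀ u ∈ [2, 4, 6], u < 32 ∧ u ∈ sideOne ∧ act 1 u ∈ sideOne ∧ anti (act 1 u) u = true ∧
    qmul u u = 1 ∧ qmul (act 1 u) (act 1 u) = 1 ∧ qmul (act 1 u) u = qmul (qmul 1 u) (act 1 u) ∧
    act 1 (act 1 u) = qmul u (act 1 u) ∧ act 2 (qmul 1 (act 1 u)) = qmul 1 u ∧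
    ∀ x ∈ [2, 4], x ∈ [u, act 1 u, qmul u (act 1 u), qmul 1 u, qmul 1 (act 1 u), qmul 1 (qmul u (act 1 u))] := by
  decide +kernel

theorem span_two : ∀ s ∈ sideTwo, ∀ t ∈ sideTwo, anti s t = true → ∀ x ∈ [8, 16],
    x ∈ [s, t, qmul s t, qmul 1 s, qmul 1 t, qmul 1 (qmul s t)] := by
  decide +kernel

theorem rot_side : ∀ v ∈ sideTwo, act 1 v = v := by decide +kernel

theorem rot_side' : ∀ n < 3, ∀ v ∈ sideOne, act (3 * n) v = v := by decide +kernel

theorem mul_self_mod : ∀ e < 3, e ≠ 0 → (e * e) % 3 = 1 := by decide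

variable {H : Type u} [Group H] {z : H}

namespace Pairs

variable (P : Pairs z)

/-- The group generated by the two elements of order three. -/
def tSub : Subgroup H where
  carrier := {x | ∃ m < 3, ∃ n < 3, P.w₁ ^ m * P.w₂ ^ n = x}
  one_mem' := ⟨0, by norm_num, 0, by norm_num, by simp⟩
  mul_mem' := by
    rintro _ _ ⟨m, _, n, _, rfl⟩ ⟨m', _, n', _, rfl⟩
    refine ⟨(m + m') % 3, Nat.mod_lt _ (by norm_num), (n + n') % 3, Nat.mod_lt _ (by norm_num), ?_⟩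
    rw [← pow_eq_pow_mod _ P.w₁_cube, ← pow_eq_pow_mod _ P.w₂_cube, pow_add, pow_add]
    simp only [mul_assoc]
    rw [← mul_assoc (P.w₁ ^ m'), ← ((P.w₂_w₁.pow_left n).pow_right m').eq, mul_assoc]
  inv_mem' := by
    rintro _ ⟨m, _, n, _, rfl⟩
    refine ⟨(2 * m) % 3, Nat.mod_lt _ (by norm_num), (2 * n) % 3, Nat.mod_lt _ (by norm_num), ?_⟩
    refine eq_inv_of_mul_eq_one_left ?_
    rw [← pow_eq_pow_mod _ P.w₁_cube, ← pow_eq_pow_mod _ P.w₂_cube]
    calc P.w₁ ^ (2 * m) * P.w₂ ^ (2 * n) * (P.w₁ ^ m * P.w₂ ^ n)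
        = P.w₁ ^ (2 * m) * P.w₁ ^ m * (P.w₂ ^ (2 * n) * P.w₂ ^ n) := by
          simp only [mul_assoc]
          rw [← mul_assoc (P.w₂ ^ (2 * n)), ((P.w₂_w₁.pow_left _).pow_right m).eq, mul_assoc]
      _ = (P.w₁ ^ 3) ^ m * (P.w₂ ^ 3) ^ n := by
          rw [← pow_add, ← pow_add, ← pow_mul, ← pow_mul]; congr 2 <;> ring
      _ = 1 := by rw [P.w₁_cube, P.w₂_cube, one_pow, one_pow, one_mul]

theorem w_mem : P.w₁ ∈ P.tSub ∧ P.w₂ ∈ P.tSub :=
  ⟨⟨1, by norm_num, 0, by norm_num, by simp⟩, ⟨0, by norm_num, 1, by norm_num, by simp⟩⟩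

theorem maps_w {m n v : ℕ} (hm : m < 3) (hn : n < 3) (hv : v < 32) :
    P.Maps (P.w₁ ^ m * P.w₂ ^ n) v (act m (act (3 * n) v)) := by
  rw [Maps, mul_inv_eq_iff_eq_mul, mul_assoc, (P.act_w_pow hn hv).2, ← mul_assoc,
    (P.act_w_pow hm (act_lt _ _)).1, mul_assoc]

theorem t_le : P.tSub ≤ P.kSub := by
  rintro _ ⟨m, hm, n, hn, rfl⟩
  exact ⟨0, by norm_num, m, hm, n, hn, by simp [P.ph_codes.1]⟩

theorem q_le : P.qSub ≤ P.kSub := by
  rintro _ ⟨v, hv, rfl⟩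
  exact ⟨v, hv, 0, by norm_num, 0, by norm_num, by simp⟩

theorem z_mem : z ∈ P.kSub := P.q_le ⟨1, by norm_num, P.ph_codes.2.1⟩

theorem ph_mem_of {S : Subgroup H} (hz : z ∈ S) (h1 : P.i₁ ∈ S) (h2 : P.j₁ ∈ S) (h3 : P.i₂ ∈ S)
    (h4 : P.j₂ ∈ S) (v : ℕ) : P.ph v ∈ S :=
  S.mul_mem (S.mul_mem (S.mul_mem (S.mul_mem (S.pow_mem hz _) (S.pow_mem h1 _)) (S.pow_mem h2 _))
    (S.pow_mem h3 _)) (S.pow_mem h4 _)

end Pairs

namespace Hyp

variable {P : Pairs z} (h₀ : Hyp z P)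
include h₀

theorem inj_w {m n : ℕ} (h : P.w₁ ^ m * P.w₂ ^ n = 1) : m % 3 = 0 ∧ n % 3 = 0 := by
  rw [pow_eq_pow_mod m P.w₁_cube, pow_eq_pow_mod n P.w₂_cube] at h
  exact (h₀.inj 0 (by norm_num) _ (Nat.mod_lt _ (by norm_num)) _ (Nat.mod_lt _ (by norm_num))
    (by rw [P.ph_codes.1, one_mul, h])).2

theorem card_tSub [Finite H] : Nat.card P.tSub = 9 := by
  let f : Fin 3 × Fin 3 → P.tSub := fun x => ⟨P.w₁ ^ (x.1 : ℕ) * P.w₂ ^ (x.2 : ℕ), x.1, x.1.2, x.2, x.2.2, rfl⟩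
  have hf : Function.Bijective f := by
    refine ⟨?_, ?_⟩
    · rintro ⟨m, n⟩ ⟨m', n'⟩ e
      have e' : P.w₁ ^ (m : ℕ) * P.w₂ ^ (n : ℕ) = P.w₁ ^ (m' : ℕ) * P.w₂ ^ (n' : ℕ) := congrArg Subtype.val e
      have h := h₀.inj_w (m := m + 2 * m') (n := n + 2 * n') (by
        rw [pow_add, pow_add]
        calc P.w₁ ^ (m : ℕ) * P.w₁ ^ (2 * (m' : ℕ)) * (P.w₂ ^ (n : ℕ) * P.w₂ ^ (2 * (n' : ℕ)))
            = P.w₁ ^ (m : ℕ) * P.w₂ ^ (n : ℕ) * (P.w₁ ^ (2 * (m' : ℕ)) * P.w₂ ^ (2 * (n' : ℕ))) := by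
              simp only [mul_assoc]
              rw [← mul_assoc (P.w₂ ^ (n : ℕ)), ((P.w₂_w₁.pow_left _).pow_right _).eq, mul_assoc]
          _ = P.w₁ ^ (m' : ℕ) * P.w₂ ^ (n' : ℕ) * (P.w₁ ^ (2 * (m' : ℕ)) * P.w₂ ^ (2 * (n' : ℕ))) := by rw [e']
          _ = (P.w₁ ^ 3) ^ (m' : ℕ) * (P.w₂ ^ 3) ^ (n' : ℕ) := by
              rw [← pow_mul, ← pow_mul, show 3 * (m' : ℕ) = m' + 2 * m' by ring,
                show 3 * (n' : ℕ) = n' + 2 * n' by ring, pow_add, pow_add]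
              simp only [mul_assoc]
              rw [← mul_assoc (P.w₂ ^ (n' : ℕ)), ((P.w₂_w₁.pow_left _).pow_right _).eq, mul_assoc]
          _ = 1 := by rw [P.w₁_cube, P.w₂_cube, one_pow, one_pow, one_mul])
      have hm := m.2; have hm' := m'.2; have hn := n.2; have hn' := n'.2
      rw [show m = m' from Fin.ext (by omega), show n = n' from Fin.ext (by omega)]
    · rintro ⟨_, m, hm, n, hn, rfl⟩
      exact ⟨(⟨m, hm⟩, ⟨n, hn⟩), rfl⟩
  rw [← Nat.card_eq_of_bijective f hf]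
  simp

/-- The Frattini argument for the Sylow 3-subgroup of the product of the factors. -/
theorem exists_norm [Finite H] (h : H) : ∃ k ∈ P.kSub, k * h ∈ normalizer (P.tSub : Set H) := by
  haveI : Fact (Nat.Prime 3) := ⟨Nat.prime_three⟩
  haveI := h₀.normalK
  have hc : Nat.card (P.tSub.subgroupOf P.kSub) = 9 := by
    rw [Nat.card_congr (subgroupOfEquivOfLe P.t_le).toEquiv, h₀.card_tSub]
  have hp : IsPGroup 3 (P.tSub.subgroupOf P.kSub) := IsPGroup.of_card (n := 2) (hc.trans (by norm_num))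
  have hi : ¬ 3 ∣ (P.tSub.subgroupOf P.kSub).index := by
    have := (P.tSub.subgroupOf P.kSub).card_mul_index
    rw [hc, h₀.card_kSub] at this
    omega
  have hs := Sylow.normalizer_sup_eq_top (hp.toSylow hi)
  have e : ((hp.toSylow hi : Sylow 3 P.kSub) : Subgroup P.kSub).map P.kSub.subtype = P.tSub :=
    map_subgroupOf_eq_of_le P.t_le
  rw [e] at hs
  obtain ⟨n, hn, k, hk, he⟩ := mem_sup_of_normal_right.1 (hs ▸ mem_top h)
  refine ⟨n * k⁻¹ * n⁻¹, Subgroup.Normal.conj_mem inferInstance _ (P.kSub.inv_mem hk) n, ?_⟩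
  rw [← he]
  simpa [mul_assoc] using hn

/-- The normalizer of the 3-subgroup meets the product of the factors in `⟨z⟩ × T`. -/
theorem norm_k {x : H} (hx : x ∈ P.kSub) (hn : x ∈ normalizer (P.tSub : Set H)) :
    ∃ c < 2, ∃ m < 3, ∃ n < 3, x = z ^ c * (P.w₁ ^ m * P.w₂ ^ n) := by
  obtain ⟨v, hv, m, hm, n, hnn, rfl⟩ := hx
  have hq : P.ph v ∈ normalizer (P.tSub : Set H) := by
    have := mul_mem hn (inv_mem (le_normalizer (G := H) ⟨m, hm, n, hnn, rfl⟩))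
    rwa [mul_inv_cancel_right] at this
  obtain ⟨b, hb, hbv⟩ := P.qSub.inv_mem (P.ph_mem v hv)
  have hvb : qmul v b = 0 :=
    h₀.ph_inj (qmul_lt _ _) (by norm_num) (by rw [P.ph_mul hv hb, hbv, mul_inv_cancel, P.ph_codes.1])
  have hbv' : qmul b v = 0 :=
    h₀.ph_inj (qmul_lt _ _) (by norm_num) (by rw [P.ph_mul hb hv, hbv, inv_mul_cancel, P.ph_codes.1])
  have key : ∀ w g, w ∈ P.tSub → g < 36 → (∀ y < 32, w * P.ph y = P.ph (act g y) * w) → act g b = b := by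
    intro w g hw _ hact
    obtain ⟨m', hm', n', hn', e⟩ := (mem_normalizer_iff.1 hq w).1 hw
    obtain ⟨m'', hm'', n'', hn'', e'⟩ := P.tSub.mul_mem (⟨m', hm', n', hn', rfl⟩ : _ ∈ P.tSub) (P.tSub.inv_mem hw)
    have h1 : P.ph (qmul v (act g b)) = P.w₁ ^ m'' * P.w₂ ^ n'' := by
      rw [e', e, P.ph_mul hv (act_lt _ _), mul_assoc _ w, ← hbv, hact b hb]
      group
    obtain ⟨x, hx, y, hy, exy⟩ := P.tSub.inv_mem (⟨m'', hm'', n'', hn'', rfl⟩ : _ ∈ P.tSub)
    have h2 := h₀.inj _ (qmul_lt v (act g b)) x hx y hy (by rw [h1, exy, mul_inv_cancel])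
    exact (qmul_cancel b hb v hv hbv' _ (act_lt g b) h2.1).symm
  have h1 := key P.w₁ 1 P.w_mem.1 (by norm_num) fun y hy => (P.act_w hy).1
  have h3 := key P.w₂ 3 P.w_mem.2 (by norm_num) fun y hy => (P.act_w hy).2
  have hb2 := norm_fixed b hb h1 h3
  have hbz : ∀ b < 2, P.ph b * P.ph b = 1 := by
    intro b hb
    interval_cases b
    · simp [P.ph_codes.1]
    · rw [P.ph_codes.2.1, P.z_sq]
  have : P.ph v = P.ph b := by
    rw [← inv_inv (P.ph v), ← hbv]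
    exact inv_eq_of_mul_eq_one_right (hbz b hb2)
  refine ⟨b, hb2, m, hm, n, hnn, ?_⟩
  rw [this]
  interval_cases b
  · simp [P.ph_codes.1]
  · simp [P.ph_codes.2.1]

theorem t_comm {x : H} (hx : x ∈ P.kSub) (hn : x ∈ normalizer (P.tSub : Set H)) {t : H}
    (ht : t ∈ P.tSub) : Commute x t := by
  obtain ⟨c, -, m, -, n, -, rfl⟩ := h₀.norm_k hx hn
  obtain ⟨m', -, n', -, rfl⟩ := ht
  refine ((h₀.central _).symm.pow_left c).mul_left (Commute.mul_left ?_ ?_) <;>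
    refine Commute.mul_right ?_ ?_
  · exact (Commute.refl _).pow_pow _ _
  · exact (P.w₂_w₁.symm.pow_left _).pow_right _
  · exact (P.w₂_w₁.pow_left _).pow_right _
  · exact (Commute.refl _).pow_pow _ _

/-- An element of the normalizer whose square lies in `⟨z⟩`, in a given coset. -/
theorem exists_half [Finite H] (h4 : Four P) (h : H) : ∃ n ∈ normalizer (P.tSub : Set H),
    (∃ c < 2, n * n = z ^ c) ∧ ∃ k ∈ P.kSub, n = k * h := by
  obtain ⟨k, hk, hkn⟩ := h₀.exists_norm h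
  have hsq : k * h * (k * h) ∈ P.kSub := h₀.sq_mem h4 (k * h)
  obtain ⟨c, hc, m, _, n, _, e⟩ := h₀.norm_k hsq (mul_mem hkn hkn)
  refine ⟨(k * h) ^ 9, pow_mem hkn 9, ⟨c, hc, ?_⟩, ?_⟩
  · rw [← pow_two, ← pow_mul, show 9 * 2 = 2 * 9 from rfl, pow_mul, pow_two, e]
    have hcw : Commute (z ^ c) (P.w₁ ^ m * P.w₂ ^ n) := ((h₀.central _).symm.pow_left c)
    rw [hcw.mul_pow, ((P.w₂_w₁.symm.pow_left m).pow_right n).mul_pow, ← pow_mul, ← pow_mul, ← pow_mul,
      mul_comm m, mul_comm n, show 9 * m = 3 * (3 * m) by ring, show 9 * n = 3 * (3 * n) by ring,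
      pow_mul P.w₁, pow_mul P.w₂, P.w₁_cube, P.w₂_cube, one_pow, one_pow, mul_one, mul_one,
      pow_eq_pow_mod (c * 9) (by rw [pow_two]; exact P.z_sq : z ^ 2 = 1), show c * 9 % 2 = c by omega]
  · refine ⟨(k * h * (k * h)) ^ 4 * k, P.kSub.mul_mem (P.kSub.pow_mem hsq 4) hk, ?_⟩
    rw [mul_assoc _ k h, ← pow_two, ← pow_mul, ← pow_succ]

theorem stay_coset {k h : H} (hk : k ∈ P.kSub) : P.Stay (k * h) ↔ P.Stay h := by
  rw [h₀.stay_mul]
  simp [h₀.stay_kSub hk]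

/-- A conjugate of `w₁` centralizes the images of the second side. -/
theorem conj_fix {h : H} {m n : ℕ} (hm : m < 3) (hn : n < 3) (e : h * P.w₁ * h⁻¹ = P.w₁ ^ m * P.w₂ ^ n)
    (v : ℕ) (hv : v ∈ sideTwo) {w : ℕ} (hw : w < 32) (e' : P.Maps h v w) :
    act m (act (3 * n) w) = w := by
  refine h₀.maps_unique (act_lt _ _) hw (P.maps_w hm hn hw) ?_
  have hc : Commute P.w₁ (P.ph v) := by
    show P.w₁ * P.ph v = P.ph v * P.w₁
    rw [(P.act_w (side_sq v (List.mem_append_right _ hv)).1).1, rot_side v hv]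
  have := (hc.map (MulAut.conj h).toMonoidHom).eq
  simp only [MulEquiv.coe_toMonoidHom, MulAut.conj_apply] at this
  rw [Pairs.Maps, ← e, mul_inv_eq_iff_eq_mul, ← e']
  exact this

/-- The centralizer is the image of a model. -/
theorem exists_gens [Finite H] (h4 : Four P) :
    ∃ k < 8, ∃ Γ : Gens k z, (∀ h, ∃ g < 1152, Γ.el g = h) ∧ Γ.toPairs.qSub = P.qSub := by
  haveI := h₀.normalK
  obtain ⟨hsw, hswS⟩ := h₀.exists_swap h4
  obtain ⟨B, hBN, ⟨cB, hcB, hBB⟩, kB, hkB, hBk⟩ := h₀.exists_half h4 hsw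
  have hBS : ¬ P.Stay B := by rw [hBk, h₀.stay_coset hkB]; exact hswS
  have hBK : B ∉ P.kSub := fun h => hBS (h₀.stay_kSub h)
  obtain ⟨ha, haK, haS⟩ : ∃ h, h ∉ P.kSub ∧ P.Stay h := by
    by_contra hh
    push Not at hh
    refine h₀.quot_four Set.univ (fun _ => Set.mem_univ _) B fun h _ => ?_
    by_contra hn
    push Not at hn
    exact hh (B * h) hn.2 (h₀.stay_mul.2 (iff_of_false hBS (hh h hn.1)))
  obtain ⟨A₀, hA₀N, -, kA, hkA, hAk⟩ := h₀.exists_half h4 ha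
  have hA₀S : P.Stay A₀ := by rw [hAk, h₀.stay_coset hkA]; exact haS
  have hA₀K : A₀ ∉ P.kSub := fun h => haK (by simpa [hAk] using P.kSub.mul_mem (P.kSub.inv_mem hkA) h)
  -- the conjugate of `w₁` by `B`
  have sideB : ∀ v ∈ sideOne, ∃ w ∈ sideTwo, P.Maps B v w := by
    intro v hv
    obtain ⟨w, hw, e⟩ := h₀.maps_side B (List.mem_append_left _ hv)
    refine ⟨w, (List.mem_append.1 hw).resolve_left fun h1 => ?_, e⟩
    exact hBS (((h₀.maps_sides B).1 v hv w (side_sq w hw).1 e).1 h1)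
  have hBz : ∀ x, B * (B * x * B⁻¹) * B⁻¹ = x := fun x => by
    have e : B * (B * x * B⁻¹) * B⁻¹ = B * B * x * (B * B)⁻¹ := by group
    rw [e, hBB, ((h₀.central x).pow_right cB).eq.symm, mul_inv_cancel_right]
  obtain ⟨m0, hm0, e, he, hw2⟩ := (mem_normalizer_iff.1 hBN P.w₁).1 P.w_mem.1
  obtain rfl : m0 = 0 := fix_one m0 hm0 e he fun v hv => by
    obtain ⟨w, hw, ew⟩ := sideB v hv
    refine h₀.conj_fix hm0 he hw2.symm w hw (side_sq v (List.mem_append_left _ hv)).1 ?_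
    rw [Pairs.Maps, ← ew, hBz]
  rw [pow_zero, one_mul] at hw2
  have he0 : e ≠ 0 := fun h => by
    rw [h, pow_zero, eq_comm, conj_eq_one_iff] at hw2
    exact absurd (h₀.inj_w (m := 1) (n := 0) (by simp [hw2])).1 (by norm_num)
  have hw2e : (P.w₂ ^ e) ^ e = P.w₂ := by
    rw [← pow_mul, pow_eq_pow_mod _ P.w₂_cube, mul_self_mod e he he0, pow_one]
  -- elements of the 3-group in the new generators
  set W : H := P.w₂ ^ e with hW
  have hWT : W ∈ P.tSub := P.tSub.pow_mem P.w_mem.2 e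
  have hWc : W ^ 3 = 1 := by rw [hW, ← pow_mul, mul_comm, pow_mul, P.w₂_cube, one_pow]
  have hBw : B * P.w₁ * B⁻¹ = W := hw2.symm
  have hBW : B * W * B⁻¹ = P.w₁ := by rw [← hBw, hBz]
  have hWw : Commute W P.w₁ := P.w₂_w₁.pow_left e
  have tword : ∀ x ∈ P.tSub, ∃ m < 3, ∃ n < 3, x = P.w₁ ^ m * W ^ n := by
    rintro _ ⟨m, hm, n, _, rfl⟩
    refine ⟨m, hm, (e * n) % 3, Nat.mod_lt _ (by norm_num), ?_⟩
    rw [← pow_eq_pow_mod _ hWc, pow_mul, hw2e]
  have tinj : ∀ m n, P.w₁ ^ m * W ^ n = 1 → m % 3 = 0 ∧ n % 3 = 0 := by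
    intro m n h
    rw [hW, ← pow_mul] at h
    obtain ⟨a, b⟩ := h₀.inj_w h
    refine ⟨a, ?_⟩
    have : e = 1 ∨ e = 2 := by omega
    rcases this with rfl | rfl <;> omega
  have hswapT : ∀ m n, B * (P.w₁ ^ m * W ^ n) * B⁻¹ = P.w₁ ^ n * W ^ m := fun m n => by
    rw [← conj_mul, ← conj_pow, ← conj_pow, hBw, hBW]
    exact ((hWw.pow_left m).pow_right n).eq
  -- adjust `A` to commute with `B` modulo `z`
  have hcK : B * A₀ * B⁻¹ * A₀⁻¹ ∈ P.kSub := by
    have : B * A₀ * B⁻¹ * A₀⁻¹ = (B * A₀ * (B * A₀)) * (A₀⁻¹ * (B * B)⁻¹ * A₀⁻¹⁻¹) * (A₀ * A₀)⁻¹ := by group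
    rw [this]
    exact P.kSub.mul_mem (P.kSub.mul_mem (h₀.sq_mem h4 _)
      (Subgroup.Normal.conj_mem inferInstance _ (P.kSub.inv_mem (h₀.sq_mem h4 B)) _))
      (P.kSub.inv_mem (h₀.sq_mem h4 A₀))
  obtain ⟨c, hc, x₁, hx₁, x₂, hx₂, ec⟩ := h₀.norm_k hcK
    (mul_mem (mul_mem (mul_mem hBN hA₀N) (inv_mem hBN)) (inv_mem hA₀N))
  obtain ⟨m, hm, n, hn, et⟩ := tword _ ⟨x₁, hx₁, x₂, hx₂, rfl⟩
  rw [et, mul_inv_eq_iff_eq_mul] at ec
  have hzc : ∀ x, z ^ c * x = x * z ^ c := fun x => ((h₀.central x).pow_right c).eq.symm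
  have hmn : (m + n) % 3 = 0 := by
    have h2 : z ^ c * (P.w₁ ^ n * W ^ m) * (z ^ c * (P.w₁ ^ m * W ^ n) * A₀) = A₀ := by
      have e2 := congrArg (fun x => B * x * B⁻¹) ec
      simp only [← conj_mul, hBz, hswapT] at e2
      have e3 : B * z ^ c * B⁻¹ = z ^ c := by rw [← hzc, mul_inv_cancel_right]
      rw [e3, ec] at e2
      exact e2.symm
    have h3 : P.w₁ ^ (m + n) * W ^ (m + n) = 1 := by
      have hzz : z ^ c * z ^ c = 1 := by rw [← pow_add, ← two_mul, pow_mul, pow_two, P.z_sq, one_pow]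
      have h4 : z ^ c * (P.w₁ ^ n * W ^ m) * (z ^ c * (P.w₁ ^ m * W ^ n)) = 1 := by
        rw [← mul_eq_right (b := A₀), mul_assoc _ _ A₀]; exact h2
      calc P.w₁ ^ (m + n) * W ^ (m + n) = (P.w₁ ^ n * W ^ m) * (P.w₁ ^ m * W ^ n) := by
            rw [mul_assoc (P.w₁ ^ n), ← mul_assoc (W ^ m), ((hWw.pow_left m).pow_right m).eq,
              mul_assoc (P.w₁ ^ m), ← mul_assoc (P.w₁ ^ n), ← pow_add, ← pow_add, add_comm m n]
        _ = z ^ c * z ^ c * ((P.w₁ ^ n * W ^ m) * (P.w₁ ^ m * W ^ n)) := by rw [hzz, one_mul]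
        _ = z ^ c * (P.w₁ ^ n * W ^ m) * (z ^ c * (P.w₁ ^ m * W ^ n)) := by
            rw [mul_assoc (z ^ c) (P.w₁ ^ n * W ^ m), ← mul_assoc (P.w₁ ^ n * W ^ m) (z ^ c),
              ← hzc (P.w₁ ^ n * W ^ m)]
            simp only [mul_assoc]
        _ = 1 := h4
    exact (tinj _ _ h3).1
  set A : H := P.w₁ ^ m * A₀ with hA
  have hmT : P.w₁ ^ m ∈ P.tSub := P.tSub.pow_mem P.w_mem.1 m
  have hAN : A ∈ normalizer (P.tSub : Set H) := mul_mem (le_normalizer hmT) hA₀N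
  have hAS : P.Stay A := (h₀.stay_coset (P.t_le hmT)).2 hA₀S
  have hAK : A ∉ P.kSub := fun h => hA₀K (by simpa [hA] using P.kSub.mul_mem (P.kSub.inv_mem (P.t_le hmT)) h)
  have hBA : B * A = z ^ c * A * B := by
    rw [← mul_inv_eq_iff_eq_mul, hA, ← conj_mul, ← conj_pow, hBw, ec]
    calc W ^ m * (z ^ c * (P.w₁ ^ m * W ^ n) * A₀) = z ^ c * ((W ^ m * P.w₁ ^ m) * W ^ n) * A₀ := by
          rw [← mul_assoc (W ^ m), ← mul_assoc (W ^ m), ← hzc (W ^ m)]
          simp only [mul_assoc]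
      _ = z ^ c * (P.w₁ ^ m * A₀) := by
          rw [((hWw.pow_left m).pow_right m).eq, mul_assoc (P.w₁ ^ m), ← pow_add,
            pow_eq_pow_mod _ hWc, hmn, pow_zero, mul_one, mul_assoc]
  -- conjugation by `A` commutes with conjugation by `B`
  have hAB : ∀ x, A * (B * x * B⁻¹) * A⁻¹ = B * (A * x * A⁻¹) * B⁻¹ := fun x => by
    have e : B * (A * x * A⁻¹) * B⁻¹ = (B * A) * x * (B * A)⁻¹ := by group
    have e2 : z ^ c * x * (z ^ c)⁻¹ = x := by rw [hzc, mul_inv_cancel_right]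
    calc A * (B * x * B⁻¹) * A⁻¹ = A * B * (z ^ c * x * (z ^ c)⁻¹) * (A * B)⁻¹ := by rw [e2]; group
      _ = _ := by rw [e, hBA, mul_assoc (z ^ c) A B, hzc (A * B)]; group
  -- the action of `A` on `w₁`
  have sideA : ∀ v ∈ sideOne, ∃ w ∈ sideOne, P.Maps A v w := by
    intro v hv
    obtain ⟨w, hw, e⟩ := h₀.maps_side A (List.mem_append_left _ hv)
    exact ⟨w, ((h₀.maps_sides A).1 v hv w (side_sq w hw).1 e).2 hAS, e⟩
  obtain ⟨s, hs, n', hn', hsw'⟩ := (mem_normalizer_iff.1 hAN P.w₁).1 P.w_mem.1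
  obtain rfl : n' = 0 := fix_two s hs n' hn' fun v hv => by
    obtain ⟨w, hw, ew⟩ := h₀.maps_side A⁻¹ (List.mem_append_right _ hv)
    have hv32 := (side_sq v (List.mem_append_right _ hv)).1
    have ew' : P.Maps A w v := by
      rw [Pairs.Maps, ← ew]; group
    exact h₀.conj_fix hs hn' hsw'.symm w
      ((List.mem_append.1 hw).resolve_left fun h1 => side_disjoint v
        (((h₀.maps_sides A).1 w h1 v hv32 ew').2 hAS) hv) hv32 ew'
  rw [pow_zero, mul_one] at hsw'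
  have hAw : A * P.w₁ * A⁻¹ = P.w₁ ^ s := hsw'.symm
  have hAW : A * W * A⁻¹ = W ^ s := by
    rw [← hBw, hAB, hAw, ← conj_pow]
  obtain ⟨a, ha2, ea⟩ := sideA 2 (by decide)
  have ha32 := (side_sq a (List.mem_append_left _ ha2)).1
  have rotA : ∀ v w, v < 32 → w < 32 → P.Maps A v w → P.Maps A (act 1 v) (act s w) := by
    intro v w hv hw e
    have h1 : P.ph (act 1 v) = P.w₁ * P.ph v * P.w₁⁻¹ := by rw [(P.act_w hv).1, mul_inv_cancel_right]
    have h2 : P.ph (act s w) = P.w₁ ^ s * P.ph w * (P.w₁ ^ s)⁻¹ := by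
      rw [(P.act_w_pow hs hw).1, mul_inv_cancel_right]
    rw [Pairs.Maps, h1, h2, ← hAw, ← e]
    group
  have e4 := rotA 2 a (by norm_num) ha32 ea
  rw [show act 1 2 = 4 by decide +kernel] at e4
  have e6 := rotA 4 (act s a) (by norm_num) (act_lt _ _) e4
  rw [show act 1 4 = 6 by decide +kernel] at e6
  have e6' := P.maps_mul (by norm_num) ha32 (by norm_num) (act_lt _ _) ea e4
  rw [show qmul 2 4 = 6 by decide +kernel] at e6'
  have hom : qmul a (act s a) = act s (act s a) := h₀.maps_unique (qmul_lt _ _) (act_lt _ _) e6' e6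
  obtain rfl : s = 2 := by
    rcases (show s = 0 ∨ s = 1 ∨ s = 2 by omega) with rfl | rfl | rfl
    · rw [pow_zero, conj_eq_one_iff] at hAw
      exact absurd (h₀.inj_w (m := 1) (n := 0) (by simp [hAw])).1 (by norm_num)
    · exfalso
      rw [pow_one] at hAw hAW
      obtain ⟨r, hr, rfl⟩ := rot_central a ha2 hom
      set U := P.w₁ ^ ((2 * r) % 3) * W ^ ((2 * r) % 3) with hU
      have hUT : U ∈ P.tSub := P.tSub.mul_mem (P.tSub.pow_mem P.w_mem.1 _) (P.tSub.pow_mem hWT _)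
      set A₁ := U * A with hA₁
      have hA₁B : ∀ x, A₁ * (B * x * B⁻¹) * A₁⁻¹ = B * (A₁ * x * A₁⁻¹) * B⁻¹ := fun x => by
        have eU : B * U * B⁻¹ = U := hswapT _ _
        have e1 : A₁ * (B * x * B⁻¹) * A₁⁻¹ = U * (A * (B * x * B⁻¹) * A⁻¹) * U⁻¹ := by rw [hA₁]; group
        have e2 : B * (A₁ * x * A₁⁻¹) * B⁻¹ =
            (B * U * B⁻¹) * (B * (A * x * A⁻¹) * B⁻¹) * (B * U * B⁻¹)⁻¹ := by rw [hA₁]; group
        rw [e1, e2, eU, hAB]
      have hWs : ∀ v ∈ sideOne, Commute W (P.ph v) := fun v hv => by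
        show W * P.ph v = P.ph v * W
        rw [hW, (P.act_w_pow he (side_sq v (List.mem_append_left _ hv)).1).2, rot_side' e he v hv]
      have hA2 : Commute A₁ (P.ph 2) := by
        refine mul_inv_eq_iff_eq_mul.1 ?_
        have hr' : (2 * r) % 3 < 3 := Nat.mod_lt _ (by norm_num)
        have hrs : act r 2 ∈ sideOne := ha2
        have h1 : U * P.ph (act r 2) * U⁻¹ = P.ph 2 := by
          rw [hU, mul_inv_eq_iff_eq_mul, mul_assoc, ((hWs _ hrs).pow_left _).eq, ← mul_assoc,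
            (P.act_w_pow hr' ha32).1, rot_back r hr, mul_assoc]
        rw [hA₁, show U * A * P.ph 2 * (U * A)⁻¹ = U * (A * P.ph 2 * A⁻¹) * U⁻¹ by group, ea, h1]
      have hAw' : Commute A₁ P.w₁ :=
        (((Commute.refl _).pow_left _).mul_left (hWw.pow_left _)).mul_left (mul_inv_eq_iff_eq_mul.1 hAw)
      have hA4 : Commute A₁ (P.ph 4) := by
        have e : P.ph 4 = P.w₁ * P.ph 2 * P.w₁⁻¹ := by
          rw [(P.act_w (by norm_num : (2 : ℕ) < 32)).1, mul_inv_cancel_right, show act 1 2 = 4 by decide +kernel]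
        rw [e]
        exact (hAw'.mul_right hA2).mul_right hAw'.inv_right
      obtain ⟨p2, hp2, ep2⟩ := sideB 2 (by decide)
      obtain ⟨p4, hp4, ep4⟩ := sideB 4 (by decide)
      have hp2' := (side_sq p2 (List.mem_append_right _ hp2)).1
      have hp4' := (side_sq p4 (List.mem_append_right _ hp4)).1
      have hcp : ∀ v w, Commute A₁ (P.ph v) → P.Maps B v w → Commute A₁ (P.ph w) := fun v w hv e => by
        rw [← e]
        exact mul_inv_eq_iff_eq_mul.1 (by rw [hA₁B, hv.eq, mul_inv_cancel_right])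
      have hA1z : Commute A₁ z := h₀.central _
      have hsp : ∀ x ∈ [8, 16], Commute A₁ (P.ph x) := by
        intro x hx
        have q2 := hcp 2 p2 hA2 ep2
        have q4 := hcp 4 p4 hA4 ep4
        have h1 : Commute A₁ (P.ph 1) := by rw [P.ph_codes.2.1]; exact hA1z
        have q6 : Commute A₁ (P.ph (qmul p2 p4)) := by rw [P.ph_mul hp2' hp4']; exact q2.mul_right q4
        have h := span_two p2 hp2 p4 hp4 (h₀.maps_anti (by norm_num) hp2' (by norm_num) hp4' ep2 ep4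
          (by decide +kernel)) x hx
        simp only [List.mem_cons, List.not_mem_nil, or_false] at h
        rcases h with rfl | rfl | rfl | rfl | rfl | rfl
        · exact q2
        · exact q4
        · exact q6
        · rw [P.ph_mul (by norm_num) hp2']; exact h1.mul_right q2
        · rw [P.ph_mul (by norm_num) hp4']; exact h1.mul_right q4
        · rw [P.ph_mul (by norm_num) (qmul_lt _ _)]; exact h1.mul_right q6
      have hQ1 : A₁ ∈ P.qSub := h₀.self _ fun y hy => by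
        obtain ⟨v, hv, rfl⟩ := hy
        obtain ⟨-, -, g2, g4, -, g8, g16, -⟩ := P.ph_codes
        exact P.commute_ph hA1z (g2 ▸ hA2) (g4 ▸ hA4) (g8 ▸ hsp 8 (by simp)) (g16 ▸ hsp 16 (by simp)) v
      exact hAK (by simpa [hA₁] using P.kSub.mul_mem (P.kSub.inv_mem (P.t_le hUT)) (P.q_le hQ1))
    · rfl
  -- choice of the first generator
  obtain ⟨u, hu, eu⟩ : ∃ u ∈ [2, 4, 6], P.Maps A u (qmul 1 (act 1 u)) := by
    rcases rot_inverse a ha2 hom with h | h | h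
    · exact ⟨2, by simp, h ▸ ea⟩
    · exact ⟨4, by simp, h ▸ e4⟩
    · exact ⟨6, by simp, h ▸ e6'⟩
  obtain ⟨hu32, hu1, hu1', hanti, husq, huq, hqu, huu, huback, huspan⟩ := rot_spec u hu
  have eu' : P.Maps A (act 1 u) (qmul 1 u) := huback ▸ rotA u _ hu32 (qmul_lt _ _) eu
  obtain ⟨p, hp, ep⟩ := sideB u hu1
  obtain ⟨q, hq, eq'⟩ := sideB (act 1 u) hu1'
  have hp32 := (side_sq p (List.mem_append_right _ hp)).1
  have hq32 := (side_sq q (List.mem_append_right _ hq)).1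
  have hu'32 := act_lt 1 u
  obtain ⟨g0, g1, -⟩ := P.ph_codes
  have hij : qmul (act 1 u) (act 1 u) = 1 := huq
  have r1 : P.ph u * P.ph u = z := by rw [← P.ph_mul hu32 hu32, husq, g1]
  have r2 : P.ph (act 1 u) * P.ph (act 1 u) = z := by rw [← P.ph_mul hu'32 hu'32, hij, g1]
  have r3 : P.ph (act 1 u) * P.ph u = z * P.ph u * P.ph (act 1 u) := by
    rw [← P.ph_mul hu'32 hu32, hqu, P.ph_mul (qmul_lt _ _) hu'32, P.ph_mul (by norm_num) hu32, g1]
  have r4 : P.w₁ * P.ph (act 1 u) = P.ph u * P.ph (act 1 u) * P.w₁ := by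
    rw [(P.act_w hu'32).1, huu, P.ph_mul hu32 hu'32]
  have conjB : ∀ x y : H, B * (x * y) * B⁻¹ = (B * x * B⁻¹) * (B * y * B⁻¹) := fun x y => conj_mul.symm
  have bz : B * z * B⁻¹ = z := by rw [(h₀.central B).eq, mul_inv_cancel_right]
  have hcr : ∀ v ∈ sideOne, ∀ w ∈ sideTwo, Commute (P.ph w) (P.ph v) := fun v hv w hw => by
    have := side_cross v hv w hw
    rw [comm, beq_iff_eq] at this
    show P.ph w * P.ph v = P.ph v * P.ph w
    rw [← P.ph_mul (side_sq w (List.mem_append_right _ hw)).1 (side_sq v (List.mem_append_left _ hv)).1,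
      ← P.ph_mul (side_sq v (List.mem_append_left _ hv)).1 (side_sq w (List.mem_append_right _ hw)).1, this]
  have hw1c : ∀ w ∈ sideTwo, Commute P.w₁ (P.ph w) := fun w hw => by
    show P.w₁ * P.ph w = P.ph w * P.w₁
    rw [(P.act_w (side_sq w (List.mem_append_right _ hw)).1).1, rot_side w hw]
  have hWs : ∀ v ∈ sideOne, Commute W (P.ph v) := fun v hv => by
    show W * P.ph v = P.ph v * W
    rw [hW, (P.act_w_pow he (side_sq v (List.mem_append_left _ hv)).1).2, rot_side' e he v hv]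
  have ep' : B * P.ph p * B⁻¹ = P.ph u := by rw [← ep]; exact hBz _
  have eq'' : B * P.ph q * B⁻¹ = P.ph (act 1 u) := by rw [← eq']; exact hBz _
  have hAA : A * A ∈ P.kSub := h₀.sq_mem h4 A
  obtain ⟨cA, hcA, y₁, hy₁, y₂, hy₂, hAA'⟩ := h₀.norm_k hAA (mul_mem hAN hAN)
  obtain ⟨y, hy, y', hy', ey⟩ := tword _ ⟨y₁, hy₁, y₂, hy₂, rfl⟩
  rw [ey] at hAA'
  have hAsq : A * A = z ^ cA := by
    have h1 : A * (A * A) * A⁻¹ = A * A := by group
    rw [hAA', ← conj_mul, ← conj_mul, ← conj_pow, ← conj_pow, ← conj_pow, hAw, hAW,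
      show A * z * A⁻¹ = z by rw [(h₀.central A).eq, mul_inv_cancel_right]] at h1
    have h2 := mul_left_cancel h1
    rw [← pow_mul, ← pow_mul] at h2
    have h3 : P.w₁ ^ y * W ^ y' = 1 := by
      rw [two_mul y, two_mul y', pow_add, pow_add] at h2
      have : P.w₁ ^ y * W ^ y' * (P.w₁ ^ y * W ^ y') = P.w₁ ^ y * W ^ y' := by
        conv_rhs => rw [← h2]
        simp only [mul_assoc]
        rw [← mul_assoc (W ^ y'), ((hWw.pow_left y').pow_right y).eq, mul_assoc]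
      exact mul_eq_right.1 this
    rw [hAA', h3, mul_one]
  let Γ : Gens (cA + 2 * c + 4 * cB) z :=
    { i₁ := P.ph u, j₁ := P.ph (act 1 u), i₂ := P.ph p, j₂ := P.ph q, w₁ := P.w₁, w₂ := W
      a := A, b := B
      z_sq := P.z_sq, z_i₁ := (h₀.central _).symm, z_j₁ := (h₀.central _).symm
      z_i₂ := (h₀.central _).symm, z_j₂ := (h₀.central _).symm, z_w₁ := (h₀.central _).symm
      z_w₂ := (h₀.central _).symm, z_a := (h₀.central _).symm, z_b := (h₀.central _).symm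
      i₁_sq := r1, j₁_sq := r2, j₁_i₁ := r3
      i₂_sq := by rw [← ep, ← conjB, r1, bz]
      j₂_sq := by rw [← eq', ← conjB, r2, bz]
      j₂_i₂ := by rw [← ep, ← eq', ← conjB, r3, conjB, conjB, bz]
      i₂_i₁ := hcr u hu1 p hp, i₂_j₁ := hcr _ hu1' p hp, j₂_i₁ := hcr u hu1 q hq
      j₂_j₁ := hcr _ hu1' q hq
      w₁_cube := P.w₁_cube, w₂_cube := hWc, w₂_w₁ := hWw
      w₁_i₁ := (P.act_w hu32).1, w₁_j₁ := r4, w₁_i₂ := hw1c p hp, w₁_j₂ := hw1c q hq
      w₂_i₂ := by rw [← ep, ← eq', ← hBw, ← conjB, (P.act_w hu32).1, conjB]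
      w₂_j₂ := by rw [← ep, ← eq', ← hBw, ← conjB, r4, conjB, conjB]
      w₂_i₁ := hWs u hu1, w₂_j₁ := hWs _ hu1'
      a_i₁ := by rw [← mul_inv_eq_iff_eq_mul, eu, P.ph_mul (by norm_num) hu'32, g1]
      a_j₁ := by rw [← mul_inv_eq_iff_eq_mul, eu', P.ph_mul (by norm_num) hu32, g1]
      a_i₂ := by rw [← mul_inv_eq_iff_eq_mul, ← ep, hAB, eu, P.ph_mul (by norm_num) hu'32, g1, conjB, bz, eq']
      a_j₂ := by rw [← mul_inv_eq_iff_eq_mul, ← eq', hAB, eu', P.ph_mul (by norm_num) hu32, g1, conjB, bz, ep]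
      a_w₁ := mul_inv_eq_iff_eq_mul.1 hAw, a_w₂ := mul_inv_eq_iff_eq_mul.1 hAW
      b_i₁ := mul_inv_eq_iff_eq_mul.1 ep, b_j₁ := mul_inv_eq_iff_eq_mul.1 eq'
      b_i₂ := mul_inv_eq_iff_eq_mul.1 ep', b_j₂ := mul_inv_eq_iff_eq_mul.1 eq''
      b_w₁ := mul_inv_eq_iff_eq_mul.1 hBw, b_w₂ := mul_inv_eq_iff_eq_mul.1 hBW
      a_sq := by rw [hAsq, show (cA + 2 * c + 4 * cB) % 2 = cA by omega]
      b_a := by rw [hBA, show (cA + 2 * c + 4 * cB) / 2 % 2 = c by omega]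
      b_sq := by rw [hBB, show (cA + 2 * c + 4 * cB) / 4 % 2 = cB by omega] }
  have hk : cA + 2 * c + 4 * cB < 8 := by omega
  refine ⟨_, hk, Γ, ?_⟩
  obtain ⟨e0, e1, e2, e4', e8, e16, -, e32, e96, e288, e576⟩ := Γ.el_values
  let S : Submonoid H :=
    { carrier := {x | ∃ g < 1152, Γ.el g = x}
      one_mem' := ⟨0, by norm_num, e0⟩
      mul_mem' := by
        rintro _ _ ⟨g, hg, rfl⟩ ⟨g', hg', rfl⟩
        exact ⟨_, mulK_lt _ g g', Γ.el_mul hk hg hg'⟩ }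
  let E : Subgroup H :=
    { S with
      inv_mem' := fun {x} hx => by
        have h : x⁻¹ = x ^ (orderOf x - 1) := by
          refine inv_eq_of_mul_eq_one_right ?_
          rw [← pow_succ', show orderOf x - 1 + 1 = orderOf x by have := orderOf_pos x; omega,
            pow_orderOf_eq_one]
        rw [h]; exact S.pow_mem hx _ }
  have hzE : z ∈ E := ⟨1, by norm_num, e1⟩
  have huE : P.ph u ∈ E := ⟨2, by norm_num, e2⟩
  have hu'E : P.ph (act 1 u) ∈ E := ⟨4, by norm_num, e4'⟩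
  have hpE : P.ph p ∈ E := ⟨8, by norm_num, e8⟩
  have hqE : P.ph q ∈ E := ⟨16, by norm_num, e16⟩
  have hspan : ∀ (S : Subgroup H), z ∈ S → ∀ s t, s < 32 → t < 32 → P.ph s ∈ S → P.ph t ∈ S →
      ∀ x ∈ [s, t, qmul s t, qmul 1 s, qmul 1 t, qmul 1 (qmul s t)], P.ph x ∈ S := by
    intro S hz s t hs ht hsS htS x hx
    have h1 : P.ph 1 ∈ S := g1.symm ▸ hz
    have h6 : P.ph (qmul s t) ∈ S := by rw [P.ph_mul hs ht]; exact S.mul_mem hsS htS
    simp only [List.mem_cons, List.not_mem_nil, or_false] at hx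
    rcases hx with rfl | rfl | rfl | rfl | rfl | rfl
    · exact hsS
    · exact htS
    · exact h6
    · rw [P.ph_mul (by norm_num) hs]; exact S.mul_mem h1 hsS
    · rw [P.ph_mul (by norm_num) ht]; exact S.mul_mem h1 htS
    · rw [P.ph_mul (by norm_num) (qmul_lt _ _)]; exact S.mul_mem h1 h6
  have hpq : anti p q = true := by
    have h := h₀.maps_anti hu32 hp32 hu'32 hq32 ep eq' (by
      have f : ∀ u ∈ [2, 4, 6], anti u (act 1 u) = true := by decide +kernel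
      exact f u hu)
    exact h
  have hQall : ∀ (S : Subgroup H), z ∈ S → P.ph u ∈ S → P.ph (act 1 u) ∈ S → P.ph p ∈ S → P.ph q ∈ S →
      ∀ v, P.ph v ∈ S := by
    intro S hz h1 h2 h3 h4' v
    obtain ⟨-, -, g2, g4, -, g8, g16, -⟩ := P.ph_codes
    exact P.ph_mem_of hz (g2 ▸ hspan S hz u _ hu32 hu'32 h1 h2 2 (huspan 2 (by simp)))
      (g4 ▸ hspan S hz u _ hu32 hu'32 h1 h2 4 (huspan 4 (by simp)))
      (g8 ▸ hspan S hz p q hp32 hq32 h3 h4' 8 (span_two p hp q hq hpq 8 (by simp)))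
      (g16 ▸ hspan S hz p q hp32 hq32 h3 h4' 16 (span_two p hp q hq hpq 16 (by simp))) v
  have hKE : P.kSub ≤ E := by
    rintro _ ⟨v, hv, m', hm', n', hn', rfl⟩
    refine E.mul_mem (hQall E hzE huE hu'E hpE hqE v) (E.mul_mem (E.pow_mem ⟨32, by norm_num, e32⟩ _) ?_)
    refine E.pow_mem ?_ _
    rw [← hw2e]
    exact E.pow_mem ⟨96, by norm_num, e96⟩ _
  refine ⟨fun h => ?_, le_antisymm ?_ ?_⟩
  · have hAE : A ∈ E := ⟨288, by norm_num, e288⟩
    have hBE : B ∈ E := ⟨576, by norm_num, e576⟩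
    have hABK : A⁻¹ * B ∉ P.kSub := fun h => hBS (by
      have := (h₀.stay_mul (g := A) (h := A⁻¹ * B)).2 (iff_of_true hAS (h₀.stay_kSub h))
      rwa [mul_inv_cancel_left] at this)
    let f : Fin 3 × P.kSub → E := fun x =>
      ⟨![1, A, B] x.1 * (x.2 : H), E.mul_mem (by
        obtain ⟨i, x⟩ := x
        fin_cases i <;> simp [hAE, hBE]) (hKE x.2.2)⟩
    have hf : Function.Injective f := by
      rintro ⟨i, x⟩ ⟨j, x'⟩ h
      have h' : ![1, A, B] i * (x : H) = ![1, A, B] j * (x' : H) := congrArg Subtype.val h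
      have hK : (![1, A, B] i)⁻¹ * ![1, A, B] j ∈ P.kSub := by
        have e : (![1, A, B] i)⁻¹ * ![1, A, B] j = (x : H) * (x' : H)⁻¹ := by
          rw [eq_mul_inv_iff_mul_eq, mul_assoc, ← h', inv_mul_cancel_left]
        rw [e]; exact P.kSub.mul_mem x.2 (P.kSub.inv_mem x'.2)
      have hK' := P.kSub.inv_mem hK
      rw [mul_inv_rev, inv_inv] at hK'
      obtain rfl : i = j := by
        fin_cases i <;> fin_cases j <;> first
          | rfl
          | exact absurd (by simpa using hK) hAK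
          | exact absurd (by simpa using hK') hAK
          | exact absurd (by simpa using hK) hBK
          | exact absurd (by simpa using hK') hBK
          | exact absurd (by simpa using hK) hABK
          | exact absurd (by simpa using hK') hABK
      rw [Subtype.ext (mul_left_cancel h')]
    have hcard := Nat.card_le_card_of_injective f hf
    rw [Nat.card_prod, h₀.card_kSub, Nat.card_fin] at hcard
    have hdvd := E.card_subgroup_dvd_card
    rw [h₀.card] at hdvd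
    have htop : E = ⊤ := by
      refine eq_top_of_card_eq _ ?_
      rw [h₀.card]
      obtain ⟨d, hd⟩ := hdvd
      have : d ≤ 1 := by
        by_contra hd'
        push Not at hd'
        nlinarith
      interval_cases d <;> omega
    exact (htop ▸ mem_top h : h ∈ E)
  · rintro _ ⟨v, _, rfl⟩
    exact Γ.toPairs.ph_mem_of (S := P.qSub) ⟨1, by norm_num, g1⟩ (P.ph_mem u hu32) (P.ph_mem _ hu'32)
      (P.ph_mem p hp32) (P.ph_mem q hq32) v
  · rintro _ ⟨v, _, rfl⟩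
    obtain ⟨-, d1, d2, d4, -, d8, d16, -⟩ := Γ.toPairs.ph_codes
    exact hQall Γ.toPairs.qSub ⟨1, by norm_num, d1⟩ ⟨2, by norm_num, d2⟩ ⟨4, by norm_num, d4⟩ ⟨8, by norm_num, d8⟩
      ⟨16, by norm_num, d16⟩ v

end Hyp

end Cfsg.Agent.U43
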