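import Cfsg.Agent.Lib.U43.Model

/-!
The automorphism of the centraliser of the four-group `⟨z, v⟩` in the model induced by the element
exchanging `z` and `v`.
-/

set_option autoImplicit false

namespace Cfsg.Agent.U43

/-- The codes of the elements commuting with `v`. -/
def rCodes : List ℕ := [0, 1, 2, 3, 8, 9, 10, 11, 20, 21, 22, 23, 28, 29, 30, 31, 544, 545, 546, 547, 552, 553, 554, 555, 564, 565, 566, 567, 572, 573, 574, 575, 576, 577, 578, 579, 584, 585, 586, 587, 596, 597, 598, 599, 604, 605, 606, 607, 1120, 1121, 1122, 1123, 1128, 1129, 1130, 1131, 1140, 1141, 1142, 1143, 1148, 1149, 1150, 1151]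

/-- The images of these codes under the automorphism exchanging `z` and `v`. -/
def phiImages : List ℕ := [0, 10, 566, 573, 572, 567, 1, 11, 576, 586, 1142, 1149, 1148, 1143, 577, 587, 1140, 1150, 584, 579, 578, 585, 1141, 1151, 565, 575, 9, 2, 3, 8, 564, 574, 30, 20, 546, 553, 552, 547, 31, 21, 606, 596, 1122, 1129, 1128, 1123, 607, 597, 1120, 1130, 599, 604, 605, 598, 1121, 1131, 545, 555, 22, 29, 28, 23, 544, 554]

/-- The automorphism exchanging `z` and `v`. -/
def phiC (x : ℕ) : ℕ := phiImages.getD (rCodes.idxOf x) 0

/-- The code of the square of the exchanging element. -/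
def sqC : ℕ := 1120

theorem rCodes_eq : rCodes = (List.range 1152).filter (fun g => Model.mul g Model.vc == Model.mul Model.vc g) := by
  decide +kernel

theorem phi_spec : (rCodes.all fun x => rCodes.contains (phiC x) &&
    phiC (phiC x) == Model.mul (Model.mul sqC x) (Model.inv sqC) &&
    rCodes.all fun y => phiC (Model.mul x y) == Model.mul (phiC x) (phiC y)) = true := by
  decide +kernel

theorem phi_values : phiC Model.zc = Model.vc ∧ phiC Model.vc = Model.zc ∧ phiC sqC = sqC := by
  decide +kernel

end Cfsg.Agent.U43
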