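import Cfsg.Agent.Lib.U43.Setup

/-!
Conjugation on the extraspecial group: its two quaternion subgroups are preserved or exchanged.
-/

set_option autoImplicit false
set_option maxRecDepth 20000

namespace Cfsg.Agent.U43

open Model Subgroup

universe u

/-- The codes of order four in the first quaternion group. -/
def sideOne : List ℕ := [2, 3, 4, 5, 6, 7]

/-- The codes of order four in the second quaternion group. -/
def sideTwo : List ℕ := [8, 9, 16, 17, 24, 25]

/-- Two codes anticommute. -/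
def anti (a b : ℕ) : Bool := qmul a b == qmul 1 (qmul b a)

/-- Two codes commute. -/
def comm (a b : ℕ) : Bool := qmul a b == qmul b a

theorem code_four : ∀ v < 32, qmul v v = 1 → v ∈ sideOne ∨ v ∈ sideTwo := by decide +kernel

theorem side_sq : ∀ v ∈ sideOne ++ sideTwo, v < 32 ∧ qmul v v = 1 := by decide +kernel

theorem side_anti : ∀ a ∈ sideOne ++ sideTwo, ∀ b ∈ sideOne ++ sideTwo, anti a b = true →
    (a ∈ sideOne ↔ b ∈ sideOne) := by decide +kernel

theorem side_base : ∀ x ∈ sideOne, x ∈ [2, 3] ∨ anti 2 x = true := by decide +kernel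

theorem side_other : ∀ a ∈ sideOne ++ sideTwo, ∀ b ∈ sideOne ++ sideTwo, anti a b = true →
    ∀ c ∈ sideOne ++ sideTwo, comm a c = true → comm b c = true → (c ∈ sideOne ↔ a ∉ sideOne) := by
  decide +kernel

theorem side_cross : ∀ a ∈ sideOne, ∀ b ∈ sideTwo, comm a b = true := by decide +kernel

theorem side_disjoint : ∀ a ∈ sideOne, a ∉ sideTwo := by decide +kernel

theorem side_flip : ∀ a ∈ sideOne, qmul 1 a ∈ sideOne := by decide +kernel

/-- The classes of the images under an element fixing `i₁ * i₂` and both quaternion groups. -/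
theorem stay_forms : ∀ a ∈ [2, 3], ∀ b ∈ sideOne, ∀ c ∈ sideTwo, ∀ d ∈ sideTwo,
    qmul a c = 10 → anti a b = true → anti c d = true → qmul b d ∈ [20, 21, 30, 31] →
    c ∈ [8, 9] ∧ ((b ∈ [4, 5] ∧ d ∈ [16, 17]) ∨ (b ∈ [6, 7] ∧ d ∈ [24, 25])) := by
  decide +kernel

theorem stay_compose : ∀ a ∈ [2, 3], ∀ b ∈ [6, 7], ∀ c ∈ [8, 9], ∀ d ∈ [24, 25], ∀ e ∈ [0, 1],
    qmul e (qmul a b) ∈ [4, 5] ∧ qmul e (qmul c d) ∈ [16, 17] := by
  decide +kernel

theorem inner_forms : ∀ a ∈ [2, 3], ∀ b ∈ [4, 5], ∀ c ∈ [8, 9], ∀ d ∈ [16, 17], ∃ q < 32,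
    qmul q 2 = qmul a q ∧ qmul q 4 = qmul b q ∧ qmul q 8 = qmul c q ∧ qmul q 16 = qmul d q := by
  decide +kernel

theorem conj_ten : ∀ v < 32, qmul v v = 0 → v = 0 ∨ v = 1 ∨
    ∃ a < 32, ∃ m < 3, ∃ n < 3, qmul a (act m (act (3 * n) v)) = qmul 10 a := by
  decide +kernel

theorem qmul_one_iff : ∀ a < 32, ∀ b < 32, ∀ c < 32, qmul a c = 0 → qmul b c = 0 → a = b := by
  decide +kernel

variable {H : Type u} [Group H] {z : H}

namespace Pairs

variable (P : Pairs z)

/-- Conjugation by `h` takes the code `v` to the code `w`. -/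
def Maps (h : H) (v w : ℕ) : Prop := h * P.ph v * h⁻¹ = P.ph w

/-- The element preserves the two quaternion groups. -/
def Stay (h : H) : Prop := ∃ w ∈ sideOne, P.Maps h 2 w

theorem maps_mul {h : H} {a a' b b' : ℕ} (ha : a < 32) (ha' : a' < 32) (hb : b < 32) (hb' : b' < 32)
    (e : P.Maps h a a') (e' : P.Maps h b b') : P.Maps h (qmul a b) (qmul a' b') := by
  rw [Maps, P.ph_mul ha hb, P.ph_mul ha' hb', ← e, ← e', conj_mul]

theorem maps_comp {g h : H} {a b c : ℕ} (e : P.Maps h a b) (e' : P.Maps g b c) : P.Maps (g * h) a c := by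
  rw [Maps, ← e', ← e]
  group

theorem commute_ph {h : H} (hz : Commute h z) (h₁ : Commute h P.i₁) (h₂ : Commute h P.j₁)
    (h₃ : Commute h P.i₂) (h₄ : Commute h P.j₂) (v : ℕ) : Commute h (P.ph v) :=
  ((((hz.pow_right _).mul_right (h₁.pow_right _)).mul_right (h₂.pow_right _)).mul_right
    (h₃.pow_right _)).mul_right (h₄.pow_right _)

theorem maps_self {a b : ℕ} (ha : a < 32) (hb : b < 32) {c : ℕ} (hc : c < 32)
    (e : qmul a b = qmul c a) : P.Maps (P.ph a) b c := by
  rw [Maps, mul_inv_eq_iff_eq_mul, ← P.ph_mul ha hb, ← P.ph_mul hc ha, e]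

end Pairs

namespace Hyp

variable {P : Pairs z} (h₀ : Hyp z P)
include h₀

theorem ph_inj {a b : ℕ} (ha : a < 32) (hb : b < 32) (e : P.ph a = P.ph b) : a = b := by
  obtain ⟨c, hc, hce⟩ := P.qSub.inv_mem (P.ph_mem b hb)
  have h0 : ∀ x < 32, P.ph (qmul x c) = 1 → qmul x c = 0 := fun x _ hx =>
    (h₀.inj _ (qmul_lt x c) 0 (by norm_num) 0 (by norm_num) (by simp [hx])).1
  exact qmul_one_iff a ha b hb c hc (h0 a ha (by rw [P.ph_mul ha hc, hce, e, mul_inv_cancel]))
    (h0 b hb (by rw [P.ph_mul hb hc, hce, mul_inv_cancel]))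

theorem exists_maps (h : H) {v : ℕ} (hv : v < 32) : ∃ w < 32, P.Maps h v w := by
  obtain ⟨w, hw, e⟩ := h₀.normalQ.conj_mem _ (P.ph_mem v hv) h
  exact ⟨w, hw, e.symm⟩

theorem maps_z (h : H) : P.Maps h 1 1 := by
  show h * P.ph 1 * h⁻¹ = P.ph 1
  rw [P.ph_codes.2.1, (h₀.central h).eq, mul_assoc, mul_inv_cancel, mul_one]

theorem maps_unique {h : H} {v w w' : ℕ} (hw : w < 32) (hw' : w' < 32) (e : P.Maps h v w)
    (e' : P.Maps h v w') : w = w' := h₀.ph_inj hw hw' (e.symm.trans e')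

theorem maps_anti {h : H} {a a' b b' : ℕ} (ha : a < 32) (ha' : a' < 32) (hb : b < 32) (hb' : b' < 32)
    (e : P.Maps h a a') (e' : P.Maps h b b') (hab : anti a b = true) : anti a' b' = true := by
  rw [anti, beq_iff_eq] at hab ⊢
  refine h₀.maps_unique (qmul_lt _ _) (qmul_lt _ _) (P.maps_mul ha ha' hb hb' e e') ?_
  rw [hab]
  exact P.maps_mul (by norm_num) (by norm_num) (qmul_lt _ _) (qmul_lt _ _) (h₀.maps_z h)
    (P.maps_mul hb hb' ha ha' e' e)

theorem maps_comm {h : H} {a a' b b' : ℕ} (ha : a < 32) (ha' : a' < 32) (hb : b < 32) (hb' : b' < 32)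
    (e : P.Maps h a a') (e' : P.Maps h b b') (hab : comm a b = true) : comm a' b' = true := by
  rw [comm, beq_iff_eq] at hab ⊢
  refine h₀.maps_unique (qmul_lt _ _) (qmul_lt _ _) (P.maps_mul ha ha' hb hb' e e') ?_
  rw [hab]
  exact P.maps_mul hb hb' ha ha' e' e

theorem maps_side (h : H) {v : ℕ} (hv : v ∈ sideOne ++ sideTwo) :
    ∃ w ∈ sideOne ++ sideTwo, P.Maps h v w := by
  obtain ⟨hv32, hvv⟩ := side_sq v hv
  obtain ⟨w, hw, e⟩ := h₀.exists_maps h hv32
  have := P.maps_mul hv32 hw hv32 hw e e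
  rw [hvv] at this
  exact ⟨w, List.mem_append.2 (code_four w hw
    (h₀.maps_unique (qmul_lt _ _) (by norm_num) this (h₀.maps_z h))), e⟩

/-- Both sides are preserved or both are exchanged. -/
theorem maps_sides (h : H) :
    (∀ v ∈ sideOne, ∀ w < 32, P.Maps h v w → (w ∈ sideOne ↔ P.Stay h)) ∧
    ∀ v ∈ sideTwo, ∀ w < 32, P.Maps h v w → (w ∈ sideTwo ↔ P.Stay h) := by
  obtain ⟨a, ha, ea⟩ := h₀.maps_side h (v := 2) (by decide)
  obtain ⟨b, hb, eb⟩ := h₀.maps_side h (v := 4) (by decide)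
  obtain ⟨ha32, -⟩ := side_sq a ha
  obtain ⟨hb32, -⟩ := side_sq b hb
  have hst : P.Stay h ↔ a ∈ sideOne :=
    ⟨fun ⟨w, hw, ew⟩ => h₀.maps_unique (side_sq w (List.mem_append_left _ hw)).1 ha32 ew ea ▸ hw,
      fun hw => ⟨a, hw, ea⟩⟩
  have hab : anti a b = true := h₀.maps_anti (by norm_num) ha32 (by norm_num) hb32 ea eb (by decide +kernel)
  have mem : ∀ v ∈ sideOne ++ sideTwo, ∀ w < 32, P.Maps h v w → w ∈ sideOne ++ sideTwo := by
    intro v hv w hw e
    obtain ⟨w', hw', e'⟩ := h₀.maps_side h hv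
    exact h₀.maps_unique (side_sq w' hw').1 hw e' e ▸ hw'
  refine ⟨fun v hv w hw e => ?_, fun v hv w hw e => ?_⟩
  · have hw' := mem v (List.mem_append_left _ hv) w hw e
    rw [hst]
    rcases side_base v hv with hv' | hv'
    · simp only [List.mem_cons, List.not_mem_nil, or_false] at hv'
      rcases hv' with rfl | rfl
      · rw [h₀.maps_unique hw ha32 e ea]
      · have e3 := P.maps_mul (by norm_num) (by norm_num) (by norm_num) ha32 (h₀.maps_z h) ea
        rw [show qmul 1 2 = 3 by decide +kernel] at e3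
        rw [h₀.maps_unique hw (qmul_lt _ _) e e3]
        refine ⟨fun h1 => ?_, fun h1 => side_flip a h1⟩
        have := side_flip _ h1
        rwa [show qmul 1 (qmul 1 a) = a by
          have f : ∀ a < 32, qmul 1 (qmul 1 a) = a := by decide +kernel
          exact f a ha32] at this
    · have hv32 := (side_sq v (List.mem_append_left _ hv)).1
      exact (side_anti a ha w hw' (h₀.maps_anti (by norm_num) ha32 hv32 hw ea e hv')).symm
  · have hw' := mem v (List.mem_append_right _ hv) w hw e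
    have hv32 := (side_sq v (List.mem_append_right _ hv)).1
    have hc : ∀ u ∈ [2, 4], comm u v = true := fun u hu =>
      side_cross u (by simp only [List.mem_cons, List.not_mem_nil, or_false] at hu; rcases hu with rfl | rfl <;> decide) v hv
    have := side_other a ha b hb hab w hw'
      (h₀.maps_comm (by norm_num) ha32 hv32 hw ea e (hc 2 (by simp)))
      (h₀.maps_comm (by norm_num) hb32 hv32 hw eb e (hc 4 (by simp)))
    rw [hst]
    rcases List.mem_append.1 hw' with h1 | h1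
    · exact ⟨fun h2 => absurd h2 (side_disjoint w h1), fun h2 => absurd h2 (this.1 h1)⟩
    · refine ⟨fun _ => ?_, fun _ => h1⟩
      by_contra hn
      exact side_disjoint w (this.2 hn) h1

theorem stay_mul {g h : H} : P.Stay (g * h) ↔ (P.Stay g ↔ P.Stay h) := by
  obtain ⟨a, ha, ea⟩ := h₀.maps_side h (v := 2) (by decide)
  obtain ⟨b, hb, eb⟩ := h₀.maps_side g ha
  have ha32 := (side_sq a ha).1
  have hb32 := (side_sq b hb).1
  have h1 := (h₀.maps_sides (g * h)).1 2 (by decide) b hb32 (P.maps_comp ea eb)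
  have h2 := (h₀.maps_sides h).1 2 (by decide) a ha32 ea
  rcases List.mem_append.1 ha with ha1 | ha1
  · have h3 := (h₀.maps_sides g).1 a ha1 b hb32 eb
    tauto
  · have h3 := (h₀.maps_sides g).2 a ha1 b hb32 eb
    have h4 : a ∉ sideOne := fun h => side_disjoint a h ha1
    have h5 : b ∈ sideTwo ↔ b ∉ sideOne :=
      ⟨fun h h' => side_disjoint b h' h, fun h => (List.mem_append.1 hb).resolve_left h⟩
    tauto

/-- The product of the factors preserves the sides. -/
theorem stay_kSub {k : H} (hk : k ∈ P.kSub) : P.Stay k := by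
  obtain ⟨v, hv, m, hm, n, hn, rfl⟩ := hk
  have key : ∀ v < 32, ∀ m < 3, ∀ n < 3, ∃ w ∈ sideOne,
      qmul v (act m (act (3 * n) 2)) = qmul w v := by decide +kernel
  obtain ⟨w, hw, e⟩ := key v hv m hm n hn
  refine ⟨w, hw, P.maps_comp (b := act m (act (3 * n) 2)) ?_
    (P.maps_self hv (act_lt _ _) (side_sq w (List.mem_append_left _ hw)).1 e)⟩
  rw [Pairs.Maps, mul_inv_eq_iff_eq_mul, mul_assoc, (P.act_w_pow hn (by norm_num)).2, ← mul_assoc,
    (P.act_w_pow hm (act_lt _ _)).1, mul_assoc]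

/-- The two factors have 288 products. -/
theorem card_kSub [Finite H] : Nat.card P.kSub = 288 := by
  let f : Fin 32 × Fin 3 × Fin 3 → P.kSub := fun x =>
    ⟨P.ph x.1 * (P.w₁ ^ (x.2.1 : ℕ) * P.w₂ ^ (x.2.2 : ℕ)), x.1, x.1.2, x.2.1, x.2.1.2, x.2.2, x.2.2.2, rfl⟩
  have hf : Function.Bijective f := by
    refine ⟨?_, ?_⟩
    · rintro ⟨v, m, n⟩ ⟨v', m', n'⟩ e
      have e' : P.ph v * (P.w₁ ^ (m : ℕ) * P.w₂ ^ (n : ℕ)) = P.ph v' * (P.w₁ ^ (m' : ℕ) * P.w₂ ^ (n' : ℕ)) :=
        congrArg Subtype.val e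
      obtain ⟨b, hb, hbv⟩ := P.qSub.inv_mem (P.ph_mem v' v'.2)
      have h1 : P.ph (qmul b v) * (P.w₁ ^ ((m + 2 * (m' : ℕ)) % 3) * P.w₂ ^ ((n + 2 * (n' : ℕ)) % 3)) = 1 := by
        have hc : Commute (P.w₂ ^ (n : ℕ)) (P.w₁ ^ (2 * (m' : ℕ))) := (P.w₂_w₁.pow_left _).pow_right _
        rw [← pow_eq_pow_mod _ P.w₁_cube, ← pow_eq_pow_mod _ P.w₂_cube, P.ph_mul hb v.2, hbv, pow_add, pow_add]
        calc (P.ph v')⁻¹ * P.ph v * (P.w₁ ^ (m : ℕ) * P.w₁ ^ (2 * (m' : ℕ)) * (P.w₂ ^ (n : ℕ) * P.w₂ ^ (2 * (n' : ℕ))))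
            = (P.ph v')⁻¹ * (P.ph v * (P.w₁ ^ (m : ℕ) * P.w₂ ^ (n : ℕ))) *
              (P.w₁ ^ (2 * (m' : ℕ)) * P.w₂ ^ (2 * (n' : ℕ))) := by
              simp only [mul_assoc]
              rw [← mul_assoc (P.w₂ ^ (n : ℕ)), hc.eq]
              simp only [mul_assoc]
          _ = P.w₁ ^ (m' : ℕ) * (P.w₂ ^ (n' : ℕ) * P.w₁ ^ (2 * (m' : ℕ))) * P.w₂ ^ (2 * (n' : ℕ)) := by
              rw [e', inv_mul_cancel_left]; simp only [mul_assoc]
          _ = P.w₁ ^ (3 * (m' : ℕ)) * P.w₂ ^ (3 * (n' : ℕ)) := by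
              rw [((P.w₂_w₁.pow_left _).pow_right _).eq, show 3 * (m' : ℕ) = m' + 2 * m' by ring,
                show 3 * (n' : ℕ) = n' + 2 * n' by ring, pow_add, pow_add]
              simp only [mul_assoc]
          _ = 1 := by rw [pow_mul, pow_mul, P.w₁_cube, P.w₂_cube, one_pow, one_pow, one_mul]
      obtain ⟨r1, r2, r3⟩ := h₀.inj _ (qmul_lt _ _) _ (Nat.mod_lt _ (by norm_num)) _ (Nat.mod_lt _ (by norm_num)) h1
      have hm := m.2; have hm' := m'.2; have hn := n.2; have hn' := n'.2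
      obtain rfl : m = m' := Fin.ext (by omega)
      obtain rfl : n = n' := Fin.ext (by omega)
      have h2 := mul_right_cancel e'
      rw [Fin.ext (h₀.ph_inj v.2 v'.2 h2)]
    · rintro ⟨_, v, hv, m, hm, n, hn, rfl⟩
      exact ⟨(⟨v, hv⟩, ⟨m, hm⟩, ⟨n, hn⟩), rfl⟩
  rw [← Nat.card_eq_of_bijective f hf]
  simp

end Hyp

/-- What the conjugates of `z` give for the centralizer of `v = i₁ * i₂`. -/
def Four (P : Pairs z) : Prop :=
  ∀ r, Commute r (P.ph 10) → r * r ∈ P.qSub ∧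
    ∀ a < 32, comm a 10 = true → ∃ d ∈ [0, 1, 10, 11], P.Maps r a (qmul a d)

namespace Hyp

variable {P : Pairs z} (h₀ : Hyp z P)
include h₀

/-- The involutions other than `z` form one orbit under the factors. -/
theorem exists_conj_ten (h : H) : ∃ k ∈ P.kSub, Commute (k * h) (P.ph 10) := by
  obtain ⟨w, hw, e⟩ := h₀.exists_maps h (v := 10) (by norm_num)
  have e2 := P.maps_mul (by norm_num) hw (by norm_num) hw e e
  rw [show qmul 10 10 = 0 by decide +kernel] at e2
  have hne : ∀ b < 32, P.Maps h 10 b → b ≠ 0 ∧ b ≠ 1 := by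
    intro b _ hb
    refine ⟨fun hb0 => ?_, fun hb1 => ?_⟩
    · subst hb0
      rw [Pairs.Maps, P.ph_codes.1, conj_eq_one_iff] at hb
      exact absurd (h₀.ph_inj (by norm_num) (by norm_num) (hb.trans P.ph_codes.1.symm)) (by norm_num)
    · subst hb1
      have h1 := h₀.maps_z h
      rw [Pairs.Maps] at hb h1
      exact absurd (h₀.ph_inj (by norm_num) (by norm_num) (conj_injective (by rw [MulAut.conj_apply,
        MulAut.conj_apply, hb, h1] : MulAut.conj h (P.ph 10) = MulAut.conj h (P.ph 1)))) (by norm_num)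
  have hw0 : qmul w w = 0 := by
    refine h₀.maps_unique (qmul_lt _ _) (by norm_num) e2 ?_
    rw [Pairs.Maps, P.ph_codes.1]; group
  obtain h1 | h1 | ⟨a, ha, m, hm, n, hn, ea⟩ := conj_ten w hw hw0
  · exact absurd h1 (hne w hw e).1
  · exact absurd h1 (hne w hw e).2
  · refine ⟨P.ph a * (P.w₁ ^ m * P.w₂ ^ n), ⟨a, ha, m, hm, n, hn, rfl⟩, ?_⟩
    have e3 : P.Maps (P.ph a * (P.w₁ ^ m * P.w₂ ^ n)) w 10 := by
      refine P.maps_comp (b := act m (act (3 * n) w)) ?_ (P.maps_self ha (act_lt _ _) (by norm_num) ea)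
      rw [Pairs.Maps, mul_inv_eq_iff_eq_mul, mul_assoc, (P.act_w_pow hn hw).2, ← mul_assoc,
        (P.act_w_pow hm (act_lt _ _)).1, mul_assoc]
    exact mul_inv_eq_iff_eq_mul.1 (P.maps_comp e e3)

theorem quot_four [Finite H] : ∀ S : Set H, (∀ h, h ∈ S) → ∀ r : H,
    (∀ x ∈ S, x ∈ P.kSub ∨ r * x ∈ P.kSub) → False := by
  intro S hS r hr
  haveI := h₀.normalK
  let f : P.kSub × Bool → H := fun x => cond x.2 (x.1 : H) (r⁻¹ * x.1)
  have hf : Function.Surjective f := fun x => by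
    rcases hr x (hS x) with h | h
    · exact ⟨(⟨x, h⟩, true), rfl⟩
    · exact ⟨(⟨r * x, h⟩, false), inv_mul_cancel_left r x⟩
  have := Nat.card_le_card_of_surjective f hf
  rw [Nat.card_prod, h₀.card_kSub, h₀.card] at this
  simp at this

/-- Some element exchanges the two quaternion groups. -/
theorem exists_swap [Finite H] (h4 : Four P) : ∃ h, ¬ P.Stay h := by
  by_contra hall
  push Not at hall
  have kind : ∀ r, Commute r (P.ph 10) → r ∈ P.qSub ∨
      ∃ a ∈ [2, 3], ∃ b ∈ [6, 7], ∃ c ∈ [8, 9], ∃ d ∈ [24, 25],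
        P.Maps r 2 a ∧ P.Maps r 4 b ∧ P.Maps r 8 c ∧ P.Maps r 16 d := by
    intro r hr
    obtain ⟨-, hD⟩ := h4 r hr
    obtain ⟨s1, s2⟩ := h₀.maps_sides r
    obtain ⟨d2, hd2, e2⟩ := hD 2 (by norm_num) (by decide +kernel)
    obtain ⟨d20, hd20, e20⟩ := hD 20 (by norm_num) (by decide +kernel)
    obtain ⟨b, hb, eb⟩ := h₀.exists_maps r (v := 4) (by norm_num)
    obtain ⟨c, hc, ec⟩ := h₀.exists_maps r (v := 8) (by norm_num)
    obtain ⟨d, hd, ed⟩ := h₀.exists_maps r (v := 16) (by norm_num)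
    have hstay := hall r
    have ha : qmul 2 d2 ∈ [2, 3] := by
      have h1 := ((s1 2 (by decide) _ (qmul_lt _ _) e2)).2 hstay
      have f : ∀ d ∈ [0, 1, 10, 11], qmul 2 d ∈ sideOne → qmul 2 d ∈ [2, 3] := by decide +kernel
      exact f d2 hd2 h1
    have m10 : P.Maps r 10 10 := mul_inv_eq_iff_eq_mul.2 hr
    have h10 : qmul (qmul 2 d2) c = 10 := by
      refine h₀.maps_unique (qmul_lt _ _) (by norm_num)
        (P.maps_mul (by norm_num) (qmul_lt _ _) (by norm_num) hc e2 ec) ?_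
      rwa [show qmul 2 8 = 10 by decide +kernel]
    have h20 : qmul b d ∈ [20, 21, 30, 31] := by
      have e := P.maps_mul (by norm_num) hb (by norm_num) hd eb ed
      rw [show qmul 4 16 = 20 by decide +kernel] at e
      rw [h₀.maps_unique (qmul_lt _ _) (qmul_lt _ _) e e20]
      have f : ∀ x ∈ [0, 1, 10, 11], qmul 20 x ∈ [20, 21, 30, 31] := by decide +kernel
      exact f d20 hd20
    obtain ⟨hc', hk⟩ := stay_forms _ ha b ((s1 4 (by decide) b hb eb).2 hstay) c
      ((s2 8 (by decide) c hc ec).2 hstay) d ((s2 16 (by decide) d hd ed).2 hstay) h10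
      (h₀.maps_anti (by norm_num) (qmul_lt _ _) (by norm_num) hb e2 eb (by decide +kernel))
      (h₀.maps_anti (by norm_num) hc (by norm_num) hd ec ed (by decide +kernel)) h20
    rcases hk with ⟨hb', hd'⟩ | ⟨hb', hd'⟩
    · left
      obtain ⟨q, hq, q2, q4, q8, q16⟩ := inner_forms _ ha b hb' c hc' d hd'
      have hcz : ∀ x w, x < 32 → w < 32 → P.Maps r x w → qmul q x = qmul w q →
          Commute ((P.ph q)⁻¹ * r) (P.ph x) := by
        intro x w hx hw e e'
        have h1 : P.Maps (P.ph q) x w := P.maps_self hq hx hw e'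
        have h2 : r * P.ph x * r⁻¹ = P.ph q * P.ph x * (P.ph q)⁻¹ := e.trans h1.symm
        show (P.ph q)⁻¹ * r * P.ph x = P.ph x * ((P.ph q)⁻¹ * r)
        rw [mul_assoc, mul_inv_eq_iff_eq_mul.1 h2]
        group
      obtain ⟨-, -, g2, g4, -, g8, g16, -⟩ := P.ph_codes
      have hin : (P.ph q)⁻¹ * r ∈ P.qSub := h₀.self _ fun x hx => by
        obtain ⟨v, hv, rfl⟩ := hx
        refine P.commute_ph (h₀.central _) ?_ ?_ ?_ ?_ v
        · exact g2 ▸ hcz 2 _ (by norm_num) (qmul_lt _ _) e2 q2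
        · exact g4 ▸ hcz 4 _ (by norm_num) hb eb q4
        · exact g8 ▸ hcz 8 _ (by norm_num) hc ec q8
        · exact g16 ▸ hcz 16 _ (by norm_num) hd ed q16
      simpa using P.qSub.mul_mem (P.ph_mem q hq) hin
    · exact Or.inr ⟨_, ha, b, hb', c, hc', d, hd', e2, eb, ec, ed⟩
  have hQK : P.qSub ≤ P.kSub := by
    rintro _ ⟨v, hv, rfl⟩
    exact ⟨v, hv, 0, by norm_num, 0, by norm_num, by simp⟩
  haveI := h₀.normalK
  by_cases hR : ∃ r0, Commute r0 (P.ph 10) ∧ r0 ∉ P.qSub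
  · obtain ⟨r0, hr0, hr0Q⟩ := hR
    obtain hr0' | ⟨a, ha, b, hb, c, hc, d, hd, e2, e4, e8, e16⟩ := kind r0 hr0
    · exact hr0Q hr0'
    refine h₀.quot_four Set.univ (fun _ => Set.mem_univ _) r0 fun h _ => ?_
    obtain ⟨k, hk, hkh⟩ := h₀.exists_conj_ten h
    rcases kind (k * h) hkh with hq | ⟨a', ha', b', hb', c', hc', d', hd', f2, f4, f8, f16⟩
    · left
      simpa using P.kSub.mul_mem (P.kSub.inv_mem hk) (hQK hq)
    · right
      have hrQ : r0 * (k * h) ∈ P.qSub := by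
        rcases kind _ (hr0.mul_left hkh) with hq | ⟨a'', -, b'', hb'', c'', -, d'', hd'', g2, g4, g8, g16⟩
        · exact hq
        · exfalso
          have small : ∀ x ∈ [2, 3] ++ [6, 7] ++ [8, 9] ++ [24, 25], x < 32 := by decide
          have split : ∀ x ∈ [6, 7], ∃ n ∈ [0, 1], x = qmul n 6 := by decide +kernel
          obtain ⟨n, hn, rfl⟩ := split b' hb'
          have m6 : P.Maps r0 6 (qmul a b) := by
            have := P.maps_mul (by norm_num) (small a (by simp only [List.mem_append]; tauto)) (by norm_num)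
              (small b (by simp only [List.mem_append]; tauto)) e2 e4
            rwa [show qmul 2 4 = 6 by decide +kernel] at this
          have mn : P.Maps r0 n n := by
            simp only [List.mem_cons, List.not_mem_nil, or_false] at hn
            rcases hn with rfl | rfl
            · rw [Pairs.Maps, P.ph_codes.1]; group
            · exact h₀.maps_z r0
          have lt2 : ∀ x ∈ [0, 1], x < 32 := by decide
          have hn32 : n < 32 := lt2 n hn
          have := P.maps_comp f4 (P.maps_mul hn32 hn32 (by norm_num) (qmul_lt _ _) mn m6)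
          have e' := h₀.maps_unique (small b'' (by simp only [List.mem_append]; tauto)) (qmul_lt _ _) g4 this
          have hbad := (stay_compose a ha b hb c hc d hd n hn).1
          rw [← e'] at hbad
          have f : ∀ x ∈ [6, 7], x ∉ [4, 5] := by decide
          exact f b'' hb'' hbad
      have : r0 * h = (r0 * k⁻¹ * r0⁻¹) * (r0 * (k * h)) := by group
      rw [this]
      exact P.kSub.mul_mem (Subgroup.Normal.conj_mem inferInstance _ (P.kSub.inv_mem hk) r0) (hQK hrQ)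
  · push Not at hR
    refine h₀.quot_four Set.univ (fun _ => Set.mem_univ _) 1 fun h _ => ?_
    obtain ⟨k, hk, hkh⟩ := h₀.exists_conj_ten h
    left
    simpa using P.kSub.mul_mem (P.kSub.inv_mem hk) (hQK (hR _ hkh))

/-- Squares lie in the product of the factors. -/
theorem sq_mem (h4 : Four P) (h : H) : h * h ∈ P.kSub := by
  haveI := h₀.normalK
  obtain ⟨k, hk, hkh⟩ := h₀.exists_conj_ten h
  obtain ⟨v, hv, e⟩ := (h4 _ hkh).1
  have : h * h = k⁻¹ * ((k * h) * k⁻¹ * (k * h)⁻¹) * (k * h * (k * h)) := by group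
  rw [this]
  exact P.kSub.mul_mem (P.kSub.mul_mem (P.kSub.inv_mem hk)
    (Subgroup.Normal.conj_mem inferInstance _ (P.kSub.inv_mem hk) _))
    ⟨v, hv, 0, by norm_num, 0, by norm_num, by simpa using e⟩

end Hyp

end Cfsg.Agent.U43
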